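import Cfsg.Agent.M12U.Tools
import Cfsg.Agent.Invol.CoreOddEmbedded
import Cfsg.Agent.RadFree.Linear
import Mathlib.LinearAlgebra.Matrix.GeneralLinearGroup.Card
import Mathlib.Algebra.Module.ZMod
import Mathlib.LinearAlgebra.Dimension.Free

/-!
An involution whose commuting conjugates fill an elementary abelian group of order 8.
-/

set_option autoImplicit false
set_option linter.style.haveILetI false
set_option linter.unusedSectionVars false

namespace CfsgLib.C192

open Subgroup CfsgLib.Invol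

universe u

/-- Conjugation on a group of exponent two and order 8, as matrices. -/
theorem exists_gl {G : Type u} [Group G] [Finite G] (E : Subgroup G) [hEn : E.Normal]
    (hE8 : Nat.card E = 8) (hsq : ∀ e ∈ E, e * e = 1) :
    ∃ ψ : G →* GL (Fin 3) (ZMod 2), ∀ g, ψ g = 1 ↔ ∀ e ∈ E, g * e * g⁻¹ = e := by
  classical
  have hcomm : ∀ x y : E, x * y = y * x := fun x y => by
    have hx := inv_eq_of_mul_eq_one_right (hsq x x.2)
    have hy := inv_eq_of_mul_eq_one_right (hsq y y.2)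
    have hxy := inv_eq_of_mul_eq_one_right (hsq (x * y) (mul_mem x.2 y.2))
    rw [mul_inv_rev, hx, hy] at hxy
    exact Subtype.ext hxy.symm
  letI : CommGroup E := { (inferInstance : Group E) with mul_comm := hcomm }
  haveI : Fact (Nat.Prime 2) := ⟨Nat.prime_two⟩
  haveI : Module (ZMod 2) (Additive E) := AddCommGroup.zmodModule fun v => by
    apply Additive.toMul.injective
    rw [toMul_nsmul, toMul_zero, pow_two]
    exact Subtype.ext (hsq _ v.toMul.2)
  haveI : Fintype E := Fintype.ofFinite E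
  have hdim : Module.finrank (ZMod 2) (Additive E) = 3 := by
    have h := Module.card_eq_pow_finrank (K := ZMod 2) (V := Additive E)
    rw [ZMod.card, show Fintype.card (Additive E) = 8 by
      rw [← Nat.card_eq_fintype_card, ← hE8]; exact Nat.card_congr Additive.toMul] at h
    exact Nat.pow_right_injective le_rfl (show 2 ^ _ = 2 ^ 3 by rw [← h])
  let b := Module.finBasisOfFinrankEq (ZMod 2) (Additive E) hdim
  let j : MulAut E →* (Additive E →ₗ[ZMod 2] Additive E) :=
    { toFun := fun φ => (MonoidHom.toAdditive φ.toMonoidHom).toZModLinearMap 2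
      map_one' := LinearMap.ext fun v => rfl
      map_mul' := fun φ ψ => LinearMap.ext fun v => rfl }
  have hj : Function.Injective j.toHomUnits := fun φ ψ h => MulEquiv.ext fun x => by
    have h1 := congrArg (fun u : (Additive E →ₗ[ZMod 2] Additive E)ˣ =>
      (u : Additive E →ₗ[ZMod 2] Additive E) (Additive.ofMul x)) h
    exact congrArg Additive.toMul h1
  let m := Units.mapEquiv (LinearMap.toMatrixAlgEquiv b).toMulEquiv
  refine ⟨m.toMonoidHom.comp (j.toHomUnits.comp (MulAut.conjNormal (H := E))), fun g => ?_⟩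
  rw [MonoidHom.comp_apply, MonoidHom.comp_apply, MulEquiv.coe_toMonoidHom, EmbeddingLike.map_eq_one_iff,
    ← map_one j.toHomUnits, hj.eq_iff]
  constructor
  · intro h e he
    have h1 := congrArg Subtype.val (DFunLike.congr_fun h (⟨e, he⟩ : E))
    rwa [MulAut.conjNormal_apply] at h1
  · intro h
    ext x
    rw [MulAut.conjNormal_apply]
    exact h x x.2

variable {G : Type u} [Group G] [Finite G]

/-- The recognition of the groups with normal elementary abelian subgroup of order 8 and quotient `GL(3,2)`. -/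
theorem affine {z : G} (hz : orderOf z = 2) (E : Subgroup G) (hE8 : Nat.card E = 8)
    (hsq : ∀ e ∈ E, e * e = 1) (hzE : z ∈ E) (hC : Nat.card (centralizer ({z} : Set G)) = 192)
    (hconj : ∀ e ∈ E, e ≠ 1 → IsConj z e) (hclosed : ∀ x, IsConj z x → x * z = z * x → x ∈ E)
    (hcent : ∀ x, x * z = z * x → (∀ e ∈ E, x * e = e * x) → x ∈ E)
    (hex : ∃ j, orderOf j = 2 ∧ j * z = z * j ∧ j ∉ E)
    (h2 : ∀ j y, orderOf j = 2 → j * z = z * j → j ∉ E → y * z = z * y → y * j = j * y → ∃ k : ℕ, y ^ 2 ^ k = 1) :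
    ∃ (N : Subgroup G) (hN : N.Normal), IsMulCommutative N ∧ (∀ n ∈ N, n ^ 2 = 1) ∧ Nat.card N = 8 ∧
      Nonempty (G ⧸ N ≃* Matrix.ProjectiveSpecialLinearGroup (Fin 3) (ZMod 2)) := by
  classical
  haveI : Fact (Nat.Prime 2) := ⟨Nat.prime_two⟩
  have hinv : ∀ e ∈ E, e⁻¹ = e := fun e he => inv_eq_of_mul_eq_one_right (hsq e he)
  have hEc : ∀ x ∈ E, ∀ y ∈ E, x * y = y * x := fun x hx y hy => by
    have h := hinv (x * y) (mul_mem hx hy)
    rw [mul_inv_rev, hinv x hx, hinv y hy] at h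
    exact h.symm
  have key : ∀ g, g * z * g⁻¹ ∈ E → g ∈ normalizer (E : Set G) := by
    intro g hg
    have hle : E.map (MulAut.conj g⁻¹).toMonoidHom ≤ E := by
      rintro _ ⟨y, hy, rfl⟩
      show g⁻¹ * y * g⁻¹⁻¹ ∈ E
      by_cases hy1 : y = 1
      · simp [hy1]
      refine hclosed _ ((hconj y hy hy1).trans (isConj_iff.mpr ⟨g⁻¹, rfl⟩)) ?_
      have := hEc y hy _ hg
      calc g⁻¹ * y * g⁻¹⁻¹ * z = g⁻¹ * (y * (g * z * g⁻¹)) * g := by group
        _ = g⁻¹ * (g * z * g⁻¹ * y) * g := by rw [this]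
        _ = z * (g⁻¹ * y * g⁻¹⁻¹) := by group
    have heq : E.map (MulAut.conj g⁻¹).toMonoidHom = E :=
      eq_of_le_of_card_ge hle (card_map_of_injective (MulAut.conj g⁻¹).injective).ge
    rw [mem_normalizer_iff]
    intro x
    refine ⟨fun hx => ?_, fun hx => ?_⟩
    · rw [← heq] at hx
      obtain ⟨y, hy, rfl⟩ := hx
      show g * (g⁻¹ * y * g⁻¹⁻¹) * g⁻¹ ∈ E
      simpa [mul_assoc] using hy
    · have := hle ⟨_, hx, rfl⟩
      simpa [mul_assoc] using this
  set H := normalizer (E : Set G) with hH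
  have hmv : ∀ {g x : G}, g ∈ H → x ∈ E → g * x * g⁻¹ ∈ E := fun hg hx => (mem_normalizer_iff.1 hg _).1 hx
  have key' : ∀ g e, e ∈ E → e ≠ 1 → g * e * g⁻¹ ∈ E → g ∈ H := by
    intro g e he he1 hg
    obtain ⟨q, hq⟩ := isConj_iff.mp (hconj e he he1)
    have hqH : q ∈ H := key q (hq ▸ he)
    have : g * q ∈ H := key _ (by rw [mul_inv_rev]; convert hg using 1; rw [← hq]; group)
    simpa [mul_assoc] using mul_mem this (inv_mem hqH)
  have hCH : ∀ e ∈ E, e ≠ 1 → ∀ g, g * e = e * g → g ∈ H := fun e he he1 g hg =>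
    key' g e he he1 (by rw [hg, mul_inv_cancel_right]; exact he)
  have hclosed' : ∀ e ∈ E, e ≠ 1 → ∀ x, IsConj z x → x * e = e * x → x ∈ E := by
    intro e he he1 x hx hxe
    obtain ⟨q, hq⟩ := isConj_iff.mp (hconj e he he1)
    have hqH : q ∈ H := key q (hq ▸ he)
    have h := hclosed (q⁻¹ * x * q) (hx.trans (isConj_iff.mpr ⟨q⁻¹, by group⟩)) (by
      calc q⁻¹ * x * q * z = q⁻¹ * (x * e) * q := by rw [← hq]; group
        _ = q⁻¹ * (e * x) * q := by rw [hxe]
        _ = z * (q⁻¹ * x * q) := by rw [← hq]; group)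
    have := hmv hqH h
    simpa [mul_assoc] using this
  -- an involution of `H` outside `E` moves exactly one coset
  have hfix : ∀ i ∈ H, orderOf i = 2 → ∃ e ∈ E, e ≠ 1 ∧ e * i = i * e := by
    intro i hi hi2
    have hz1 : z ≠ 1 := ne_one hz
    by_cases hc : z * i = i * z
    · exact ⟨z, hzE, hz1, hc⟩
    have hm := hmv hi hzE
    refine ⟨z * (i * z * i⁻¹), mul_mem hzE hm, fun e => hc ?_, ?_⟩
    · have h1 : i * z * i⁻¹ = z := by rw [eq_inv_of_mul_eq_one_right e, hinv z hzE]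
      exact (mul_inv_eq_iff_eq_mul.mp h1).symm
    · have hii : i⁻¹ = i := inv_eq_self hi2
      have e1 : i * (z * (i * z * i⁻¹)) * i⁻¹ = (i * z * i⁻¹) * (i * i * z * (i * i)⁻¹) := by group
      rw [mul_self_eq_one hi2, one_mul, inv_one, mul_one, hEc _ hm _ hzE] at e1
      exact (mul_inv_eq_iff_eq_mul.mp e1).symm
  have hout : ∀ j ∈ H, orderOf j = 2 → j ∉ E →
      (∃ u ∈ E, u ≠ 1 ∧ u * j = j * u ∧ ∀ e ∈ E, e * j ≠ j * e → e * (j * e * j⁻¹) = u) ∧
      Nat.card {e : E // (e : G) * j = j * e} = 4 := by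
    intro j hj hj2 hjE
    have hjj : j⁻¹ = j := inv_eq_self hj2
    let φ : E →* E :=
      { toFun := fun e => ⟨(e : G) * (j * e * j⁻¹), mul_mem e.2 (hmv hj e.2)⟩
        map_one' := Subtype.ext (by simp)
        map_mul' := fun a b => Subtype.ext (by
          show (a : G) * b * (j * (a * b) * j⁻¹) = a * (j * a * j⁻¹) * (b * (j * b * j⁻¹))
          calc (a : G) * b * (j * (a * b) * j⁻¹) = a * (b * (j * a * j⁻¹)) * (j * b * j⁻¹) := by group
            _ = a * ((j * a * j⁻¹) * b) * (j * b * j⁻¹) := by rw [hEc _ b.2 _ (hmv hj a.2)]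
            _ = _ := by group) }
    have hker : ∀ e : E, e ∈ φ.ker ↔ (e : G) * j = j * e := by
      intro e
      rw [MonoidHom.mem_ker, Subtype.ext_iff]
      show (e : G) * (j * e * j⁻¹) = 1 ↔ _
      rw [mul_eq_one_iff_inv_eq, hinv _ e.2, eq_mul_inv_iff_mul_eq]
    have him : ∀ e : E, φ e ∈ φ.ker := fun e => by
      rw [hker]
      show (e : G) * (j * e * j⁻¹) * j = j * (e * (j * e * j⁻¹))
      have h1 : j * (j * e * j⁻¹) * j⁻¹ = e := by
        calc j * (j * e * j⁻¹) * j⁻¹ = (j * j) * e * (j * j)⁻¹ := by group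
          _ = e := by rw [mul_self_eq_one hj2, one_mul, inv_one, mul_one]
      have h3 : j * ((e : G) * (j * e * j⁻¹)) * j⁻¹ = e * (j * e * j⁻¹) := by
        rw [show j * ((e : G) * (j * e * j⁻¹)) * j⁻¹ = (j * e * j⁻¹) * (j * (j * e * j⁻¹) * j⁻¹) by group, h1,
          hEc _ (hmv hj e.2) _ e.2]
      exact (mul_inv_eq_iff_eq_mul.mp h3).symm
    obtain ⟨e₀, he₀, hne₀⟩ : ∃ e ∈ E, e * j ≠ j * e := by
      by_contra hcon
      push Not at hcon
      exact hjE (hcent j (hcon z hzE).symm fun e he => (hcon e he).symm)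
    have hprod : Nat.card φ.ker * Nat.card φ.range = 8 := by
      rw [← Subgroup.index_ker, Subgroup.card_mul_index, hE8]
    have hle : Nat.card φ.range ≤ Nat.card φ.ker :=
      Subgroup.card_le_of_le (fun x ⟨e, he⟩ => he ▸ him e)
    have hk8 : Nat.card φ.ker ≠ 8 := fun h => hne₀ ((hker ⟨e₀, he₀⟩).mp (by
      rw [Subgroup.eq_top_of_card_eq φ.ker (h.trans hE8.symm)]; exact mem_top _))
    have hk4 : Nat.card φ.ker = 4 ∧ Nat.card φ.range = 2 := by
      have hd : Nat.card φ.ker ∣ 8 := ⟨_, hprod.symm⟩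
      have := Nat.le_of_dvd (by norm_num) hd
      interval_cases hk : Nat.card φ.ker <;> omega
    refine ⟨⟨_, (φ ⟨e₀, he₀⟩).2, fun h => hne₀ ((hker ⟨e₀, he₀⟩).mp (MonoidHom.mem_ker.mpr (Subtype.ext h))),
      (hker _).mp (him _), fun e he hne => ?_⟩, ?_⟩
    · obtain ⟨a, ha⟩ := Nat.card_eq_two_iff' (1 : φ.range) |>.mp hk4.2
      have e1 : (⟨φ ⟨e, he⟩, ⟨_, rfl⟩⟩ : φ.range) = a := ha.2 _ fun h =>
        hne ((hker ⟨e, he⟩).mp (MonoidHom.mem_ker.mpr (congrArg Subtype.val h)))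
      have e2 : (⟨φ ⟨e₀, he₀⟩, ⟨_, rfl⟩⟩ : φ.range) = a := ha.2 _ fun h =>
        hne₀ ((hker ⟨e₀, he₀⟩).mp (MonoidHom.mem_ker.mpr (congrArg Subtype.val h)))
      exact congrArg (fun x : φ.range => ((x : E) : G)) (e1.trans e2.symm)
    · rw [← hk4.1]
      exact Nat.card_congr (Equiv.subtypeEquivRight fun e => (hker e).symm)
  have hcinv : ∀ i ∈ H, orderOf i = 2 → centralizer ({i} : Set G) ≤ H := by
    intro j hj hj2 g hg
    rw [mem_centralizer_singleton_iff] at hg
    by_cases hjE : j ∈ E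
    · exact hCH j hjE (ne_one hj2) g hg
    obtain ⟨⟨u₀, hu₀, hu₀1, hu₀j, huniq⟩, hV⟩ := hout j hj hj2 hjE
    have two : ∀ u ∈ E, u ≠ 1 → u * j = j * u → ∀ y, y * u = u * y → y * j = j * y → ∃ k : ℕ, y ^ 2 ^ k = 1 := by
      intro u hu hu1 huj y hyu hyj
      obtain ⟨q, hq⟩ := isConj_iff.mp (hconj u hu hu1)
      have hqH : q ∈ H := key q (hq ▸ hu)
      obtain ⟨k, hk⟩ := h2 (q⁻¹ * j * q) (q⁻¹ * y * q)
        (by rw [show q⁻¹ * j * q = q⁻¹ * j * q⁻¹⁻¹ by group, orderOf_conj_eq, hj2])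
        (by calc q⁻¹ * j * q * z = q⁻¹ * (j * u) * q := by rw [← hq]; group
              _ = q⁻¹ * (u * j) * q := by rw [huj]
              _ = _ := by rw [← hq]; group)
        (fun h => hjE (by have := hmv hqH h; simpa [mul_assoc] using this))
        (by calc q⁻¹ * y * q * z = q⁻¹ * (y * u) * q := by rw [← hq]; group
              _ = q⁻¹ * (u * y) * q := by rw [hyu]
              _ = _ := by rw [← hq]; group)
        (by calc q⁻¹ * y * q * (q⁻¹ * j * q) = q⁻¹ * (y * j) * q := by group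
              _ = q⁻¹ * (j * y) * q := by rw [hyj]
              _ = _ := by group)
      refine ⟨k, ?_⟩
      rw [show q⁻¹ * y * q = q⁻¹ * y * q⁻¹⁻¹ by group, conj_pow, conj_eq_one_iff] at hk
      exact hk
    set X := centralizer ({j} : Set G) with hX
    have hXm : ∀ {x}, x ∈ X ↔ x * j = j * x := fun {x} => mem_centralizer_singleton_iff
    have hu₀2 : orderOf u₀ = 2 := orderOf_eq_prime (by rw [pow_two]; exact hsq _ hu₀) hu₀1
    obtain ⟨N, hNX, hNodd, hNn, hdec, hNinv, -, -⟩ := CfsgLib.M12U.zstar_in (K := X) (hXm.mpr hu₀j) hu₀2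
      (fun x hx hxu => two u₀ hu₀ hu₀1 hu₀j x hxu (hXm.mp hx)) (fun k hk hc => by
        obtain ⟨q, hq⟩ := isConj_iff.mp (hconj u₀ hu₀ hu₀1)
        have hw : k * u₀ * k⁻¹ ∈ E := hclosed' u₀ hu₀ hu₀1 _
          ((hconj u₀ hu₀ hu₀1).trans (isConj_iff.mpr ⟨k, rfl⟩)) hc
        have hkH : k ∈ H := key' k u₀ hu₀ hu₀1 hw
        obtain ⟨e, he, hne⟩ : ∃ e ∈ E, e * j ≠ j * e := by
          by_contra hcon
          push Not at hcon
          exact hjE (hcent j (hcon z hzE).symm fun e he => (hcon e he).symm)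
        have hkj : k * j * k⁻¹ = j := mul_inv_eq_iff_eq_mul.mpr (hXm.mp hk)
        have hne' : k * e * k⁻¹ * j ≠ j * (k * e * k⁻¹) := fun h => hne (by
          rw [← hkj, conj_mul, conj_mul] at h
          exact mul_left_cancel (mul_right_cancel h))
        rw [← huniq e he hne]
        conv_rhs => rw [huniq e he hne, ← huniq _ (hmv hkH he) hne']
        conv_rhs => rw [← hkj]
        group)
    have hNtriv : ∀ n ∈ N, ∀ u ∈ E, u ≠ 1 → u * j = j * u → n * u = u * n → n = 1 := by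
      intro n hn u hu hu1 huj hnu
      obtain ⟨k, hk⟩ := two u hu hu1 huj n hnu (hXm.mp (hNX hn))
      have h1 : orderOf n ∣ Nat.card N := Subgroup.orderOf_dvd_natCard _ hn
      obtain ⟨i, -, hi⟩ := (Nat.dvd_prime_pow Nat.prime_two).mp (orderOf_dvd_of_pow_eq_one hk)
      rcases i with _ | i
      · exact orderOf_eq_one_iff.mp (by rw [hi, pow_zero])
      · exact absurd (Odd.of_dvd_nat hNodd h1) (by rw [hi, pow_succ]; simp [Nat.odd_iff])
    obtain ⟨u₁, hu₁, hu₁1, hu₁0, hu₁j⟩ : ∃ u ∈ E, u ≠ 1 ∧ u ≠ u₀ ∧ u * j = j * u := by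
      by_contra hcon
      push Not at hcon
      haveI := Fintype.ofFinite {e : E // (e : G) * j = j * e}
      have hinj : Function.Injective fun e : {e : E // (e : G) * j = j * e} => decide ((e.1 : G) = 1) := by
        intro a b h
        have hab : ∀ c : {e : E // (e : G) * j = j * e}, (c.1 : G) ≠ 1 → (c.1 : G) = u₀ := fun c hc => by
          by_contra h0
          exact hcon _ c.1.2 hc h0 c.2
        refine Subtype.ext (Subtype.ext ?_)
        simp only [decide_eq_decide] at h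
        by_cases ha : (a.1 : G) = 1
        · rw [ha, h.mp ha]
        · rw [hab a ha, hab b fun hb => ha (h.mpr hb)]
      have := Nat.card_le_card_of_injective _ hinj
      rw [hV] at this
      simp at this
    obtain ⟨hinv1, -⟩ := CfsgLib.M12U.inverts_of_fpf (N := N) (hsq u₁ hu₁)
      (fun n hn => hNn u₁ (hXm.mpr hu₁j) n hn)
      (fun n hn hc => hNtriv n hn u₁ hu₁ hu₁1 hu₁j (mul_inv_eq_iff_eq_mul.mp hc).symm)
    have hN1 : ∀ n ∈ N, n = 1 := by
      intro n hn
      refine hNtriv n hn (u₀ * u₁) (mul_mem hu₀ hu₁) (fun h => hu₁0 ?_) ?_ ?_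
      · rw [eq_inv_of_mul_eq_one_right h, hinv _ hu₀]
      · rw [mul_assoc, hu₁j, ← mul_assoc, hu₀j, mul_assoc]
      · have e : u₀ * u₁ * n * (u₀ * u₁)⁻¹ = n := by
          rw [show u₀ * u₁ * n * (u₀ * u₁)⁻¹ = u₀ * (u₁ * n * u₁⁻¹) * u₀⁻¹ by group, hinv1 n hn,
            hNinv _ (inv_mem hn), inv_inv]
        exact (mul_inv_eq_iff_eq_mul.mp e).symm
    obtain ⟨n, hn, c, -, hcu, rfl⟩ := hdec g (hXm.mpr hg)
    rw [hN1 n hn, one_mul]
    exact hCH u₀ hu₀ hu₀1 c hcu
  have hnormal : ∀ g, g ∈ H := by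
    by_contra hcon
    push Not at hcon
    obtain ⟨g, hg⟩ := hcon
    have hEH : ∀ x ∈ E, x ∈ H := fun x hx => Subgroup.le_normalizer hx
    have heven : Even (Nat.card H) := even_iff_two_dvd.mpr (hz ▸ Subgroup.orderOf_dvd_natCard _ (hEH z hzE))
    by_cases hodd : Odd (Nat.card H.normalCore)
    · obtain ⟨j, hj2, hjz, hjE⟩ := hex
      exact hjE (hclosed j (CfsgLib.CoreOdd.isConj_all heven hcinv hodd z j hz hj2) hjz)
    rw [Nat.not_odd_iff_even] at hodd
    obtain ⟨i, hi⟩ := exists_prime_orderOf_dvd_card' (G := H.normalCore) 2 hodd.two_dvd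
    rw [← orderOf_coe] at hi
    have hiH : (i : G) ∈ H := H.normalCore_le i.2
    obtain ⟨u, hu, hu1, hucore⟩ : ∃ u ∈ E, u ≠ 1 ∧ u ∈ H.normalCore := by
      by_cases hiE : (i : G) ∈ E
      · exact ⟨i, hiE, ne_one hi, i.2⟩
      obtain ⟨⟨u, hu, hu1, -, huniq⟩, -⟩ := hout i hiH hi hiE
      obtain ⟨e, he, hne⟩ : ∃ e ∈ E, e * (i : G) ≠ i * e := by
        by_contra hcon
        push Not at hcon
        exact hiE (hcent i (hcon z hzE).symm fun e he => (hcon e he).symm)
      refine ⟨u, hu, hu1, ?_⟩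
      rw [← huniq e he hne, show e * ((i : G) * e * (i : G)⁻¹) = (e * i * e⁻¹) * (e * e) * (i : G)⁻¹ by group, hsq e he, mul_one]
      exact mul_mem ((Subgroup.normalCore_normal H).conj_mem _ i.2 e) (inv_mem i.2)
    obtain ⟨q, hq⟩ := isConj_iff.mp (hconj u hu hu1)
    have hxcore : g * z * g⁻¹ ∈ H.normalCore := by
      rw [show g * z * g⁻¹ = (g * q⁻¹) * (q * z * q⁻¹) * (g * q⁻¹)⁻¹ by group, hq]
      exact (Subgroup.normalCore_normal H).conj_mem _ hucore _
    obtain ⟨e, he, he1, hec⟩ := hfix _ (H.normalCore_le hxcore) (by rw [orderOf_conj_eq, hz])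
    exact hg (key g (hclosed' e he he1 _ (isConj_iff.mpr ⟨g, rfl⟩) hec.symm))
  haveI hEn : E.Normal := ⟨fun x hx g => hmv (hnormal g) hx⟩
  obtain ⟨ψ, hψ⟩ := exists_gl E hE8 hsq
  have hker : ψ.ker = E := by
    ext g
    rw [MonoidHom.mem_ker, hψ]
    refine ⟨fun h => hcent g ?_ fun e he => mul_inv_eq_iff_eq_mul.mp (h e he), fun hg e he => ?_⟩
    · exact mul_inv_eq_iff_eq_mul.mp (h z hzE)
    · rw [hEc g hg e he, mul_inv_cancel_right]
  have hindex : (centralizer ({z} : Set G)).index = 7 := by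
    letI : MulAction G {e : E // (e : G) ≠ 1} :=
      { smul := fun g e => ⟨⟨g * (e.1 : G) * g⁻¹, hmv (hnormal g) e.1.2⟩, fun h => e.2 (conj_eq_one_iff.mp h)⟩
        one_smul := fun e => Subtype.ext (Subtype.ext (by show (1 : G) * _ * 1⁻¹ = _; group))
        mul_smul := fun a b e => Subtype.ext (Subtype.ext (by
          show a * b * (e.1 : G) * (a * b)⁻¹ = a * (b * e.1 * b⁻¹) * a⁻¹; group)) }
    let z' : {e : E // (e : G) ≠ 1} := ⟨⟨z, hzE⟩, ne_one hz⟩
    have hstab : MulAction.stabilizer G z' = centralizer ({z} : Set G) := by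
      ext g
      rw [MulAction.mem_stabilizer_iff, mem_centralizer_singleton_iff, ← mul_inv_eq_iff_eq_mul]
      exact ⟨fun h => congrArg (fun e : {e : E // (e : G) ≠ 1} => (e.1 : G)) h, fun h => Subtype.ext (Subtype.ext h)⟩
    have horb : MulAction.orbit G z' = Set.univ := Set.eq_univ_of_forall fun e => by
      obtain ⟨q, hq⟩ := isConj_iff.mp (hconj _ e.1.2 e.2)
      exact ⟨q, Subtype.ext (Subtype.ext hq)⟩
    rw [← hstab, MulAction.index_stabilizer, horb, Set.ncard_univ]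
    haveI := Fintype.ofFinite E
    rw [show {e : E // (e : G) ≠ 1} = {e : E // ¬ (e : G) = 1} from rfl]
    have h1 : Nat.card {e : E // (e : G) = 1} = 1 := Nat.card_eq_one_iff_exists.mpr
      ⟨⟨1, rfl⟩, fun e => Subtype.ext (Subtype.ext e.2)⟩
    rw [Nat.card_eq_fintype_card] at h1 hE8 ⊢
    rw [Fintype.card_subtype_compl, hE8, h1]
  have hG : Nat.card G = 1344 := by
    rw [← Subgroup.card_mul_index (centralizer ({z} : Set G)), hC, hindex]
  have hsurj : Function.Surjective ψ := by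
    rw [← MonoidHom.range_eq_top]
    refine Subgroup.eq_top_of_card_eq _ ?_
    have h1 := Subgroup.card_mul_index ψ.ker
    rw [Subgroup.index_ker, hker, hE8, hG] at h1
    have h2 : Nat.card ψ.range = 168 := by omega
    rw [h2, Matrix.card_GL_field]
    simp [Fin.prod_univ_three, ZMod.card]
  obtain ⟨ι⟩ := CfsgLib.RadFree.gl_equiv_psl 3
  exact ⟨E, hEn, ⟨⟨fun a b => Subtype.ext (hEc a a.2 b b.2)⟩⟩, fun n hn => by rw [pow_two]; exact hsq n hn, hE8,
    ⟨((QuotientGroup.quotientMulEquivOfEq hker.symm).trans (QuotientGroup.quotientKerEquivOfSurjective ψ hsurj)).trans ι⟩⟩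

end CfsgLib.C192
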