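import Cfsg.Agent.C192.K10Eight
import Cfsg.Agent.C192.Affine

/-!
The third kind of centralizer: the fused classes and the resulting groups.
-/

set_option autoImplicit false
set_option linter.unusedSectionVars false
set_option linter.unusedVariables false
set_option maxRecDepth 100000

namespace CfsgLib.C192.K10

open CfsgLib.Coset CfsgLib.Invol

/-- The classes of involutions, with representatives. -/
def clsR : List (Nat × List Nat) := [(9, cls1), (166, cls2), (160, cls3), (7, cls4), (35, cls5)]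

theorem cls_ok : (clsR.all fun p => Nat.blt p.1 192 &&
    p.2.all fun i => Nat.blt i 192 && (List.range 192).any fun h => isCj h p.1 i) = true := by decide +kernel

theorem invols_ok : ((List.range 192).all fun i => !(invB mT i) || nE1.contains i ||
    (cls2 ++ cls3 ++ cls4 ++ cls5).contains i) = true := by decide +kernel

theorem pushed_ok : (good1.all fun f => ([cls4, cls5] : List (List Nat)).all fun c => c.any fun y =>
    nD1.contains y && thru nD1 (ap nD1 f y) fun u => (cls2 ++ cls3).contains u ||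
      thru nD1 (ap nD1 f u) fun v => (cls2 ++ cls3).contains v) = true := by decide +kernel

theorem nE1_ok : nE1.contains 0 = true ∧ closB mT nE1 = true ∧ invsB mT nE1 = true ∧
    (nE1.all fun i => Nat.beq i 0 || Nat.beq i 8 || cls1.contains i) = true ∧
    (invB mT 104 = true ∧ nE1.contains 104 = false ∧ invB mT 8 = true) := by decide +kernel

theorem two_ok : ((List.range 192).all fun j => !(invB mT j) || nE1.contains j ||
    (List.range 192).all fun y => !(comB mT y j) || p8B mT y) = true := by decide +kernel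

theorem auto_ok : sigOK ns_to2 ws_to2 = true ∧ sigOK ns_to3 ws_to3 = true ∧ sigOK ns_p13 ws_p13 = true ∧
    ([(sg ns_to2 9, cls2), (sg ns_to2 166, cls3), (sg ns_to2 160, cls1), (sg ns_to3 9, cls3), (sg ns_to3 166, cls1),
      (sg ns_to3 160, cls2), (sg ns_p13 9, cls1), (sg ns_p13 166, cls3)].all fun p => p.2.contains p.1) = true := by
  decide +kernel

universe u

variable {G : Type u} [Group G] [Finite G] {z : G} {L : List G}

theorem fus_iff (Lo : Loc10 z L) {r : Nat} {c : List Nat} (hp : (r, c) ∈ clsR) {i : Nat} (hi : i ∈ c) :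
    IsConj z (el L i) ↔ IsConj z (el L r) := by
  have h := List.all_eq_true.mp cls_ok _ hp
  simp only [Bool.and_eq_true, List.all_eq_true, Nat.blt_eq, List.any_eq_true, List.mem_range] at h
  obtain ⟨hi', x, hx, hxc⟩ := h.2 i hi
  have e : IsConj (el L r) (el L i) := isConj_iff.mpr ⟨el L x,
    (Lo.cod.conj_eq_iff hx h.1 hi').mpr (Nat.eq_of_beq_eq_true hxc)⟩
  exact ⟨fun h' => h'.trans e.symm, fun h' => h'.trans e⟩

/-- Two fused classes give an alternating group. -/
theorem two_classes (Lo : Loc10 z L) (h1 : IsConj z (el L 9)) (h2 : IsConj z (el L 166)) :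
    Nonempty (G ≃* alternatingGroup (Fin 8)) ∨ Nonempty (G ≃* alternatingGroup (Fin 9)) := by
  obtain ⟨L', g1, g2, S⟩ := exists_std Lo h1 h2
  obtain ⟨ψ, N, -, -⟩ := exists_eight S
  exact N.classify

/-- One fused class gives an affine group. -/
theorem one_class (Lo : Loc10 z L) (h1 : IsConj z (el L 9)) (n2 : ¬ IsConj z (el L 166))
    (n3 : ¬ IsConj z (el L 160)) :
    ∃ (N : Subgroup G) (hN : N.Normal), IsMulCommutative N ∧ (∀ n ∈ N, n ^ 2 = 1) ∧ Nat.card N = 8 ∧
      Nonempty (G ⧸ N ≃* Matrix.ProjectiveSpecialLinearGroup (Fin 3) (ZMod 2)) := by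
  classical
  have C := Lo.cod
  obtain ⟨h0, hcl, hinv, hE, h104, h104E, h8⟩ := nE1_ok
  have hlt : ∀ i ∈ nE1, i < 192 := by decide
  have hmem : ∀ {x : G}, x ∈ Subgroup.closure {x : G | ∃ i ∈ nE1, x = el L i} ↔ ∃ i ∈ nE1, x = el L i :=
    fun {x} => ⟨fun hx => C.closure_nodes h0 hcl hinv (fun y hy => hy) hx, fun hx => Subgroup.subset_closure hx⟩
  set E := Subgroup.closure {x : G | ∃ i ∈ nE1, x = el L i}
  have hcard : Nat.card E = 8 := by
    let f : {i : Nat // i ∈ nE1.toFinset} → E := fun i =>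
      ⟨el L i, hmem.mpr ⟨i, List.mem_toFinset.mp i.2, rfl⟩⟩
    have hf : Function.Bijective f := by
      refine ⟨fun a b h => Subtype.ext (C.inj _ (hlt _ (List.mem_toFinset.mp a.2)) _
        (hlt _ (List.mem_toFinset.mp b.2)) (congrArg Subtype.val h)), ?_⟩
      rintro ⟨x, hx⟩
      obtain ⟨i, hi, rfl⟩ := hmem.mp hx
      exact ⟨⟨i, List.mem_toFinset.mpr hi⟩, rfl⟩
    rw [← Nat.card_eq_of_bijective f hf, Nat.card_eq_fintype_card, Fintype.card_coe]
    decide
  obtain ⟨g, hg⟩ := mv1 Lo h1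
  obtain ⟨f, hf, hA, -, -⟩ := good1_of Lo hg
  have no23 : ∀ i ∈ cls2 ++ cls3, ¬ IsConj z (el L i) := by
    intro i hi h
    rcases List.mem_append.mp hi with hi | hi
    · exact n2 ((fus_iff Lo (by simp [clsR]) hi).mp h)
    · exact n3 ((fus_iff Lo (by simp [clsR]) hi).mp h)
  have no45 : ∀ c ∈ ([cls4, cls5] : List (List Nat)), ∀ r, (r, c) ∈ clsR → ∀ i ∈ c, ¬ IsConj z (el L i) := by
    intro c hc r hr i hi h
    have hp := List.all_eq_true.mp (List.all_eq_true.mp pushed_ok f hf) c hc
    obtain ⟨y, hy, hy'⟩ := List.any_eq_true.mp hp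
    rw [Bool.and_eq_true, List.contains_iff_mem] at hy'
    have hyc := (fus_iff Lo hr hy).mpr ((fus_iff Lo hr hi).mp h)
    obtain ⟨hu, eu⟩ := hA y hy'.1
    have h1 : IsConj z (el L (ap nD1 f y)) := hyc.trans (isConj_iff.mpr ⟨g, eu⟩)
    have h2 := thru_elim hy'.2
    rcases Bool.or_eq_true_iff.mp h2 with h3 | h3
    · exact no23 _ (List.contains_iff_mem.mp h3) h1
    · obtain ⟨hv, ev'⟩ := hA _ hu
      exact no23 _ (List.contains_iff_mem.mp (thru_elim h3)) (h1.trans (isConj_iff.mpr ⟨g, ev'⟩))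
  refine affine (C.zord h8) E hcard (fun e he => ?_) (hmem.mpr ⟨8, by decide, C.zeq⟩)
    Lo.card (fun e he hne => ?_) (fun x hx hxz => ?_) (fun x hxz hxE => ?_) ?_ (fun j y hj hjz hjE hyz hyj => ?_)
  · obtain ⟨i, hi, rfl⟩ := hmem.mp he
    have hsq : (nE1.all fun i => Nat.beq (mT i i) 0) = true := by decide +kernel
    rw [C.mul i (hlt i hi) i (hlt i hi), Nat.eq_of_beq_eq_true (List.all_eq_true.mp hsq i hi), C.one]
  · obtain ⟨i, hi, rfl⟩ := hmem.mp he
    have h := List.all_eq_true.mp hE i hi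
    simp only [Bool.or_eq_true, Nat.beq_eq, List.contains_iff_mem] at h
    rcases h with (rfl | rfl) | h
    · exact absurd C.one hne
    · rw [← C.zeq]
    · exact (fus_iff Lo (by simp [clsR]) h).mpr h1
  · have ho : orderOf x = 2 := by
      obtain ⟨c, rfl⟩ := isConj_iff.mp hx
      rw [← C.zord h8, orderOf_eq_orderOf_iff]
      intro n
      rw [conj_pow]
      simp
    obtain ⟨i, hi, hib, rfl⟩ := C.invol_node hxz ho
    have h := List.all_eq_true.mp invols_ok i (List.mem_range.mpr hi)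
    simp only [hib, Bool.not_true, Bool.false_or, Bool.or_eq_true, List.contains_iff_mem, List.mem_append] at h
    rcases h with h | ((h | h) | h) | h
    · exact hmem.mpr ⟨i, h, rfl⟩
    · exact absurd hx (no23 i (List.mem_append_left _ h))
    · exact absurd hx (no23 i (List.mem_append_right _ h))
    · exact absurd hx (no45 cls4 (by simp) 7 (by simp [clsR]) i h)
    · exact absurd hx (no45 cls5 (by simp) 35 (by simp [clsR]) i h)
  · obtain ⟨i, hi, rfl⟩ := C.surj x hxz
    have he := e_ok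
    simp only [List.all_cons, List.all_nil, Bool.and_true, Bool.and_eq_true] at he
    have := List.all_eq_true.mp he.1.2 i (List.mem_range.mpr hi)
    rw [Bool.or_eq_true, Bool.not_eq_true', ← Bool.not_eq_true, List.contains_iff_mem] at this
    exact hmem.mpr ⟨i, this.resolve_left fun hn => hn (List.all_eq_true.mpr fun w hw =>
      (C.comm_iff hi (hlt w hw)).mp (hxE _ (hmem.mpr ⟨w, hw, rfl⟩))), rfl⟩
  · refine ⟨el L 104, (C.ord_iff (by norm_num)).mpr h104, C.mem _, fun h => ?_⟩
    obtain ⟨i, hi, he⟩ := hmem.mp h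
    rw [← C.inj 104 (by norm_num) i (hlt i hi) he, ← List.contains_iff_mem, h104E] at hi
    exact Bool.false_ne_true hi
  · obtain ⟨a, ha, hab, rfl⟩ := C.invol_node hjz hj
    obtain ⟨b, hb, rfl⟩ := C.surj y hyz
    have h := List.all_eq_true.mp two_ok a (List.mem_range.mpr ha)
    simp only [hab, Bool.not_true, Bool.false_or, Bool.or_eq_true, List.contains_iff_mem, List.all_eq_true,
      List.mem_range, Bool.not_eq_true'] at h
    have h2 := (h.resolve_left fun hn => hjE (hmem.mpr ⟨a, hn, rfl⟩)) b hb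
    rw [(C.comm_iff hb ha).mp hyj] at h2
    exact ⟨3, C.pow8 hb (h2.resolve_left (by decide))⟩

/-- Groups with a centralizer of the third kind and a fused class. -/
theorem classify_fused (Lo : Loc10 z L) (hf : ∃ i ∈ cls1 ++ cls2 ++ cls3, IsConj z (el L i)) :
    (∃ (N : Subgroup G) (hN : N.Normal), IsMulCommutative N ∧ (∀ n ∈ N, n ^ 2 = 1) ∧ Nat.card N = 8 ∧
      Nonempty (G ⧸ N ≃* Matrix.ProjectiveSpecialLinearGroup (Fin 3) (ZMod 2))) ∨
    Nonempty (G ≃* alternatingGroup (Fin 8)) ∨ Nonempty (G ≃* alternatingGroup (Fin 9)) := by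
  obtain ⟨o2, o3, op, hs⟩ := auto_ok
  simp only [List.all_cons, List.all_nil, Bool.and_true, Bool.and_eq_true, List.contains_iff_mem] at hs
  obtain ⟨a9, a166, a160, b9, b166, b160, p9, p166⟩ := hs
  obtain ⟨L2, e2⟩ := Lo.map o2
  obtain ⟨L3, e3⟩ := Lo.map o3
  obtain ⟨Lp, ep⟩ := Lo.map op
  have F1 := fun {i} (h : i ∈ cls1) => fus_iff Lo (r := 9) (by simp [clsR]) h
  have F2 := fun {i} (h : i ∈ cls2) => fus_iff Lo (r := 166) (by simp [clsR]) h
  have F3 := fun {i} (h : i ∈ cls3) => fus_iff Lo (r := 160) (by simp [clsR]) h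
  by_cases h1 : IsConj z (el L 9) <;> by_cases h2 : IsConj z (el L 166) <;> by_cases h3 : IsConj z (el L 160)
  · exact Or.inr (two_classes Lo h1 h2)
  · exact Or.inr (two_classes Lo h1 h2)
  · exact Or.inr (two_classes Lp (by rw [(ep 9).1]; exact (F1 p9).mpr h1) (by rw [(ep 166).1]; exact (F3 p166).mpr h3))
  · exact Or.inl (one_class Lo h1 h2 h3)
  · exact Or.inr (two_classes L2 (by rw [(e2 9).1]; exact (F2 a9).mpr h2) (by rw [(e2 166).1]; exact (F3 a166).mpr h3))
  · refine Or.inl (one_class L2 ?_ ?_ ?_)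
    · rw [(e2 9).1]; exact (F2 a9).mpr h2
    · rw [(e2 166).1, F3 a166]; exact h3
    · rw [(e2 160).1, F1 a160]; exact h1
  · refine Or.inl (one_class L3 ?_ ?_ ?_)
    · rw [(e3 9).1]; exact (F3 b9).mpr h3
    · rw [(e3 166).1, F1 b166]; exact h1
    · rw [(e3 160).1, F2 b160]; exact h2
  · exfalso
    obtain ⟨i, hi, h⟩ := hf
    simp only [List.mem_append] at hi
    rcases hi with (hi | hi) | hi
    exacts [h1 ((F1 hi).mp h), h2 ((F2 hi).mp h), h3 ((F3 hi).mp h)]

end CfsgLib.C192.K10
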