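import Cfsg.Agent.C192.T00
import Cfsg.Agent.M12U.Iso

/-!
The centralizer of the first type: an affine group or the Mathieu group of degree 12.
-/

set_option autoImplicit false
set_option linter.unusedSectionVars false
set_option maxRecDepth 100000

namespace CfsgLib.C192.T00

open CfsgLib.Coset CfsgLib.Invol
open CfsgLib.J2U (pathW)

/-- The nodes of the two generators and their inverses. -/
def rs : List Nat := [46, 0, 30, 0]

theorem hrs : invB m 0 = false ∧ ∃ r' s', r' < 192 ∧ s' < 192 ∧ m 46 r' = 0 ∧ m 30 s' = 0 ∧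
    (M12U.relsH.all fun w => Nat.beq (evN m [46, r', 30, s'] w) 0) = true ∧
    Nat.beq (evN m [46, r', 30, s'] [0, 0, 0, 0]) 8 = true ∧
    ([([3, 1, 1, 2], 1), ([3, 0, 0, 2], 2), ([2, 1, 2, 1], 3), ([0, 3, 0, 3], 4), ([2, 1, 2, 1, 3], 5),
      ([2, 0, 3, 0, 3], 6), ([1, 1, 3, 1, 2], 7), ([1, 1, 3, 1, 2], 7)].all fun p =>
        Nat.beq (evN m [46, r', 30, s'] p.1) p.2) = true := by
  refine ⟨by decide +kernel, 69, 20, by norm_num, by norm_num, ?_⟩
  decide +kernel

theorem hletters : follow (tget Tb) 0 [0] = 1 ∧ follow (tget Tb) 0 [1] = 2 ∧ follow (tget Tb) 0 [2] = 3 ∧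
    follow (tget Tb) 0 [3] = 4 ∧ follow (tget Tb) 0 [4] = 5 ∧ follow (tget Tb) 0 [5] = 6 ∧
    follow (tget Tb) 0 [6] = 7 ∧ follow (tget Tb) 0 [7] = 7 ∧
    follow (tget M12U.TH.Tb) 0 (pathW M12U.TH.Par 12 41) = follow (tget M12U.TH.Tb) 0 [0, 0, 0, 0] := by decide +kernel

variable {G : Type*} [Group G] [Finite G]

/-- Generators of the centralizer satisfying the short presentation. -/
theorem exists_loc {z : G} {L : List G} (hlen : L.length = 8) (hrel : ∀ w ∈ relsC false false, ev L w = 1)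
    (hgen : Subgroup.closure {x | x ∈ L} = Subgroup.centralizer ({z} : Set G))
    (hcard : Nat.card (Subgroup.centralizer ({z} : Set G)) = 192) (hz : z = ev L [0, 0]) :
    ∃ r s, M12U.Loc z r s := by
  have C := cod hlen hrel hgen hcard hz
  set el : Nat → G := fun i => ev L (pathW Par 12 i)
  obtain ⟨-, r', s', hr, hs, hr1, hs1, hrels, hz4, hgens⟩ := hrs
  have h46 : (46 : Nat) < 192 := by norm_num
  have h30 : (30 : Nat) < 192 := by norm_num
  have ei : ∀ {i j}, i < 192 → j < 192 → m i j = 0 → el j = (el i)⁻¹ := fun hi hj h =>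
    (inv_eq_of_mul_eq_one_right (by rw [C.mul _ hi _ hj, h, C.one])).symm
  have hns : ∀ i ∈ [46, r', 30, s'], i < 192 := by
    simp only [List.mem_cons, List.not_mem_nil, or_false]
    rintro i (rfl | rfl | rfl | rfl) <;> assumption
  have hLH : M12U.LH (el 46) (el 30) = ([46, r', 30, s'] : List Nat).map el := by
    simp [M12U.LH, ei h46 hr hr1, ei h30 hs hs1]
  have hev := fun w => C.evN_eq hns hLH w
  have hcmem : ∀ w, ev (M12U.LH (el 46) (el 30)) w ∈ Subgroup.centralizer ({z} : Set G) := fun w => by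
    rw [(hev w).2]; exact Subgroup.mem_centralizer_singleton_iff.mpr (C.mem _)
  have hrelH : ∀ w ∈ M12U.relsH, ev (M12U.LH (el 46) (el 30)) w = 1 := fun w hw => by
    rw [(hev w).2, Nat.eq_of_beq_eq_true (List.all_eq_true.mp hrels w hw), C.one]
  refine ⟨el 46, el 30, hrelH, ?_, hcard, ?_⟩
  · refine le_antisymm ((Subgroup.closure_le _).mpr fun x hx => ?_) ?_
    · simp only [Set.mem_ofPred_eq, M12U.LH, List.mem_cons, List.not_mem_nil, or_false] at hx
      have hC : ∀ i, el i ∈ Subgroup.centralizer ({z} : Set G) := fun i =>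
        Subgroup.mem_centralizer_singleton_iff.mpr (C.mem i)
      rcases hx with rfl | rfl | rfl | rfl
      exacts [hC _, inv_mem (hC _), hC _, inv_mem (hC _)]
    · rw [← hgen, Subgroup.closure_le]
      intro x hx
      obtain ⟨l, hl, rfl⟩ := List.getElem_of_mem hx
      obtain ⟨w1, w2, w3, w4, w5, w6, w7, w8, -⟩ := hletters
      simp only [List.all_cons, List.all_nil, Bool.and_true, Bool.and_eq_true, Nat.beq_eq] at hgens
      obtain ⟨g1, g2, g3, g4, g5, g6, g7, g8⟩ := hgens
      have key : ∀ {w : List Nat} {n : Nat}, follow (tget Tb) 0 [l] = n → evN m [46, r', 30, s'] w = n →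
          L[l] ∈ (Subgroup.closure {x | x ∈ M12U.LH (el 46) (el 30)} : Subgroup G) := by
        intro w n hn hw
        have e : L[l] = ev L [l] := by simp [ev_cons, ev_nil, fl, List.getD_eq_getElem, hl]
        rw [e, (word hlen hrel (by simp; omega) hn).2]
        show el n ∈ _
        rw [← hw, ← (hev w).2]
        clear hw hn e
        induction w with
        | nil => rw [ev_nil]; exact one_mem _
        | cons a w ih => rw [ev_cons]; exact mul_mem (mem_closure_fl a) ih
      have hl8 : l < 8 := hlen ▸ hl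
      interval_cases l
      exacts [key w1 g1, key w2 g2, key w3 g3, key w4 g4, key w5 g5, key w6 g6, key w7 g7, key w8 g8]
  · have hinv := CfsgLib.J2U.inv_of_rels (show (M12U.LH (el 46) (el 30)).length = 4 from rfl) hrelH
      M12U.ivH_table M12U.ivH_out
    have hT : TableOK (M12U.LH (el 46) (el 30)) (⊥ : Subgroup G) M12U.TH.E M12U.ivH 192 M12U.TH.Rep M12U.TH.Tb :=
      tableOK_of_check hinv M12U.TH.hR M12U.TH.hdefs M12U.TH.hsteps M12U.TH.htable hrelH
      (by simp [M12U.TH.subs])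
    rw [CfsgLib.J2U.ev_eq_of_follow hT (by norm_num) ((CfsgLib.J2U.checkPath_iff M12U.path_ok (show 41 < 192 by norm_num)).1) (v := [0, 0, 0, 0])
      (by simp [M12U.LH]) hletters.2.2.2.2.2.2.2.2, (hev _).2, Nat.eq_of_beq_eq_true hz4]
    exact C.zeq

/-- The groups with this centralizer. -/
theorem classify {z : G} (hG : M12U.Fused z) {L : List G} (hlen : L.length = 8)
    (hrel : ∀ w ∈ relsC false false, ev L w = 1)
    (hgen : Subgroup.closure {x | x ∈ L} = Subgroup.centralizer ({z} : Set G))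
    (hcard : Nat.card (Subgroup.centralizer ({z} : Set G)) = 192) (hz : z = ev L [0, 0]) :
    (∃ (N : Subgroup G) (hN : N.Normal), IsMulCommutative N ∧ (∀ n ∈ N, n ^ 2 = 1) ∧ Nat.card N = 8 ∧
      Nonempty (G ⧸ N ≃* Matrix.ProjectiveSpecialLinearGroup (Fin 3) (ZMod 2))) ∨ Cfsg.Spor.IsoM12 G := by
  obtain ⟨r, s, Lo⟩ := exists_loc hlen hrel hgen hcard hz
  rcases Lo.exists_case hG with ⟨g, t, ht, h3, hact⟩ | ⟨r', s', g, Lo', h3, hact⟩
  · exact Or.inl (Lo.caseA_affine hG ht h3 hact)
  · obtain ⟨g', S⟩ := Lo'.exists_std h3 hact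
    exact Or.inr (M12U.iso_of_std S hG)

end CfsgLib.C192.T00
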