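import Cfsg.Agent.C192.T01
import Cfsg.Agent.C192.T11

/-!
The two centralizers in which the inverting element squares to the central involution admit no fusion.
-/

set_option autoImplicit false
set_option linter.unusedSectionVars false
set_option maxRecDepth 100000

namespace CfsgLib.C192

open CfsgLib.Coset CfsgLib.Invol
open CfsgLib.J2U (pathW)

/-- The nodes of the normal subgroup of order 32 when the inverting element squares to `z`. -/
def nQ1 : List Nat := [0, 1, 2, 3, 4, 9, 10, 11, 70, 73, 74, 77, 80, 83, 84, 87, 104, 107, 112, 115, 118, 121, 126, 129, 133, 137, 142, 146, 160, 163, 166, 169]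

/-- Every involution other than `c` in the list is bad. -/
noncomputable def allBad (m : Nat → Nat → Nat) (c : Nat) (S : List Nat) : Bool :=
  S.all fun i => Nat.beq i c || !(invB m i) || badB m c i

variable {G : Type*} [Group G] [Finite G]

theorem Cod.no_conj {z : G} {m : Nat → Nat → Nat} {c : Nat} {el : Nat → G} (C : Cod z m c el) (hz : orderOf z = 2)
    {S : List Nat} (hb : allBad m c S = true) {q : G} (hq : ∃ i ∈ S, q = el i) (hlt : ∀ i ∈ S, i < 192)
    (hc : IsConj z q) : q = z := by
  obtain ⟨i, hi, rfl⟩ := hq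
  have h := List.all_eq_true.mp hb i hi
  obtain ⟨g, hg⟩ := isConj_iff.mp hc
  have h2 : invB m i = true := (C.ord_iff (hlt i hi)).mp (by rw [← hg, orderOf_conj_eq, hz])
  simp only [Bool.or_eq_true, Nat.beq_eq, Bool.not_eq_true', h2, Bool.true_eq_false, or_false] at h
  rcases h with h | h
  · rw [h, ← C.zeq]
  · exact absurd hc (C.not_conj (hlt i hi) h)

namespace T01

theorem hQ : nQ1.contains 0 = true ∧ closB m nQ1 = true ∧ invsB m nQ1 = true ∧ allBad m 9 nQ1 = true := by decide +kernel

theorem hletters : follow (tget Tb) 0 [0] = 1 ∧ follow (tget Tb) 0 [4, 0, 5] = 70 ∧ follow (tget Tb) 0 [2] = 3 ∧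
    follow (tget Tb) 0 [4, 2, 5] = 74 := by decide +kernel

variable {G : Type*} [Group G] [Finite G]

theorem no_fusion {z : G} (hz2 : orderOf z = 2) {L : List G} (hlen : L.length = 8)
    (hrel : ∀ w ∈ relsC false true, ev L w = 1)
    (hgen : Subgroup.closure {x | x ∈ L} = Subgroup.centralizer ({z} : Set G))
    (hcard : Nat.card (Subgroup.centralizer ({z} : Set G)) = 192) (hz : z = ev L [0, 0]) {q : G}
    (hq : q ∈ Subgroup.closure ({ev L [0], ev L [4, 0, 5], ev L [2], ev L [4, 2, 5]} : Set G))
    (hc : IsConj z q) : q = z := by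
  have C := cod hlen hrel hgen hcard hz
  obtain ⟨h0, hS, hi, hb⟩ := hQ
  obtain ⟨w1, w2, w3, w4⟩ := hletters
  refine C.no_conj hz2 hb (C.closure_nodes h0 hS hi (fun x hx => ?_) hq) (fun i hi' => ?_) hc
  · simp only [Set.mem_insert_iff, Set.mem_singleton_iff] at hx
    rcases hx with rfl | rfl | rfl | rfl
    exacts [⟨1, by decide, (word hlen hrel (by decide) w1).2⟩, ⟨70, by decide, (word hlen hrel (by decide) w2).2⟩,
      ⟨3, by decide, (word hlen hrel (by decide) w3).2⟩, ⟨74, by decide, (word hlen hrel (by decide) w4).2⟩]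
  · simp only [closB, List.all_eq_true, Bool.and_eq_true, Nat.blt_eq] at hS
    exact (hS i hi').1

end T01

namespace T11

theorem hQ : nQ1.contains 0 = true ∧ closB m nQ1 = true ∧ invsB m nQ1 = true ∧ allBad m 9 nQ1 = true := by decide +kernel

theorem hletters : follow (tget Tb) 0 [0] = 1 ∧ follow (tget Tb) 0 [4, 0, 5] = 70 ∧ follow (tget Tb) 0 [2] = 3 ∧
    follow (tget Tb) 0 [4, 2, 5] = 74 := by decide +kernel

variable {G : Type*} [Group G] [Finite G]

theorem no_fusion {z : G} (hz2 : orderOf z = 2) {L : List G} (hlen : L.length = 8)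
    (hrel : ∀ w ∈ relsC true true, ev L w = 1)
    (hgen : Subgroup.closure {x | x ∈ L} = Subgroup.centralizer ({z} : Set G))
    (hcard : Nat.card (Subgroup.centralizer ({z} : Set G)) = 192) (hz : z = ev L [0, 0]) {q : G}
    (hq : q ∈ Subgroup.closure ({ev L [0], ev L [4, 0, 5], ev L [2], ev L [4, 2, 5]} : Set G))
    (hc : IsConj z q) : q = z := by
  have C := cod hlen hrel hgen hcard hz
  obtain ⟨h0, hS, hi, hb⟩ := hQ
  obtain ⟨w1, w2, w3, w4⟩ := hletters
  refine C.no_conj hz2 hb (C.closure_nodes h0 hS hi (fun x hx => ?_) hq) (fun i hi' => ?_) hc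
  · simp only [Set.mem_insert_iff, Set.mem_singleton_iff] at hx
    rcases hx with rfl | rfl | rfl | rfl
    exacts [⟨1, by decide, (word hlen hrel (by decide) w1).2⟩, ⟨70, by decide, (word hlen hrel (by decide) w2).2⟩,
      ⟨3, by decide, (word hlen hrel (by decide) w3).2⟩, ⟨74, by decide, (word hlen hrel (by decide) w4).2⟩]
  · simp only [closB, List.all_eq_true, Bool.and_eq_true, Nat.blt_eq] at hS
    exact (hS i hi').1

end T11

end CfsgLib.C192
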