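import Cfsg.Agent.C192.Extract
import Cfsg.Prelude.Def_Transfer

/-!
From the hypotheses on the centralizer to generators and relations.
-/

set_option autoImplicit false
set_option linter.style.haveILetI false
set_option linter.unusedSectionVars false

namespace CfsgLib.C192

open CfsgLib.Coset Subgroup

variable {G : Type*} [Group G] [Finite G]

/-- The quaternion pair data and the inverting element. -/
theorem exists_data (s : G) (hs : orderOf s = 2) (C : Subgroup G) (hC : C = centralizer ({s} : Set G))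
    (Qc : Subgroup C) [Qc.Normal]
    (hQc : Nat.card Qc = 32) (Q : Subgroup G) (hQdef : Q = Qc.map C.subtype) (hQex : Cfsg.IsExtraspecial 2 Q)
    (θ : C →* Equiv.Perm (Fin 3)) (hθs : Function.Surjective θ) (hθ : θ.ker = Qc)
    (X : Sylow 3 C)
    (hCQX : Q ⊓ centralizer (((X : Subgroup C).map C.subtype : Subgroup G) : Set G) = zpowers s) :
    ∃ sw sq : Bool, ∃ L : List G, L.length = 8 ∧ (∀ w ∈ relsC sw sq, ev L w = 1) ∧
      closure {x | x ∈ L} = C ∧ Nat.card C = 192 ∧ s = ev L [0, 0] ∧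
      Q ≤ closure {ev L [0], ev L [4, 0, 5], ev L [2], ev L [4, 2, 5]} := by
  classical
  haveI : Fact (Nat.Prime 3) := ⟨Nat.prime_three⟩
  haveI : Fact (Nat.Prime 2) := ⟨Nat.prime_two⟩
  have hQmem : ∀ {q : G}, q ∈ Q ↔ ∃ h : q ∈ C, (⟨q, h⟩ : C) ∈ Qc := fun {q} => by
    subst hQdef
    constructor
    · rintro ⟨a, ha, rfl⟩; exact ⟨a.2, ha⟩
    · rintro ⟨h, hq⟩; exact ⟨_, hq, rfl⟩
  have hQ32 : Nat.card Q = 32 := by rw [hQdef, Subgroup.card_map_of_injective C.subtype_injective, hQc]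
  have hcardC : Nat.card C = 192 := by
    have h := Qc.card_mul_index
    rw [hQc, ← hθ, Subgroup.index_ker, MonoidHom.range_eq_top.mpr hθs, card_top, Nat.card_perm, Nat.card_fin] at h
    simp [Nat.factorial] at h
    omega
  have hmemC : ∀ {q : G}, q ∈ C ↔ q * s = s * q := fun {q} => hC ▸ mem_centralizer_singleton_iff
  have hsQ : s ∈ Q := (Subgroup.mem_inf.mp (hCQX.symm.le (mem_zpowers s))).1
  have hQcen : ∀ q ∈ Q, s * q = q * s := fun q hq => (hmemC.mp (hQmem.mp hq).1).symm
  have hs1 : s ≠ 1 := CfsgLib.Invol.ne_one hs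
  have hss : s * s = 1 := CfsgLib.Invol.mul_self_eq_one hs
  have hzs : ∀ {q : G}, q ∈ zpowers s → q = 1 ∨ q = s := by
    intro q hq
    obtain ⟨k, rfl⟩ := mem_zpowers_iff.mp hq
    rcases Int.even_or_odd k with ⟨l, rfl⟩ | ⟨l, rfl⟩
    · left; rw [← two_mul, zpow_mul]; norm_cast; rw [pow_two, hss, one_zpow]
    · right; rw [zpow_add, zpow_mul]; norm_cast; rw [pow_two, hss, one_zpow, one_mul, pow_one]
  have hcenter : ∀ q : Q, q ∈ center Q → (q : G) = 1 ∨ (q : G) = s := by
    intro q hq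
    let sQ : Q := ⟨s, hsQ⟩
    have hsc : sQ ∈ center Q := mem_center_iff.mpr fun g => Subtype.ext (hQcen g g.2).symm
    obtain ⟨a, ha⟩ := Nat.card_eq_two_iff' (1 : center Q) |>.mp hQex.2
    by_cases h : (⟨q, hq⟩ : center Q) = 1
    · exact Or.inl (congrArg (fun c : center Q => ((c : Q) : G)) h)
    · have e := (ha.2 _ h).trans (ha.2 (⟨sQ, hsc⟩ : center Q) fun h' =>
        hs1 (congrArg (fun c : center Q => ((c : Q) : G)) h')).symm
      exact Or.inr (congrArg (fun c : center Q => ((c : Q) : G)) e)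
  have hXcard : Nat.card (X : Subgroup C) = 3 := by
    have h1 : (X : Subgroup C).index * Nat.card (X : Subgroup C) = 192 := by rw [index_mul_card, hcardC]
    have h3 : 3 ∣ Nat.card (X : Subgroup C) := X.dvd_card_of_dvd_card (by rw [hcardC]; norm_num)
    obtain ⟨n, hn⟩ := IsPGroup.iff_card.mp X.2
    have hd : 3 ^ n ∣ 192 := ⟨_, by rw [← hn, mul_comm, h1]⟩
    have : n < 2 := by
      by_contra hcon
      exact absurd ((pow_dvd_pow 3 (not_lt.mp hcon)).trans hd) (by norm_num)
    interval_cases n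
    · rw [hn] at h3; norm_num at h3
    · exact hn
  obtain ⟨x₀, hx₀, hx₀1⟩ : ∃ x ∈ (X : Subgroup C), x ≠ 1 := by
    by_contra hcon
    push Not at hcon
    rw [(eq_bot_iff_forall _).mpr hcon, card_bot] at hXcard
    omega
  have hx₀o : orderOf x₀ = 3 := by
    rcases (Nat.dvd_prime Nat.prime_three).mp (hXcard ▸ Subgroup.orderOf_dvd_natCard _ hx₀) with h | h
    · exact absurd (orderOf_eq_one_iff.mp h) hx₀1
    · exact h
  have hX : (X : Subgroup C) = zpowers x₀ :=
    (eq_of_le_of_card_ge (zpowers_le.mpr hx₀) (by rw [Nat.card_zpowers, hx₀o, hXcard])).symm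
  set x : G := (x₀ : G)
  have hxs : x * s = s * x := hmemC.mp x₀.2
  have hnormQ : ∀ (c : C) {q : G}, q ∈ Q → (c : G) * q * (c : G)⁻¹ ∈ Q := fun c q hq => by
    obtain ⟨h, hq⟩ := hQmem.mp hq
    exact hQmem.mpr ⟨(c * ⟨q, h⟩ * c⁻¹ : C).2, (inferInstance : Qc.Normal).conj_mem _ hq c⟩
  have hfix : ∀ a ∈ Q, x * a * x⁻¹ = a → a = 1 ∨ a = s := by
    intro a ha h
    refine hzs (hCQX ▸ ⟨ha, ?_⟩)
    show a ∈ centralizer _
    rw [mem_centralizer_iff]
    rintro _ ⟨w, hw, rfl⟩
    rw [hX] at hw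
    obtain ⟨k, rfl⟩ := mem_zpowers_iff.mp hw
    have hc : Commute x a := mul_inv_eq_iff_eq_mul.mp h
    show ((x₀ ^ k : C) : G) * a = a * ((x₀ ^ k : C) : G)
    rw [Subgroup.coe_zpow]
    exact (hc.zpow_left k).eq
  have D : QData s Q x :=
    { sQ := hsQ
      s1 := hs1
      ss := hss
      cen := hQcen
      comm := fun a ha b hb => by
        have h := CfsgLib.Extraspecial.commutator_mem_center hQex (⟨a, ha⟩ : Q) ⟨b, hb⟩
        rcases hcenter _ h with h | h
        · exact Or.inl (commutatorElement_eq_one_iff_mul_comm.mp (Subtype.ext h) |> congrArg Subtype.val)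
        · refine Or.inr ?_
          have h' : a * b * a⁻¹ * b⁻¹ = s := h
          rw [← h']; group
      sq := fun a ha => by
        have h := CfsgLib.Extraspecial.pow_mem_center hQex (⟨a, ha⟩ : Q)
        have := hcenter _ h
        simpa [pow_two] using this
      norm := fun a ha => hnormQ x₀ ha
      x3 := by
        show (x₀ : G) ^ 3 = 1
        rw [← Subgroup.coe_pow, ← hx₀o, pow_orderOf_eq_one, Subgroup.coe_one]
      xs := by rw [hxs, mul_inv_cancel_right]
      fix := hfix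
      nonab := by
        by_contra hcon
        push Not at hcon
        exact CfsgLib.Extraspecial.not_isMulCommutative hQex ⟨⟨fun a b => Subtype.ext (hcon a a.2 b b.2)⟩⟩
      center := fun q hq h => hcenter ⟨q, hq⟩ (mem_center_iff.mpr fun g => Subtype.ext (h g g.2).symm)
      card := hQ32 }
  have hθx1 : θ x₀ ≠ 1 := fun h => by
    have hxQ : x ∈ Q := hQmem.mpr ⟨x₀.2, hθ ▸ MonoidHom.mem_ker.mpr h⟩
    rcases D.fix x hxQ (by group) with e | e
    · exact hx₀1 (Subtype.ext e)
    · have := D.x3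
      rw [e, pow_succ, pow_two, hss, one_mul] at this
      exact hs1 this
  have hx3' : x₀ ^ 3 = 1 := hx₀o ▸ pow_orderOf_eq_one x₀
  have hθx3 : θ x₀ ^ 3 = 1 := by rw [← map_pow, hx3', map_one]
  obtain ⟨y, hyN, hysign⟩ : ∃ y : C, y ∈ normalizer ((X : Subgroup C) : Set C) ∧ Equiv.Perm.sign (θ y) = -1 := by
    set M := (alternatingGroup (Fin 3)).comap θ with hM
    haveI : M.Normal := Normal.comap inferInstance θ
    have hXM : (X : Subgroup C) ≤ M := by
      intro w hw
      rw [hM, mem_comap, Equiv.Perm.mem_alternatingGroup]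
      refine perm_three_even _ ?_
      have h := orderOf_dvd_iff_pow_eq_one.mp (hXcard ▸ Subgroup.orderOf_dvd_natCard (X : Subgroup C) hw)
      rw [← map_pow, h, map_one]
    have htop := Sylow.normalizer_sup_eq_top (N := M) (X.subtype hXM)
    rw [Sylow.coe_subtype, Subgroup.map_subgroupOf_eq_of_le hXM] at htop
    by_contra hcon
    push Not at hcon
    have hle : normalizer ((X : Subgroup C) : Set C) ≤ M := fun w hw => by
      rw [hM, mem_comap, Equiv.Perm.mem_alternatingGroup]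
      exact (Int.units_eq_one_or _).resolve_right (hcon w hw)
    rw [sup_eq_right.mpr hle] at htop
    obtain ⟨w, hw⟩ := hθs (Equiv.swap 0 1)
    have := (htop ▸ mem_top w : w ∈ M)
    rw [hM, mem_comap, hw, Equiv.Perm.mem_alternatingGroup, Equiv.Perm.sign_swap (by decide)] at this
    exact absurd this (by decide)
  obtain ⟨hne, hsq⟩ := perm_three_comm _ (θ y) hθx3 hθx1 hysign
  have hy : (y : G) * x * (y : G)⁻¹ = x⁻¹ := by
    have hm : y * x₀ * y⁻¹ ∈ zpowers x₀ := hX ▸ (mem_normalizer_iff.mp hyN x₀).mp hx₀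
    obtain ⟨k, hk⟩ := mem_zpowers_iff.mp hm
    rw [← zpow_mod_orderOf, hx₀o] at hk
    have h0 := Int.emod_nonneg k (show (3 : ℤ) ≠ 0 by norm_num)
    have h3 := Int.emod_lt_of_pos k (show (0 : ℤ) < 3 by norm_num)
    generalize hr : k % ((3 : ℕ) : ℤ) = r at hk
    have hr' : r = 0 ∨ r = 1 ∨ r = 2 := by push_cast at hr; omega
    rcases hr' with rfl | rfl | rfl
    · exfalso
      rw [zpow_zero, eq_comm, conj_eq_one_iff] at hk
      exact hx₀1 hk
    · exfalso
      rw [zpow_one, eq_comm, mul_inv_eq_iff_eq_mul] at hk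
      exact hne (by rw [← map_mul, ← map_mul, hk])
    · have e : y * x₀ * y⁻¹ = x₀⁻¹ := by
        rw [← hk, eq_inv_iff_mul_eq_one, show x₀ ^ (2 : ℤ) * x₀ = x₀ ^ 3 by group, ← hx₀o, pow_orderOf_eq_one]
      exact congrArg (fun c : C => (c : G)) e
  have hys : (y : G) * s * (y : G)⁻¹ = s := by rw [hmemC.mp y.2, mul_inv_cancel_right]
  have hyy : (y : G) * y = 1 ∨ (y : G) * y = s := by
    refine D.fix _ (hQmem.mpr ⟨mul_mem y.2 y.2, hθ ▸ MonoidHom.mem_ker.mpr (show θ (y * y) = 1 by rw [map_mul, hsq])⟩) ?_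
    have e : (y : G) * y * x * ((y : G) * y)⁻¹ = x := by
      calc _ = (y : G) * ((y : G) * x * (y : G)⁻¹) * (y : G)⁻¹ := by group
        _ = x := by rw [hy, ← conj_inv, hy, inv_inv]
    exact mul_inv_eq_iff_eq_mul.mpr (mul_inv_eq_iff_eq_mul.mp e).symm
  obtain ⟨sw, sq, i, k, t, P, ⟨m, htm⟩, hrel⟩ := exists_gens D (fun a ha => hnormQ y ha) hy hys hyy
  refine ⟨sw, sq, [i, i⁻¹, k, k⁻¹, x, x⁻¹, t, t⁻¹], rfl, hrel, ?_, hcardC, ?_, ?_⟩
  · have htC : t ∈ C := htm ▸ mul_mem (pow_mem x₀.2 m) y.2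
    set S := closure {w | w ∈ [i, i⁻¹, k, k⁻¹, x, x⁻¹, t, t⁻¹]} with hS
    have hgi : i ∈ S := subset_closure (by simp)
    have hgk : k ∈ S := subset_closure (by simp)
    have hgx : x ∈ S := subset_closure (by simp)
    have hgt : t ∈ S := subset_closure (by simp)
    refine le_antisymm ((closure_le _).mpr fun w hw => ?_) fun g hg => ?_
    · have hQC : ∀ q ∈ Q, q ∈ C := fun q hq => (hQmem.mp hq).1
      simp only [List.mem_cons, List.not_mem_nil, or_false, Set.mem_ofPred_eq] at hw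
      rcases hw with rfl | rfl | rfl | rfl | rfl | rfl | rfl | rfl
      exacts [hQC _ P.left.mem, inv_mem (hQC _ P.left.mem), hQC _ P.right.mem, inv_mem (hQC _ P.right.mem), x₀.2,
        inv_mem x₀.2, htC, inv_mem htC]
    · let t₀ : C := ⟨t, htC⟩
      have hsign : Equiv.Perm.sign (θ t₀) = -1 := by
        have e : t₀ = x₀ ^ m * y := Subtype.ext htm
        rw [e, map_mul, map_pow, map_mul, map_pow, perm_three_even _ hθx3, one_pow, one_mul, hysign]
      obtain ⟨a, b, hab⟩ := perm_three_gen _ (θ t₀) (θ ⟨g, hg⟩) hθx3 hθx1 hsign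
      set c : C := x₀ ^ a.val * t₀ ^ b.val with hc
      have hq : (c⁻¹ * ⟨g, hg⟩ : C) ∈ Qc := by
        rw [← hθ, MonoidHom.mem_ker, map_mul, map_inv, hab, hc, map_mul, map_pow, map_pow, inv_mul_cancel]
      have hqQ : ((c⁻¹ * ⟨g, hg⟩ : C) : G) ∈ Q := hQmem.mpr ⟨(c⁻¹ * ⟨g, hg⟩ : C).2, hq⟩
      obtain ⟨σ, hσ, u, hu, v, hv, he⟩ := P.gen D hqQ
      have hsS : s ∈ S := P.left.ii ▸ mul_mem hgi hgi
      have hjS : x * i * x⁻¹ ∈ S := mul_mem (mul_mem hgx hgi) (inv_mem hgx)
      have hlS : x * k * x⁻¹ ∈ S := mul_mem (mul_mem hgx hgk) (inv_mem hgx)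
      have hqS : ((c⁻¹ * ⟨g, hg⟩ : C) : G) ∈ S := by
        rw [he]
        refine mul_mem (mul_mem ?_ ?_) ?_
        · simp only [List.mem_cons, List.not_mem_nil, or_false] at hσ
          rcases hσ with rfl | rfl
          exacts [one_mem _, hsS]
        · simp only [List.mem_cons, List.not_mem_nil, or_false] at hv
          rcases hv with rfl | rfl | rfl | rfl
          exacts [one_mem _, hgk, hlS, mul_mem hgk hlS]
        · simp only [List.mem_cons, List.not_mem_nil, or_false] at hu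
          rcases hu with rfl | rfl | rfl | rfl
          exacts [one_mem _, hgi, hjS, mul_mem hgi hjS]
      have hcS : (c : G) ∈ S := by
        rw [hc, Subgroup.coe_mul, Subgroup.coe_pow, Subgroup.coe_pow]
        exact mul_mem (pow_mem hgx _) (pow_mem hgt _)
      have := mul_mem hcS hqS
      simpa only [Subgroup.coe_mul, Subgroup.coe_inv, mul_inv_cancel_left] using this
  · simp [ev_cons, ev_nil, fl, P.left.ii]
  · intro q hq
    obtain ⟨σ, hσ, u, hu, v, hv, he⟩ := P.gen D hq
    simp only [ev_cons, ev_nil, fl, List.getD_cons_zero, List.getD_cons_succ, mul_one]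
    rw [← mul_assoc, ← mul_assoc]
    set S := closure ({i, x * i * x⁻¹, k, x * k * x⁻¹} : Set G) with hS
    have hgi : i ∈ S := subset_closure (by simp)
    have hgk : k ∈ S := subset_closure (by simp)
    have hjS : x * i * x⁻¹ ∈ S := subset_closure (by simp)
    have hlS : x * k * x⁻¹ ∈ S := subset_closure (by simp)
    rw [he]
    refine mul_mem (mul_mem ?_ ?_) ?_
    · simp only [List.mem_cons, List.not_mem_nil, or_false] at hσ
      rcases hσ with rfl | rfl
      exacts [one_mem _, P.left.ii ▸ mul_mem hgi hgi]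
    · simp only [List.mem_cons, List.not_mem_nil, or_false] at hv
      rcases hv with rfl | rfl | rfl | rfl
      exacts [one_mem _, hgk, hlS, mul_mem hgk hlS]
    · simp only [List.mem_cons, List.not_mem_nil, or_false] at hu
      rcases hu with rfl | rfl | rfl | rfl
      exacts [one_mem _, hgi, hjS, mul_mem hgi hjS]

end CfsgLib.C192
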