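import Cfsg.Agent.C192.Letters

/-! Letters and relators for `Alt(8)` over the centralizer of an involution. -/

set_option autoImplicit false

namespace CfsgLib.C192

/-- The inverse letters. -/
def ivA (x : Nat) : Nat := ([1, 0, 3, 2, 5, 4, 7, 6, 9, 8, 11, 10] : List Nat).getD x x

/-- Conjugation relators: which element, node, relator. -/
def cjR : List (Bool × Nat × List Nat) := [(false, 8, [8, 0, 0, 9, 3, 1]), (false, 9, [8, 0, 2, 9, 2, 1]), (false, 7, [8, 6, 9, 7, 4, 3, 1, 5, 1]), (false, 160, [8, 0, 4, 0, 2, 5, 9, 7]), (false, 1, [8, 0, 9, 7, 4, 3, 1, 5]), (true, 8, [10, 0, 0, 11, 5, 3, 1, 4, 1]), (true, 166, [10, 0, 5, 0, 2, 4, 11, 5, 2, 1, 4, 1]), (true, 7, [10, 6, 11, 4, 3, 1, 5, 1]), (true, 9, [10, 0, 2, 11, 7, 2, 1]), (true, 68, [10, 4, 0, 5, 11, 7, 4,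 1, 5])]

/-- The relators of the inverting involutions. -/
def trR : List (List Nat) := [[0, 4, 2, 5, 8, 0, 4, 2, 5, 8], [5, 0, 3, 4, 10, 5, 0, 3, 4, 10]]

/-- The power relators. -/
def pwR : List (List Nat) := [[8, 4, 8, 4, 8, 4, 8, 4, 8, 4, 8, 4, 8, 4], [10, 5, 10, 5, 10, 5, 10, 5, 10, 5, 10, 5, 10, 5], [8, 0, 5, 8, 0, 5, 8, 0, 5, 8, 0, 5, 8, 0, 5, 8, 0, 5, 8, 0, 5], [8, 5, 0, 8, 5, 0, 8, 5, 0, 8, 5, 0, 8, 5, 0, 8, 5, 0, 8, 5, 0], [8, 5, 6, 8, 5, 6, 8, 5, 6, 8, 5, 6, 8, 5, 6, 8, 5, 6, 8, 5, 6], [10, 2, 4, 10, 2, 4, 10, 2, 4, 10, 2, 4, 10, 2, 4, 10, 2, 4, 10, 2, 4], [10, 2, 5, 10, 2, 5, 10, 2, 5, 10, 2, 5, 10, 2, 5, 10, 2, 5, 10, 2, 5], [10, 4, 0, 10, 4, 0, 10, 4, 0, 10, 4, 0, 10, 4, 0, 10, 4, 0, 10, 4, 0], [10, 5, 6, 10, 5, 6, 10, 5, 6, 10, 5, 6, 10, 5, 6, 10,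 5, 6, 10, 5, 6], [8, 8, 8, 8, 8, 8], [10, 10, 10, 10, 10, 10], [10, 0, 10, 0, 10, 0, 10, 0], [8, 0, 8, 0, 8, 0, 8, 0, 8, 0, 8, 0], [8, 5, 8, 5, 8, 5, 8, 5, 8, 5, 8, 5], [8, 6, 8, 6, 8, 6, 8, 6, 8, 6, 8, 6], [10, 6, 10, 6, 10, 6, 10, 6, 10, 6, 10, 6], [10, 0, 6, 10, 0, 6, 10, 0, 6, 10, 0, 6], [8, 5, 0, 4, 8, 5, 0, 4, 8, 5, 0, 4, 8, 5, 0, 4], [10, 2, 10, 2, 10, 2, 10, 2, 10, 2, 10, 2, 10, 2, 10, 2], [10, 4, 10, 4, 10, 4, 10, 4, 10, 4, 10, 4, 10, 4, 10, 4], [8, 0, 6, 8, 0, 6, 8, 0, 6, 8, 0, 6, 8, 0, 6, 8, 0, 6], [8, 4, 0, 8, 4, 0, 8, 4, 0, 8, 4, 0, 8, 4, 0, 8, 4, 0], [10, 0, 2, 10, 0, 2, 10, 0, 2, 10, 0, 2, 10, 0, 2, 10, 0, 2], [10, 0, 4, 10, 0, 4, 10, 0, 4, 10, 0, 4, 10, 0, 4, 10, 0, 4], [10, 0, 5, 10, 0, 5, 10, 0, 5, 10, 0, 5, 10, 0, 5, 10, 0, 5], [10, 4, 6, 10,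 4, 6, 10, 4, 6, 10, 4, 6, 10, 4, 6, 10, 4, 6], [8, 4, 0, 5, 6, 8, 4, 0, 5, 6, 8, 4, 0, 5, 6, 8, 4, 0, 5, 6]]

/-- The relators. -/
def relsA : List (List Nat) :=
  relsC true false ++ [[8, 9], [9, 8], [10, 11], [11, 10], [8, 8, 8], [10, 10, 10], [8, 10, 9, 11]] ++
    cjR.map (fun q => q.2.2) ++ trR ++ pwR

end CfsgLib.C192
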