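import Cfsg.Agent.C192.Letters
import Cfsg.Agent.J2U.Calc
import Cfsg.Agent.M12U.Tools
import Cfsg.Agent.Invol.Isolated

/-!
Coordinates on an involution centralizer of order 192, and the first fusion facts.
-/

set_option autoImplicit false
set_option linter.style.haveILetI false
set_option linter.unusedSectionVars false
set_option maxRecDepth 100000

namespace CfsgLib.C192

open CfsgLib.Coset CfsgLib.Invol
open CfsgLib.J2U (pathW checkPath follow_lt rp_follow ev_eq_of_follow follow_eq_of_ev exists_path checkPath_iff)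

/-- The multiplication table agrees with the coset table. -/
noncomputable def mulOK (Tb Par : Nat → Nat) (m : Nat → Nat → Nat) : Bool :=
  (List.range 192).all fun i => (List.range 192).all fun j => Nat.beq (follow (tget Tb) i (pathW Par 12 j)) (m i j)

theorem ivC_table (sw sq : Bool) : ((List.range 8).all fun x => (relsC sw sq).contains [x, ivC x]) = true := by
  cases sw <;> cases sq <;> decide

theorem ivC_out : ∀ x, 8 ≤ x → ivC x = x := by
  intro x hx
  unfold ivC
  rw [List.getD_eq_default _ _ (by simpa using hx)]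

theorem inv_of_rels {G : Type*} [Group G] {L : List G} {sw sq : Bool} (hlen : L.length = 8)
    (hrel : ∀ w ∈ relsC sw sq, ev L w = 1) (x : Nat) : fl L (ivC x) = (fl L x)⁻¹ :=
  CfsgLib.J2U.inv_of_rels hlen hrel (ivC_table sw sq) ivC_out x

/-- Do two nodes commute? -/
noncomputable def comB (m : Nat → Nat → Nat) (i j : Nat) : Bool := Nat.beq (m i j) (m j i)

/-- Is a node an involution? -/
noncomputable def invB (m : Nat → Nat → Nat) (i : Nat) : Bool := !(Nat.beq i 0) && Nat.beq (m i i) 0

/-- The eighth power of a node is trivial. -/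
noncomputable def p8B (m : Nat → Nat → Nat) (i : Nat) : Bool :=
  Nat.beq (m (m (m i i) (m i i)) (m (m i i) (m i i))) 0

/-- The nodes commuting with a node. -/
noncomputable def cen (m : Nat → Nat → Nat) (a : Nat) : List Nat := (List.range 192).filter fun j => comB m j a

/-- The number of square roots of `x` commuting with `a`. -/
noncomputable def roots (m : Nat → Nat → Nat) (a x : Nat) : Nat :=
  ((List.range 192).filter fun j => comB m j a && Nat.beq (m j j) x).length

/-- Is the node central in the centralizer of `a`? -/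
noncomputable def cenB (m : Nat → Nat → Nat) (a x : Nat) : Bool :=
  comB m x a && (cen m a).all fun j => comB m x j

/-- The centralizer of the pair is a small 2-group. -/
noncomputable def pairB (m : Nat → Nat → Nat) (c a : Nat) : Bool :=
  !(Nat.beq a c) && Nat.blt (cen m a).length 64 && (cen m a).all fun j => p8B m j

/-- No involution `a` of this kind is conjugate to `z`. -/
noncomputable def badB (m : Nat → Nat → Nat) (c a : Nat) : Bool :=
  pairB m c a && (List.range 192).all fun x =>
    !(cenB m a x) || Nat.beq x 0 || Nat.beq x c || Nat.beq x a || !(Nat.beq (roots m a x) (roots m a c))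

/-- The centre of the centralizer of the pair is the four group. -/
noncomputable def fourB (m : Nat → Nat → Nat) (c a : Nat) : Bool :=
  pairB m c a && (List.range 192).all fun x =>
    !(cenB m a x) || Nat.beq x 0 || Nat.beq x c || Nat.beq x a || Nat.beq x (m c a)

variable {G : Type*} [Group G]

/-- Coordinates on the centralizer of `z` by the numbers below 192. -/
structure Cod (z : G) (m : Nat → Nat → Nat) (c : Nat) (el : Nat → G) : Prop where
  mem : ∀ i, el i * z = z * el i
  one : el 0 = 1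
  lt : ∀ i, i < 192 → ∀ j, j < 192 → m i j < 192
  mul : ∀ i, i < 192 → ∀ j, j < 192 → el i * el j = el (m i j)
  inj : ∀ i, i < 192 → ∀ j, j < 192 → el i = el j → i = j
  surj : ∀ x, x * z = z * x → ∃ i < 192, x = el i
  clt : c < 192
  zeq : z = el c

theorem cod_of_table {z : G} {L : List G} {E iv : Nat → Nat} {Rep Tb Par : Nat → Nat} {m : Nat → Nat → Nat} {c : Nat}
    (hlen : L.length = 8) (hT : TableOK L (⊥ : Subgroup G) E iv 192 Rep Tb)
    (hp : checkPath Tb Par 12 192 L.length 8 = true) (hm : mulOK Tb Par m = true)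
    (hgen : Subgroup.closure {x | x ∈ L} = Subgroup.centralizer ({z} : Set G))
    (hcard : Nat.card (Subgroup.centralizer ({z} : Set G)) = 192) (hz : z = ev L [0, 0])
    (hc : follow (tget Tb) 0 [0, 0] = c) :
    Cod z m c (fun i => ev L (pathW Par 12 i)) := by
  have h0 : (0 : Nat) < 192 := by norm_num
  have hl : ∀ {i}, i < 192 → ∀ l ∈ pathW Par 12 i, l < L.length := fun hi => (checkPath_iff hp hi).1
  have hn : ∀ {i}, i < 192 → follow (tget Tb) 0 (pathW Par 12 i) = i := fun hi => (checkPath_iff hp hi).2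
  have hmem : ∀ w, ev L w ∈ Subgroup.centralizer ({z} : Set G) := fun w => by
    rw [← hgen]
    induction w with
    | nil => rw [ev_nil]; exact one_mem _
    | cons l w ih => rw [ev_cons]; exact mul_mem (mem_closure_fl l) ih
  have hmul : ∀ i, i < 192 → ∀ j, j < 192 → follow (tget Tb) i (pathW Par 12 j) = m i j := fun i hi j hj =>
    Nat.eq_of_beq_eq_true (List.all_eq_true.mp (List.all_eq_true.mp hm i (List.mem_range.mpr hi)) j (List.mem_range.mpr hj))
  have hlt : ∀ i, i < 192 → ∀ j, j < 192 → m i j < 192 := fun i hi j hj =>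
    hmul i hi j hj ▸ follow_lt hT _ i hi (hl hj)
  have hinj : ∀ i, i < 192 → ∀ j, j < 192 → ev L (pathW Par 12 i) = ev L (pathW Par 12 j) → i = j := by
    intro i hi j hj h
    have := follow_eq_of_ev hT h0 (by rw [hgen, hcard]) (hl hi) (hl hj) h
    rwa [hn hi, hn hj] at this
  have h00 : ∀ l ∈ ([0, 0] : List Nat), l < L.length := by
    intro l hl'
    simp only [List.mem_cons, List.not_mem_nil, or_false, or_self] at hl'
    omega
  have hclt : c < 192 := hc ▸ follow_lt hT _ 0 h0 h00
  refine ⟨fun i => Subgroup.mem_centralizer_singleton_iff.mp (hmem _), ?_, hlt, fun i hi j hj => ?_, hinj,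
    fun x hx => exists_path hT h0 hp (by rw [hgen]; exact Subgroup.mem_centralizer_singleton_iff.mpr hx), hclt, ?_⟩
  · show ev L (pathW Par 12 0) = 1
    rw [ev_eq_of_follow hT h0 (hl h0) (v := []) (by simp) (by rw [hn h0, follow_nil]), ev_nil]
  · show ev L (pathW Par 12 i) * ev L (pathW Par 12 j) = ev L (pathW Par 12 (m i j))
    rw [← ev_append]
    refine ev_eq_of_follow hT h0 (fun l h => ?_) (hl (hlt i hi j hj)) ?_
    · rcases List.mem_append.mp h with h | h
      exacts [hl hi l h, hl hj l h]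
    · rw [follow_append, hn hi, hmul i hi j hj, hn (hlt i hi j hj)]
  · show z = ev L (pathW Par 12 c)
    rw [hz]
    exact ev_eq_of_follow hT h0 h00 (hl hclt) (by rw [hc, hn hclt])

theorem invB_iff {m : Nat → Nat → Nat} {i : Nat} : invB m i = true ↔ i ≠ 0 ∧ m i i = 0 := by
  simp [invB, ← Bool.not_eq_true, Nat.beq_eq]

namespace Cod

variable {z : G} {m : Nat → Nat → Nat} {c : Nat} {el : Nat → G} (C : Cod z m c el)

include C

theorem eq_one_iff {i : Nat} (hi : i < 192) : el i = 1 ↔ i = 0 :=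
  ⟨fun h => C.inj i hi 0 (by norm_num) (h.trans C.one.symm), fun h => h ▸ C.one⟩

theorem comm_iff {i j : Nat} (hi : i < 192) (hj : j < 192) : el i * el j = el j * el i ↔ comB m i j = true := by
  rw [C.mul i hi j hj, C.mul j hj i hi, comB, Nat.beq_eq]
  exact ⟨C.inj _ (C.lt i hi j hj) _ (C.lt j hj i hi), fun h => by rw [h]⟩

theorem comm_of {i j : Nat} (hi : i < 192) (hj : j < 192) (h : comB m i j = true) : el i * el j = el j * el i :=
  (C.comm_iff hi hj).mpr h

theorem conj_eq_iff {h i j : Nat} (hh : h < 192) (hi : i < 192) (hj : j < 192) :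
    el h * el i * (el h)⁻¹ = el j ↔ m h i = m j h := by
  rw [mul_inv_eq_iff_eq_mul, C.mul h hh i hi, C.mul j hj h hh]
  exact ⟨C.inj _ (C.lt h hh i hi) _ (C.lt j hj h hh), fun e => by rw [e]⟩

theorem ord_iff {i : Nat} (hi : i < 192) : orderOf (el i) = 2 ↔ invB m i = true := by
  haveI : Fact (Nat.Prime 2) := ⟨Nat.prime_two⟩
  rw [orderOf_eq_prime_iff, pow_two, C.mul i hi i hi, C.eq_one_iff (C.lt i hi i hi), ne_eq, C.eq_one_iff hi,
    invB_iff]
  exact and_comm

theorem invol_node {x : G} (hx : x * z = z * x) (h2 : orderOf x = 2) :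
    ∃ i < 192, invB m i = true ∧ x = el i := by
  obtain ⟨i, hi, rfl⟩ := C.surj x hx
  exact ⟨i, hi, (C.ord_iff hi).mp h2, rfl⟩

theorem pow8 {i : Nat} (hi : i < 192) (h : p8B m i = true) : el i ^ 2 ^ 3 = 1 := by
  have h1 := C.lt i hi i hi
  have h2 := C.lt _ h1 _ h1
  rw [show el i ^ (2 ^ 3) = ((el i * el i) * (el i * el i)) * ((el i * el i) * (el i * el i)) by
    simp only [pow_succ, pow_zero, one_mul, mul_assoc, Nat.reducePow, Nat.reduceMul],
    C.mul i hi i hi, C.mul _ h1 _ h1, C.mul _ h2 _ h2, Nat.eq_of_beq_eq_true h, C.one]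

/-- Counting elements of the centralizer with a property by counting nodes. -/
theorem card_nodes (p : G → Prop) (P : Nat → Bool) (hP : ∀ i < 192, (p (el i) ↔ P i = true)) :
    Nat.card {x : G // x * z = z * x ∧ p x} = ((List.range 192).filter P).length := by
  classical
  let S := ((List.range 192).filter P).toFinset
  have hS : ∀ {i}, i ∈ S → i < 192 ∧ P i = true := fun h => by simpa [S] using h
  let f : S → {x : G // x * z = z * x ∧ p x} := fun i => ⟨el i, C.mem i, (hP i (hS i.2).1).mpr (hS i.2).2⟩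
  have hf : Function.Bijective f := by
    refine ⟨fun a b h => Subtype.ext (C.inj a (hS a.2).1 b (hS b.2).1 (congrArg Subtype.val h)), ?_⟩
    rintro ⟨x, hx, hpx⟩
    obtain ⟨i, hi, rfl⟩ := C.surj x hx
    exact ⟨⟨i, by simpa [S, hi] using (hP i hi).mp hpx⟩, rfl⟩
  rw [← Nat.card_eq_of_bijective f hf, Nat.card_eq_fintype_card, Fintype.card_coe,
    List.toFinset_card_of_nodup (List.nodup_range.filter _)]

theorem card_cent2 {a : Nat} (ha : a < 192) :
    Nat.card {y : G // y * z = z * y ∧ y * el a = el a * y} = (cen m a).length :=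
  C.card_nodes (fun y => y * el a = el a * y) (fun j => comB m j a) fun _ hj => C.comm_iff hj ha

theorem card_C : Nat.card (Subgroup.centralizer ({z} : Set G)) = 192 := by
  have h := C.card_nodes (fun _ => True) (fun _ => true) (fun _ _ => by simp)
  rw [List.filter_true, List.length_range] at h
  rw [← h]
  exact Nat.card_congr (Equiv.subtypeEquivRight fun x => by simp [Subgroup.mem_centralizer_singleton_iff])

theorem zord (hc : invB m c = true) : orderOf z = 2 := C.zeq ▸ (C.ord_iff C.clt).mpr hc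

variable [Finite G]

/-- A conjugate of `z` in the centralizer: some element fixes it and moves `z` into the centre of their centralizer. -/
theorem exists_move {a : Nat} (ha : a < 192) (hab : pairB m c a = true) (hc : IsConj z (el a)) :
    ∃ y : G, ∃ x < 192, cenB m a x = true ∧ x ≠ 0 ∧ x ≠ c ∧ x ≠ a ∧ roots m a x = roots m a c ∧
      y * el a * y⁻¹ = el a ∧ y * z * y⁻¹ = el x := by
  classical
  simp only [pairB, Bool.and_eq_true, Bool.not_eq_true', ← Bool.not_eq_true, Nat.beq_eq, Nat.blt_eq,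
    List.all_eq_true] at hab
  obtain ⟨⟨hac, hlen⟩, h8⟩ := hab
  haveI : Fact (Nat.Prime 2) := ⟨Nat.prime_two⟩
  set A := Subgroup.centralizer ({el a} : Set G) with hA
  obtain ⟨q, hq⟩ := isConj_iff.mp hc
  have hcardA : Nat.card A = 192 := by
    rw [← C.card_C]
    refine (Nat.card_congr (Equiv.subtypeEquiv (MulAut.conj q).toEquiv fun y => ?_)).symm
    show _ ↔ q * y * q⁻¹ ∈ A
    rw [hA, Subgroup.mem_centralizer_singleton_iff, Subgroup.mem_centralizer_singleton_iff, ← hq, conj_mul, conj_mul,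
      mul_left_inj, mul_right_inj]
  let D : Subgroup A := (Subgroup.centralizer ({z} : Set G)).subgroupOf A
  have hD : ∀ {w : A}, w ∈ D ↔ (w : G) * z = z * w := fun {w} => by
    rw [Subgroup.mem_subgroupOf, Subgroup.mem_centralizer_singleton_iff]
  have hnode : ∀ {w : A}, w ∈ D → ∃ j, j < 192 ∧ j ∈ cen m a ∧ (w : G) = el j := by
    intro w hw
    obtain ⟨j, hj, hje⟩ := C.surj _ (hD.mp hw)
    refine ⟨j, hj, List.mem_filter.mpr ⟨List.mem_range.mpr hj, (C.comm_iff hj ha).mp ?_⟩, hje⟩
    rw [← hje]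
    exact Subgroup.mem_centralizer_singleton_iff.mp w.2
  have hDp : IsPGroup 2 D := fun w => by
    obtain ⟨j, hj, hjc, hje⟩ := hnode w.2
    exact ⟨3, Subtype.ext (Subtype.ext (by simpa [hje] using C.pow8 hj (h8 j hjc)))⟩
  obtain ⟨P, hP⟩ := hDp.exists_le_sylow
  have hne : D ≠ (P : Subgroup A) := by
    intro h
    have h1 : Nat.card D = (cen m a).length := by
      rw [← C.card_cent2 ha]
      exact Nat.card_congr
        { toFun := fun w => ⟨(w.1 : G), hD.mp w.2, Subgroup.mem_centralizer_singleton_iff.mp w.1.2⟩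
          invFun := fun w => ⟨⟨w.1, Subgroup.mem_centralizer_singleton_iff.mpr w.2.2⟩, hD.mpr w.2.1⟩
          left_inv := fun _ => rfl
          right_inv := fun _ => rfl }
    have h2 : 2 ^ 6 ∣ Nat.card D := by
      rw [h]
      exact P.pow_dvd_card_of_pow_dvd_card (by rw [hcardA]; norm_num)
    have := Nat.le_of_dvd Nat.card_pos h2
    omega
  obtain ⟨y, -, hyD, hy⟩ := CfsgLib.M12U.exists_normalizer_gt P.2 hP hne
  have hzA : z ∈ A := Subgroup.mem_centralizer_singleton_iff.mpr (C.mem a).symm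
  obtain ⟨x, hx, hxc, hxe⟩ := hnode ((hy ⟨z, hzA⟩).mp (hD.mpr rfl))
  have hxe' : (y : G) * z * (y : G)⁻¹ = el x := hxe
  have hya : (y : G) * el a * (y : G)⁻¹ = el a :=
    mul_inv_eq_iff_eq_mul.mpr (Subgroup.mem_centralizer_singleton_iff.mp y.2)
  have hxa : comB m x a = true := (List.mem_filter.mp hxc).2
  refine ⟨y, x, hx, ?_, ?_, ?_, ?_, ?_, hya, hxe'⟩
  · rw [cenB, hxa, Bool.true_and, List.all_eq_true]
    intro j hj
    obtain ⟨hjlt, hja⟩ := List.mem_filter.mp hj
    have hjlt := List.mem_range.mp hjlt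
    refine (C.comm_iff hx hjlt).mp ?_
    let w : A := ⟨el j, Subgroup.mem_centralizer_singleton_iff.mpr (C.comm_of hjlt ha hja)⟩
    have hu : y⁻¹ * w * y ∈ D := (hy _).mpr (by
      rw [show y * (y⁻¹ * w * y) * y⁻¹ = w by group]; exact hD.mpr (C.mem j))
    have hu' : (y : G)⁻¹ * el j * y * z = z * ((y : G)⁻¹ * el j * y) := hD.mp hu
    rw [← hxe', show el j = (y : G) * ((y : G)⁻¹ * el j * y) * (y : G)⁻¹ by group, conj_mul, conj_mul, hu']
  · intro h
    rw [h, C.one, conj_eq_one_iff] at hxe'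
    exact hac (C.inj a ha c C.clt (by
      rw [← hq, hxe', mul_one, mul_inv_cancel, ← C.zeq, hxe']))
  · intro h
    rw [h, ← C.zeq] at hxe'
    exact hyD (hD.mpr (mul_inv_eq_iff_eq_mul.mp hxe'))
  · intro h
    rw [h, ← hya] at hxe'
    exact hac (C.inj a ha c C.clt (by rw [← mul_left_cancel (mul_right_cancel hxe'), ← C.zeq]))
  · rw [roots, roots, ← C.card_nodes (fun w => w * el a = el a * w ∧ w * w = el x)
      (fun j => comB m j a && Nat.beq (m j j) x) (fun j hj => by
        rw [Bool.and_eq_true, Nat.beq_eq, C.comm_iff hj ha, C.mul j hj j hj]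
        exact and_congr_right fun _ => ⟨C.inj _ (C.lt j hj j hj) _ hx, fun e => by rw [e]⟩),
      ← C.card_nodes (fun w => w * el a = el a * w ∧ w * w = el c)
      (fun j => comB m j a && Nat.beq (m j j) c) (fun j hj => by
        rw [Bool.and_eq_true, Nat.beq_eq, C.comm_iff hj ha, C.mul j hj j hj]
        exact and_congr_right fun _ => ⟨C.inj _ (C.lt j hj j hj) _ C.clt, fun e => by rw [e]⟩)]
    have hiff : ∀ w : G, (w * z = z * w ∧ w * el a = el a * w) ↔
        ((y : G) * w * (y : G)⁻¹ * z = z * ((y : G) * w * (y : G)⁻¹) ∧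
          (y : G) * w * (y : G)⁻¹ * el a = el a * ((y : G) * w * (y : G)⁻¹)) := by
      intro w
      have e : w * el a = el a * w ↔
          (y : G) * w * (y : G)⁻¹ * el a = el a * ((y : G) * w * (y : G)⁻¹) := by
        conv_rhs => rw [← hya, conj_mul, conj_mul, mul_left_inj, mul_right_inj]
      constructor
      · rintro ⟨h1, h2⟩
        exact ⟨hD.mp ((hy ⟨w, Subgroup.mem_centralizer_singleton_iff.mpr h2⟩).mp (hD.mpr h1)), e.mp h2⟩
      · rintro ⟨h1, h2⟩
        exact ⟨hD.mp ((hy ⟨w, Subgroup.mem_centralizer_singleton_iff.mpr (e.mpr h2)⟩).mpr (hD.mpr h1)), e.mpr h2⟩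
    refine (Nat.card_congr (Equiv.subtypeEquiv (MulAut.conj (y : G)).toEquiv fun w => ?_)).symm
    show _ ↔ (y : G) * w * (y : G)⁻¹ * z = z * ((y : G) * w * (y : G)⁻¹) ∧
        (y : G) * w * (y : G)⁻¹ * el a = el a * ((y : G) * w * (y : G)⁻¹) ∧
          (y : G) * w * (y : G)⁻¹ * ((y : G) * w * (y : G)⁻¹) = el x
    rw [conj_mul, ← hxe', mul_left_inj, mul_right_inj, ← C.zeq, ← and_assoc, ← and_assoc,
      hiff w]

theorem not_conj {a : Nat} (ha : a < 192) (h : badB m c a = true) : ¬ IsConj z (el a) := by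
  intro hc
  rw [badB, Bool.and_eq_true] at h
  obtain ⟨y, x, hx, hcen, h0, h1, h2, hr, -, -⟩ := C.exists_move ha h.1 hc
  have := List.all_eq_true.mp h.2 x (List.mem_range.mpr hx)
  simp [hcen, h0, h1, h2, hr, Nat.beq_eq] at this

/-- An element of order three permuting `z`, `a` and their product. -/
theorem exists_three {a t : Nat} (ha : a < 192) (ht : t < 192) (h4 : fourB m c a = true)
    (hta : m t a = m (m c a) t) (hca : invB m a = true) (hcc : invB m c = true) (hc : IsConj z (el a)) :
    ∃ g : G, g ^ 3 = 1 ∧ g * z * g⁻¹ = el a ∧ g * el a * g⁻¹ = z * el a := by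
  rw [fourB, Bool.and_eq_true] at h4
  obtain ⟨y, x, hx, hcen, h0, h1, h2, -, hya, hyz⟩ := C.exists_move ha h4.1 hc
  have hxca : x = m c a := by
    have := List.all_eq_true.mp h4.2 x (List.mem_range.mpr hx)
    simpa [hcen, h0, h1, h2, Nat.beq_eq] using this
  have za : el (m c a) = z * el a := by rw [C.zeq, C.mul c C.clt a ha]
  rw [hxca, za] at hyz
  have hzz : z * z = 1 := mul_self_eq_one (C.zord hcc)
  have haa : el a * el a = 1 := mul_self_eq_one ((C.ord_iff ha).mpr hca)
  have htz : el t * z * (el t)⁻¹ = z := by rw [C.mem t, mul_inv_cancel_right]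
  have hta' : el t * el a * (el t)⁻¹ = z * el a := by
    rw [← za, C.conj_eq_iff ht ha (C.lt c C.clt a ha), hta]
  have hyza : y * (z * el a) * y⁻¹ = z := by
    rw [← conj_mul, hyz, hya, mul_assoc, haa, mul_one]
  set u := y * el t with hu
  have uz : u * z * u⁻¹ = z * el a := by
    rw [hu, mul_inv_rev]
    calc _ = y * (el t * z * (el t)⁻¹) * y⁻¹ := by group
      _ = _ := by rw [htz, hyz]
  have ua : u * el a * u⁻¹ = z := by
    rw [hu, mul_inv_rev]
    calc _ = y * (el t * el a * (el t)⁻¹) * y⁻¹ := by group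
      _ = _ := by rw [hta', hyza]
  have uza : u * (z * el a) * u⁻¹ = el a := by
    rw [← conj_mul, uz, ua, mul_assoc, C.mem a, ← mul_assoc, hzz, one_mul]
  have h3z : u ^ 3 * z * (u ^ 3)⁻¹ = z := by
    calc _ = u * (u * (u * z * u⁻¹) * u⁻¹) * u⁻¹ := by rw [pow_succ, pow_two]; group
      _ = z := by rw [uz, uza, ua]
  have h3a : u ^ 3 * el a * (u ^ 3)⁻¹ = el a := by
    calc _ = u * (u * (u * el a * u⁻¹) * u⁻¹) * u⁻¹ := by rw [pow_succ, pow_two]; group
      _ = el a := by rw [ua, uz, uza]
  obtain ⟨d, hd, hde⟩ := C.surj _ (mul_inv_eq_iff_eq_mul.mp h3z)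
  have hdc : d ∈ cen m a := List.mem_filter.mpr ⟨List.mem_range.mpr hd, (C.comm_iff hd ha).mp (by
    rw [← hde]; exact mul_inv_eq_iff_eq_mul.mp h3a)⟩
  have hp : p8B m d = true := by
    have := h4.1
    simp only [pairB, Bool.and_eq_true, List.all_eq_true] at this
    exact this.2 d hdc
  have h24 : u ^ 24 = 1 := by
    rw [show 24 = 3 * 2 ^ 3 from rfl, pow_mul, hde, C.pow8 hd hp]
  refine ⟨u ^ 8, by rw [← pow_mul, show 8 * 3 = 24 from rfl, h24], ?_, ?_⟩
  · have e : Commute ((u ^ 3) ^ 2) z := (show Commute (u ^ 3) z from mul_inv_eq_iff_eq_mul.mp h3z).pow_left 2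
    calc u ^ 8 * z * (u ^ 8)⁻¹ = u * (u * ((u ^ 3) ^ 2 * z * ((u ^ 3) ^ 2)⁻¹) * u⁻¹) * u⁻¹ := by group
      _ = el a := by rw [e.eq, mul_inv_cancel_right, uz, uza]
  · have e : Commute ((u ^ 3) ^ 2) (el a) := (show Commute (u ^ 3) (el a) from mul_inv_eq_iff_eq_mul.mp h3a).pow_left 2
    calc u ^ 8 * el a * (u ^ 8)⁻¹ = u * (u * ((u ^ 3) ^ 2 * el a * ((u ^ 3) ^ 2)⁻¹) * u⁻¹) * u⁻¹ := by group
      _ = z * el a := by rw [e.eq, mul_inv_cancel_right, ua, uz]

end Cod

end CfsgLib.C192
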