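import Cfsg.Agent.ThreeLocalEight.EightFacts
import Mathlib.Data.List.GetD

/-!
Facts about the centralizer of a double transposition in the alternating group of degree 8.
-/

set_option autoImplicit false
set_option linter.unusedSectionVars false
set_option maxRecDepth 100000

namespace CfsgLib.C192.Eight

open Equiv Equiv.Perm

local notation "A8" => alternatingGroup (Fin 8)

/-- A double transposition. -/
def pT : Perm (Fin 8) := swap 0 1 * swap 2 3
/-- The second element of its four group. -/
def pA : Perm (Fin 8) := swap 0 2 * swap 1 3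
/-- Two generators of the complementary four group. -/
def pU : Perm (Fin 8) := swap 4 5 * swap 6 7
def pV : Perm (Fin 8) := swap 4 6 * swap 5 7
/-- An element of order three. -/
def pC : Perm (Fin 8) := swap 4 5 * swap 5 6
/-- An element exchanging `pA` and `pT * pA`. -/
def pE : Perm (Fin 8) := swap 0 1 * swap 4 5
/-- An element carrying `pT` to `pE`. -/
def pH : Perm (Fin 8) := swap 2 4 * swap 3 5

def aT : A8 := ⟨pT, by rw [mem_alternatingGroup]; decide +kernel⟩
def aA : A8 := ⟨pA, by rw [mem_alternatingGroup]; decide +kernel⟩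
def aU : A8 := ⟨pU, by rw [mem_alternatingGroup]; decide +kernel⟩
def aV : A8 := ⟨pV, by rw [mem_alternatingGroup]; decide +kernel⟩
def aC : A8 := ⟨pC, by rw [mem_alternatingGroup]; decide +kernel⟩
def aE : A8 := ⟨pE, by rw [mem_alternatingGroup]; decide +kernel⟩
def aH : A8 := ⟨pH, by rw [mem_alternatingGroup]; decide +kernel⟩
/-- The involution without fixed points. -/
def aZ : A8 := aT * aU

/-- The centralizer of `pT`. -/
def CT : List (Perm (Fin 8)) :=
  ([1, pA, pT, pA * pT].flatMap fun w => [1, pU, pV, pU * pV].flatMap fun v =>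
    [1, pC, pC * pC].flatMap fun x => [1, pE].map fun y => w * v * x * y)

/-- Partial lists which may extend to an element commuting with `pT`. -/
def okPre (l : List (Fin 8)) : Bool :=
  (List.finRange 8).all fun i => !(decide (i.val < l.length) && decide ((pT i).val < l.length)) ||
    l.getD (pT i).val 0 == pT (l.getD i.val 0)

/-- Does the list agree with the permutation? -/
def agree (p : Perm (Fin 8)) (l : List (Fin 8)) : Bool := (List.finRange 8).map p == l

/-- All admissible completions are in the list. -/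
def search : Nat → List (Fin 8) → Bool
  | 0, l => CT.any fun p => agree p l || agree (p * swap 6 7) l
  | k + 1, l => (List.finRange 8).all fun x => l.contains x || !(okPre (l ++ [x])) || search k (l ++ [x])

/-- Equality of permutations, point by point. -/
def eqP (p q : Perm (Fin 8)) : Bool := (List.finRange 8).all fun i => p i == q i

theorem eqP_iff {p q : Perm (Fin 8)} : eqP p q = true ↔ p = q := by
  simp [eqP, Equiv.ext_iff]

theorem eqA_iff {x y : A8} : eqP (x : Perm (Fin 8)) y = true ↔ x = y := by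
  rw [eqP_iff, SetLike.coe_eq_coe]

/-- Do two permutations commute? -/
def cmP (p q : Perm (Fin 8)) : Bool := eqP (p * q) (q * p)

theorem cmP_iff {p q : Perm (Fin 8)} : cmP p q = true ↔ p * q = q * p := eqP_iff

theorem cmA_iff {x y : A8} : cmP (x : Perm (Fin 8)) y = true ↔ x * y = y * x := by
  rw [cmP_iff, ← Subgroup.coe_mul, ← Subgroup.coe_mul, SetLike.coe_eq_coe]

theorem search_ok : search 8 [] = true := by decide +kernel

theorem ct_nodup : CT.Nodup := by decide +kernel

theorem ct_comm : (CT.all fun p => cmP p pT) = true := by decide +kernel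

theorem ct_ok : ∀ p ∈ CT, Perm.sign p = 1 ∧ p * pT = pT * p := by
  intro p hp
  refine ⟨?_, cmP_iff.mp (List.all_eq_true.mp ct_comm p hp)⟩
  simp only [CT, List.mem_flatMap, List.mem_map, List.mem_cons, List.not_mem_nil, or_false] at hp
  obtain ⟨w, hw, v, hv, x, hx, y, hy, rfl⟩ := hp
  have e : Perm.sign pA = 1 ∧ Perm.sign pT = 1 ∧ Perm.sign pU = 1 ∧ Perm.sign pV = 1 ∧ Perm.sign pC = 1 ∧
      Perm.sign pE = 1 := by
    simp [pA, pT, pU, pV, pC, pE, Perm.sign_swap (show (0 : Fin 8) ≠ 1 by decide),
      Perm.sign_swap (show (2 : Fin 8) ≠ 3 by decide), Perm.sign_swap (show (0 : Fin 8) ≠ 2 by decide),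
      Perm.sign_swap (show (1 : Fin 8) ≠ 3 by decide), Perm.sign_swap (show (4 : Fin 8) ≠ 5 by decide),
      Perm.sign_swap (show (6 : Fin 8) ≠ 7 by decide), Perm.sign_swap (show (4 : Fin 8) ≠ 6 by decide),
      Perm.sign_swap (show (5 : Fin 8) ≠ 7 by decide), Perm.sign_swap (show (5 : Fin 8) ≠ 6 by decide)]
  obtain ⟨e1, e2, e3, e4, e5, e6⟩ := e
  rcases hw with rfl | rfl | rfl | rfl <;> rcases hv with rfl | rfl | rfl | rfl <;>
    rcases hx with rfl | rfl | rfl <;> rcases hy with rfl | rfl <;> simp [e1, e2, e3, e4, e5, e6]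

theorem mem_ct {x : A8} (hx : x * aT = aT * x) : (x : Perm (Fin 8)) ∈ CT := by
  set p := (x : Perm (Fin 8)) with hp
  have hc : ∀ i, p (pT i) = pT (p i) := fun i => Equiv.Perm.congr_fun (congrArg Subtype.val hx) i
  have key : ∀ k m, m + k = 8 → search k (((List.finRange 8).map p).take m) = true →
      ∃ q ∈ CT, agree q ((List.finRange 8).map p) = true ∨ agree (q * swap 6 7) ((List.finRange 8).map p) = true := by
    intro k
    induction k with
    | zero =>
      intro m hm h
      rw [List.take_of_length_le (by simp; omega)] at h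
      simpa [search] using h
    | succ k ih =>
      intro m hm h
      have hm8 : m < 8 := by omega
      have hlen : ((List.finRange 8).map p).length = 8 := by simp
      rw [search, List.all_eq_true] at h
      have hget : ((List.finRange 8).map p).take (m + 1) = ((List.finRange 8).map p).take m ++ [p ⟨m, hm8⟩] := by
        rw [List.take_succ_eq_append_getElem (by omega)]
        simp
      have h1 := h (p ⟨m, hm8⟩) (List.mem_finRange _)
      have hnc : (((List.finRange 8).map p).take m).contains (p ⟨m, hm8⟩) = false := by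
        rw [← Bool.not_eq_true, List.contains_iff_mem]
        intro hmem
        obtain ⟨j, hj, he⟩ := List.getElem_of_mem hmem
        have hj' : j < m := by rw [List.length_take] at hj; omega
        simp at he
        omega
      have hok : okPre (((List.finRange 8).map p).take m ++ [p ⟨m, hm8⟩]) = true := by
        rw [← hget, okPre, List.all_eq_true]
        intro i _
        by_cases h' : i.val < m + 1 ∧ (pT i).val < m + 1
        · simp [hlen, List.length_take, h'.1, h'.2, hc i, hm8]
        · simp [hlen, List.length_take, Nat.min_eq_left hm8]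
          omega
      rw [hnc, hok] at h1
      simp only [Bool.not_true, Bool.false_or] at h1
      exact ih (m + 1) (by omega) (hget ▸ h1)
  obtain ⟨q, hq, h⟩ := key 8 0 (by norm_num) (by simpa using search_ok)
  have ext : ∀ {q' : Perm (Fin 8)}, agree q' ((List.finRange 8).map p) = true → q' = p := fun h => by
    simp only [agree, beq_iff_eq] at h
    exact Equiv.ext fun i => List.map_inj_left.mp h i (List.mem_finRange i)
  rcases h with h | h
  · exact ext h ▸ hq
  · exfalso
    have h2 := x.2
    rw [mem_alternatingGroup, ← hp, ← ext h, map_mul, (ct_ok q hq).1, Perm.sign_swap (by decide)] at h2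
    exact absurd h2 (by decide)

/-- An element of the list as an element of the group. -/
def ofCT {p : Perm (Fin 8)} (hp : p ∈ CT) : A8 := ⟨p, mem_alternatingGroup.2 (ct_ok p hp).1⟩

theorem card_cent (Q : A8 → Prop) (B : Perm (Fin 8) → Bool) (hB : ∀ x : A8, Q x ↔ B x = true) :
    Nat.card {x : A8 // x * aT = aT * x ∧ Q x} = (CT.filter B).length := by
  classical
  let f : (CT.filter B).toFinset → {x : A8 // x * aT = aT * x ∧ Q x} := fun p =>
    ⟨ofCT (List.mem_filter.mp (List.mem_toFinset.mp p.2)).1,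
      Subtype.ext (ct_ok _ (List.mem_filter.mp (List.mem_toFinset.mp p.2)).1).2,
      (hB _).mpr (List.mem_filter.mp (List.mem_toFinset.mp p.2)).2⟩
  have hf : Function.Bijective f := by
    refine ⟨fun p q h => Subtype.ext (congrArg (fun y : {x : A8 // x * aT = aT * x ∧ Q x} =>
      ((y : A8) : Perm (Fin 8))) h), ?_⟩
    rintro ⟨x, hx, hq⟩
    exact ⟨⟨x, List.mem_toFinset.mpr (List.mem_filter.mpr ⟨mem_ct hx, (hB x).mp hq⟩)⟩, rfl⟩
  rw [← Nat.card_eq_of_bijective f hf, Nat.card_eq_fintype_card, Fintype.card_coe,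
    List.toFinset_card_of_nodup (ct_nodup.filter _)]

/-- Has the permutation no fixed point? -/
def fpf (p : Perm (Fin 8)) : Bool := (List.finRange 8).all fun i => p i != i

theorem fpf_iff (p : Perm (Fin 8)) : fpf p = true ↔ ∀ i, p i ≠ i := by simp [fpf]

theorem t_fix : ¬ fpf pT = true := by decide +kernel

theorem base_bool : (eqP (pT * pT) 1 && eqP (pA * pA) 1 && eqP (pU * pU) 1 && cmP pA pT && cmP pU pT &&
    cmP pC pT && cmP pE pT && eqP (pE * pA) (pT * pA * pE) && eqP (pH * pT) (pE * pH) &&
    fpf (pT * pU) && fpf (pA * pU) && fpf (pT * (pA * pU)) && !fpf pU && !fpf pA) = true := by decide +kernel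

theorem base_facts : aT * aT = 1 ∧ aA * aA = 1 ∧ aU * aU = 1 ∧ aA * aT = aT * aA ∧ aU * aT = aT * aU ∧
    aC * aT = aT * aC ∧ aE * aT = aT * aE ∧ aE * aA * aE⁻¹ = aT * aA ∧ aH * aT * aH⁻¹ = aE ∧
    fpf (pT * pU) = true ∧ fpf (pA * pU) = true ∧ fpf (pT * (pA * pU)) = true ∧ ¬ fpf pU = true ∧
    ¬ fpf pA = true := by
  have h := base_bool
  simp only [Bool.and_eq_true, eqP_iff, cmP_iff, Bool.not_eq_true'] at h
  obtain ⟨⟨⟨⟨⟨⟨⟨⟨⟨⟨⟨⟨⟨h1, h2⟩, h3⟩, h4⟩, h5⟩, h6⟩, h7⟩, h8⟩, h9⟩, f1⟩, f2⟩, f3⟩, f4⟩, f5⟩ := h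
  exact ⟨Subtype.ext h1, Subtype.ext h2, Subtype.ext h3, Subtype.ext h4, Subtype.ext h5, Subtype.ext h6,
    Subtype.ext h7, mul_inv_eq_iff_eq_mul.mpr (Subtype.ext h8), mul_inv_eq_iff_eq_mul.mpr (Subtype.ext h9),
    f1, f2, f3, by simp [f4], by simp [f5]⟩

theorem card_all : (CT.filter fun _ => true).length = 96 := by decide +kernel

theorem card_z : (CT.filter fun p => cmP p (pT * pU)).length = 32 := by decide +kernel

theorem card_a : (CT.filter fun p => cmP p pA).length = 48 := by decide +kernel

theorem conj_a : ∀ p ∈ CT, p * pA = pA * p ∨ p * pA = pT * pA * p := by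
  have h : (CT.all fun p => cmP p pA || eqP (p * pA) (pT * pA * p)) = true := by decide +kernel
  simpa [cmP_iff, eqP_iff] using h

theorem pow8_of {p : Perm (Fin 8)} (h : eqP (p * p * (p * p) * (p * p * (p * p))) 1 = true) : p ^ 8 = 1 := by
  rw [← eqP_iff.mp h]
  simp only [pow_succ, pow_zero, one_mul, mul_assoc]

theorem cent_u : ∀ p ∈ CT, p * pU = pU * p → p ^ 8 = 1 := by
  have h : (CT.all fun p => !cmP p pU || eqP (p * p * (p * p) * (p * p * (p * p))) 1) = true := by decide +kernel
  intro p hp hc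
  have := List.all_eq_true.mp h p hp
  rw [cmP_iff.mpr hc, Bool.not_true, Bool.false_or] at this
  exact pow8_of this

theorem cent_au : ∀ p ∈ CT, (p * (pA * pU) = pA * pU * p ∨ p * (pA * pU) = pT * (pA * pU) * p) → p ^ 8 = 1 := by
  have h : (CT.all fun p => !(cmP p (pA * pU) || eqP (p * (pA * pU)) (pT * (pA * pU) * p)) ||
      eqP (p * p * (p * p) * (p * p * (p * p))) 1) = true := by decide +kernel
  intro p hp hc
  have := List.all_eq_true.mp h p hp
  rw [← cmP_iff, ← eqP_iff] at hc
  rw [Bool.or_eq_true, Bool.not_eq_true', Bool.or_eq_false_iff] at this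
  rcases this with ⟨a, b⟩ | this
  · simp [a, b] at hc
  · exact pow8_of this

theorem sylow_class : ∀ b ∈ CT, b * b = 1 → b * (pT * pU) = pT * pU * b → b ≠ 1 → b ≠ pT → ¬ fpf b = true →
    ¬ fpf (pT * b) = true → b = pA ∨ b = pT * pA ∨
      ((CT.filter fun p => cmP p b).length = 8 ∧
        ∃ y ∈ CT, y * b = b * y ∧ y * y = 1 ∧ fpf y = true) := by
  have h : (CT.all fun b => !(eqP (b * b) 1 && cmP b (pT * pU) && !eqP b 1 && !eqP b pT && !fpf b && !fpf (pT * b)) ||
      eqP b pA || eqP b (pT * pA) || (Nat.beq (CT.filter fun p => cmP p b).length 8 &&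
        CT.any fun y => cmP y b && eqP (y * y) 1 && fpf y)) = true := by decide +kernel
  intro b hb h1 h2 h3 h4 h5 h6
  have := List.all_eq_true.mp h b hb
  simp only [Bool.or_eq_true, Bool.and_eq_true, Bool.not_eq_true', eqP_iff, cmP_iff, List.any_eq_true,
    Nat.beq_eq, ← Bool.not_eq_true] at this
  rcases this with ((h' | h') | h') | ⟨h8, y, hy, ⟨⟨a, b'⟩, c⟩⟩
  · exact absurd ⟨⟨⟨⟨⟨h1, h2⟩, h3⟩, h4⟩, h5⟩, h6⟩ h'
  · exact Or.inl h'
  · exact Or.inr (Or.inl h')
  · exact Or.inr (Or.inr ⟨h8, y, hy, a, b', c⟩)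

/-- The four group of `pA` and `pT`. -/
def nW : List (Perm (Fin 8)) := [1, pA, pT, pA * pT]

/-- The four group of `pU` and `pV`. -/
def nV : List (Perm (Fin 8)) := [1, pU, pV, pU * pV]

theorem cent_wu : ∀ p ∈ CT, p * pA = pA * p → p * pU = pU * p →
    ∃ w ∈ nW, ∃ v ∈ nV, p = w * v := by
  have h : (CT.all fun p => !(cmP p pA && cmP p pU) || nW.any fun w => nV.any fun v => eqP p (w * v)) = true := by
    decide +kernel
  intro p hp h1 h2
  have := List.all_eq_true.mp h p hp
  rw [cmP_iff.mpr h1, cmP_iff.mpr h2] at this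
  simpa [eqP_iff] using this

theorem v_facts : ∀ v ∈ nV, v ∈ CT ∧ (v = 1 ∨ (fpf (pT * v) = true ∧ v * v = 1)) ∧
    v * pA = pA * v := by
  have h : (nV.all fun v => (CT.any fun q => eqP v q) && (eqP v 1 || (fpf (pT * v) && eqP (v * v) 1)) &&
      cmP v pA) = true := by decide +kernel
  simpa [eqP_iff, cmP_iff, and_assoc] using h

theorem v_fusion : ∀ v ∈ nV, v ≠ 1 → ∃ x ∈ [1, pC, pC * pC], x * pU = v * x := by
  have h : (nV.all fun v => eqP v 1 || [1, pC, pC * pC].any fun x => eqP (x * pU) (v * x)) = true := by decide +kernel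
  intro v hv hv1
  have := List.all_eq_true.mp h v hv
  rw [Bool.or_eq_true, eqP_iff] at this
  simpa [eqP_iff] using this.resolve_left hv1

theorem c_facts : pC ∈ CT ∧ pC * pC * pC = 1 ∧ pC * pA = pA * pC ∧
    (∀ v ∈ nV, pC * v * pC⁻¹ ∈ nV) ∧ (∀ v ∈ nV, ∃ x ∈ nV, pC * x * pC⁻¹ * v = x) ∧
    (∀ w ∈ nW, ∀ v ∈ nV, w * v = pC → False) := by
  have h : ((CT.any fun q => eqP pC q) && eqP (pC * pC * pC) 1 && cmP pC pA &&
      (nV.all fun v => nV.any fun x => eqP (pC * v * pC⁻¹) x) &&
      (nV.all fun v => nV.any fun x => eqP (pC * x * pC⁻¹ * v) x) &&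
      (nW.all fun w => nV.all fun v => !eqP (w * v) pC)) = true := by decide +kernel
  simpa [eqP_iff, cmP_iff, and_assoc, List.all_eq_true, ← Bool.not_eq_true] using h

theorem v_pick : ∀ p ∈ CT, ∃ v ∈ nV, (v * p) 7 = 7 := by
  have h : (CT.all fun p => nV.any fun v => (v * p) 7 == 7) = true := by decide +kernel
  simpa using h

theorem v_seven : ∀ v ∈ nV, v 7 = 7 → v = 1 := by
  have h : (nV.all fun v => !(v 7 == 7) || eqP v 1) = true := by decide +kernel
  intro v hv h7
  have := List.all_eq_true.mp h v hv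
  simpa [h7, eqP_iff] using this

theorem v_moving : ∀ p ∈ CT, p 7 ≠ 7 →
    ∃ q ∈ [p, p * pC, pC * p, p * pC * p, p * p, p * pC * p⁻¹, p * pC * pC * p, pC * p * pC, p * pC * p * pC,
      p * p * pC, pC * pC * p], ∃ w ∈ nW, ∃ v ∈ nV, v ≠ 1 ∧ q = w * v := by
  have h : (CT.all fun p => (p 7 == 7) || [p, p * pC, pC * p, p * pC * p, p * p, p * pC * p⁻¹, p * pC * pC * p,
      pC * p * pC, p * pC * p * pC, p * p * pC, pC * pC * p].any fun q =>
        nW.any fun w => nV.any fun v => !eqP v 1 && eqP q (w * v)) = true := by decide +kernel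
  intro p hp h7
  have := List.all_eq_true.mp h p hp
  simp only [Bool.or_eq_true, beq_iff_eq, h7, false_or, List.any_eq_true, Bool.and_eq_true, Bool.not_eq_true',
    eqP_iff, ← Bool.not_eq_true] at this
  exact this

/-- Generators of the stabilizer of the last point. -/
def sgens : List (Perm (Fin 8)) := [pC, pE, pA, pT, pH * pA * pH⁻¹]

/-- Transversals along the stabilizer chain. -/
def trans7 : List (Nat × Nat × List Nat) := [(6, 0, [0, 0, 4]), (6, 1, [0, 4]), (6, 2, [0, 0, 4, 2]), (6, 3, [0, 4, 2]), (6, 4, [0, 0]), (6, 5, [0]), (5, 0, [1, 4]), (5, 1, [4]), (5, 2, [1, 4, 2]), (5, 3, [4, 2]), (5, 4, [1]), (4, 0, [0, 0, 4, 0, 4, 0, 4]), (4, 1, [0, 4, 0, 4, 0, 0]), (4, 2, [0, 0, 4, 0, 4, 0, 4, 2]), (4, 3, [0, 4, 0, 4, 0, 0, 2]), (3, 0, [2, 3]), (3, 1, [2]), (3, 2, [3]), (2, 0, [2, 4, 0, 0, 2, 4, 0, 4, 0, 2, 4]), (2, 1, [4, 0, 2, 4, 0, 1, 4, 0, 2, 4])]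

/-- The product of a word in the generators. -/
def sev (w : List Nat) : Perm (Fin 8) := (w.map fun l => sgens.getD l 1).prod

theorem trans7_ok : (trans7.all fun q => decide ((sev q.2.2) (Fin.ofNat 8 q.2.1) = Fin.ofNat 8 q.1) &&
    (List.finRange 8).all fun k => decide (k.val ≤ q.1) || sev q.2.2 k == k) = true ∧
    (([2, 3, 4, 5, 6] : List Nat).all fun j => (List.range j).all fun i =>
      trans7.any fun q => q.1 == j && q.2.1 == i) = true := by decide +kernel

/-- A subgroup containing the generators contains the stabilizer of the last point. -/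
theorem stab_le (S : Subgroup A8) (hc : aC ∈ S) (he : aE ∈ S) (ha : aA ∈ S) (ht : aT ∈ S)
    (hh : aH * aA * aH⁻¹ ∈ S) (x : A8) (hx : (x : Perm (Fin 8)) 7 = 7) : x ∈ S := by
  set P := S.map (alternatingGroup (Fin 8)).subtype with hP
  have hg : ∀ l, sgens.getD l 1 ∈ P := by
    intro l
    match l with
    | 0 => exact ⟨aC, hc, rfl⟩
    | 1 => exact ⟨aE, he, rfl⟩
    | 2 => exact ⟨aA, ha, rfl⟩
    | 3 => exact ⟨aT, ht, rfl⟩
    | 4 => exact ⟨aH * aA * aH⁻¹, hh, rfl⟩
    | _ + 5 => exact one_mem _
  have hsev : ∀ w, sev w ∈ P := fun w =>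
    list_prod_mem fun p hp => by obtain ⟨l, -, rfl⟩ := List.mem_map.mp hp; exact hg l
  have hsign : ∀ p ∈ P, Perm.sign p = 1 := by
    rintro _ ⟨y, -, rfl⟩
    exact mem_alternatingGroup.1 y.2
  obtain ⟨h1, h2⟩ := trans7_ok
  have key : ∀ j, j ≤ 6 → ∀ p : Perm (Fin 8), Perm.sign p = 1 → (∀ k : Fin 8, j < k.val → p k = k) → p ∈ P := by
    intro j
    induction j with
    | zero =>
      intro _ p _ hp
      have : p = 1 := by
        refine Equiv.ext fun k => ?_
        by_cases hk : 0 < k.val
        · exact hp k hk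
        · by_contra hne
          have hk0 : k = 0 := Fin.ext (by simp at hk; simpa using hk)
          have h0 : p k ≠ k := hne
          have hpos : 0 < (p k).val := by
            rcases Nat.eq_zero_or_pos (p k).val with h | h
            · exact absurd (Fin.ext (h.trans (congrArg Fin.val hk0).symm)) h0
            · exact h
          exact h0 (p.injective (hp _ hpos))
      exact this ▸ one_mem _
    | succ j ih =>
      intro hj p hs hp
      rcases Nat.eq_zero_or_pos j with rfl | hj0
      · have : p = 1 := by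
          have hdec : ∀ a b : Fin 8, a.val ≤ 1 → b.val ≤ 1 → a ≠ b →
              (a = 0 ∧ b = 1) ∨ (a = 1 ∧ b = 0) := by decide +kernel
          have hle : ∀ k : Fin 8, k.val ≤ 1 → (p k).val ≤ 1 := fun k hk => by
            by_contra hgt
            have := p.injective (hp (p k) (by omega))
            omega
          have hne : p 0 ≠ p 1 := p.injective.ne (by decide)
          rcases hdec _ _ (hle 0 (by decide)) (hle 1 (by decide)) hne with ⟨e0, e1⟩ | ⟨e0, e1⟩
          · refine Equiv.ext fun k => ?_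
            by_cases hk : 0 + 1 < k.val
            · exact hp k hk
            · have : k = 0 ∨ k = 1 := by
                rcases (show k.val = 0 ∨ k.val = 1 by omega) with h | h
                exacts [Or.inl (Fin.ext h), Or.inr (Fin.ext h)]
              rcases this with rfl | rfl
              exacts [e0, e1]
          · exfalso
            have : p = swap 0 1 := by
              refine Equiv.ext fun k => ?_
              by_cases hk : 0 + 1 < k.val
              · rw [hp k hk, swap_apply_of_ne_of_ne] <;> intro h <;> subst h <;> simp at hk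
              · rcases (show k.val = 0 ∨ k.val = 1 by omega) with h | h
                · obtain rfl : k = 0 := Fin.ext h
                  rw [e0, swap_apply_left]
                · obtain rfl : k = 1 := Fin.ext h
                  rw [e1, swap_apply_right]
            rw [this, Perm.sign_swap (by decide)] at hs
            exact absurd hs (by decide)
        exact this ▸ one_mem _
      · by_cases hfix : p ⟨j + 1, by omega⟩ = ⟨j + 1, by omega⟩
        · refine ih (by omega) p hs fun k hk => ?_
          rcases Nat.lt_or_eq_of_le hk with h | h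
          · exact hp k h
          · rw [show k = ⟨j + 1, by omega⟩ from Fin.ext h.symm]; exact hfix
        have hlt : (p ⟨j + 1, by omega⟩).val < j + 1 := by
          rcases lt_trichotomy (p ⟨j + 1, by omega⟩).val (j + 1) with h | h | h
          · exact h
          · exact absurd (Fin.ext h) hfix
          · exact absurd (p.injective (hp _ h)) hfix
        simp only [List.all_eq_true, List.any_eq_true, Bool.and_eq_true, beq_iff_eq, List.mem_range] at h2
        obtain ⟨q, hq, hqj, hqi⟩ := h2 (j + 1) (by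
          simp only [List.mem_cons, List.not_mem_nil, or_false]; omega) _ hlt
        simp only [List.all_eq_true, Bool.and_eq_true, decide_eq_true_eq, Bool.or_eq_true, beq_iff_eq] at h1
        obtain ⟨hmv, hfx⟩ := h1 q hq
        have hnew := ih (by omega) (sev q.2.2 * p) (by rw [map_mul, hsign _ (hsev _), hs, mul_one]) fun k hk => by
          show sev q.2.2 (p k) = k
          rcases Nat.lt_or_eq_of_le hk with h | h
          · rw [hp k h]
            exact (hfx k (List.mem_finRange k)).resolve_left (by omega)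
          · have e : p k = Fin.ofNat 8 q.2.1 := Fin.ext (by
              rw [show k = ⟨j + 1, by omega⟩ from Fin.ext h.symm, hqi, Fin.val_ofNat, Nat.mod_eq_of_lt]; omega)
            rw [e, hmv, hqj]
            exact Fin.ext (by rw [Fin.val_ofNat, Nat.mod_eq_of_lt (by omega)]; omega)
        simpa using mul_mem (inv_mem (hsev q.2.2)) hnew
  obtain ⟨y, hy, e⟩ := key 6 le_rfl (x : Perm (Fin 8)) (mem_alternatingGroup.1 x.2) fun k hk => by
    rw [show k = 7 from Fin.ext (by show k.val = 7; omega), hx]
  exact (Subtype.ext e : y = x) ▸ hy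

theorem pair_fix : ∀ i j : Fin 8, ∃ q ∈ [swap 0 1 * swap 2 3, swap 4 5 * swap 6 7, swap 0 2 * swap 4 6,
    swap 1 3 * swap 5 7, swap 1 2 * swap 5 6, swap 0 3 * swap 4 7, swap 2 3 * swap 6 7, swap 0 1 * swap 4 5,
    swap 2 6 * swap 3 7, swap 0 4 * swap 1 5, swap 1 2 * swap 4 5, swap 0 3 * swap 6 7],
    (q : Perm (Fin 8)) i = i ∧ q j = j ∧ Perm.sign q = 1 ∧ q * q = 1 ∧ q ≠ 1 ∧ ¬ fpf q = true := by
  intro i j
  have h : ((List.finRange 8).all fun i => (List.finRange 8).all fun j => [swap 0 1 * swap 2 3, swap 4 5 * swap 6 7,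
      swap 0 2 * swap 4 6, swap 1 3 * swap 5 7, swap 1 2 * swap 5 6, swap 0 3 * swap 4 7, swap 2 3 * swap 6 7,
      swap 0 1 * swap 4 5, swap 2 6 * swap 3 7, swap 0 4 * swap 1 5, swap 1 2 * swap 4 5,
      swap 0 3 * swap 6 7].any fun q : Perm (Fin 8) =>
        (q i == i) && (q j == j) && eqP (q * q) 1 && !eqP q 1 && !fpf q) = true := by decide +kernel
  have := List.all_eq_true.mp (List.all_eq_true.mp h i (List.mem_finRange i)) j (List.mem_finRange j)
  simp only [List.any_eq_true, Bool.and_eq_true, beq_iff_eq, Bool.not_eq_true', eqP_iff, ← Bool.not_eq_true] at this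
  obtain ⟨q, hq, ⟨⟨⟨hi, hj⟩, h2⟩, h1⟩, hf⟩ := this
  refine ⟨q, hq, hi, hj, ?_, h2, h1, hf⟩
  simp only [List.mem_cons, List.not_mem_nil, or_false] at hq
  rcases hq with rfl | rfl | rfl | rfl | rfl | rfl | rfl | rfl | rfl | rfl | rfl | rfl <;>
    rw [map_mul, Perm.sign_swap (by decide), Perm.sign_swap (by decide)] <;> decide

end CfsgLib.C192.Eight
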