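import Cfsg.Agent.C192.Pair
import Cfsg.Agent.Invol.Isolated
import Cfsg.Agent.Coset.Table
import Mathlib.Data.Fintype.Perm
import Mathlib.GroupTheory.SpecificGroups.Alternating

/-!
The four possible centralizers: generators and relations.
-/

set_option autoImplicit false
set_option linter.style.haveILetI false
set_option linter.unusedSectionVars false
set_option maxRecDepth 100000

namespace CfsgLib.C192

open CfsgLib.Coset

variable {G : Type*} [Group G] {s x i k : G} {Q : Subgroup G}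

theorem perm_three_comm : ∀ a b : Equiv.Perm (Fin 3), a ^ 3 = 1 → a ≠ 1 → Equiv.Perm.sign b = -1 →
    a * b ≠ b * a ∧ b * b = 1 := by decide +kernel

theorem perm_three_gen : ∀ a b g : Equiv.Perm (Fin 3), a ^ 3 = 1 → a ≠ 1 → Equiv.Perm.sign b = -1 →
    ∃ u : Fin 3, ∃ v : Fin 2, g = a ^ u.val * b ^ v.val := by decide +kernel

theorem perm_three_even : ∀ a : Equiv.Perm (Fin 3), a ^ 3 = 1 → Equiv.Perm.sign a = 1 := by decide +kernel

namespace QPair

variable (D : QData s Q x) (P : QPair s Q x i k)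

include D P

theorem c3 : i * (x * k * x⁻¹) = (x * k * x⁻¹) * i := by
  have h1 : (x * i * x⁻¹) * (x * k * x⁻¹) = (x * k * x⁻¹) * (x * i * x⁻¹) := by rw [conj_mul, conj_mul, P.c1]
  have h2 : (x * x * i * (x * x)⁻¹) * (x * k * x⁻¹) = (x * k * x⁻¹) * (x * x * i * (x * x)⁻¹) := by
    rw [show x * x * i * (x * x)⁻¹ = x * (x * i * x⁻¹) * x⁻¹ by group, conj_mul, conj_mul, P.c2]
  have hi : i = (x * x * i * (x * x)⁻¹)⁻¹ * (x * i * x⁻¹) := by rw [eq_inv_mul_iff_mul_eq, P.left.ki D]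
  conv_lhs => rw [hi]
  conv_rhs => rw [hi]
  exact (Commute.inv_left h2).mul_left h1

theorem c4 : (x * i * x⁻¹) * (x * k * x⁻¹) = (x * k * x⁻¹) * (x * i * x⁻¹) := by rw [conj_mul, conj_mul, P.c1]

/-- The two quaternion groups generate. -/
theorem gen [Finite G] {q : G} (hq : q ∈ Q) :
    ∃ σ ∈ [1, s], ∃ a ∈ [1, i, x * i * x⁻¹, i * (x * i * x⁻¹)], ∃ b ∈ [1, k, x * k * x⁻¹, k * (x * k * x⁻¹)],
      q = σ * b * a := by
  classical
  set j := x * i * x⁻¹ with hj
  set l := x * k * x⁻¹ with hl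
  set R : Subgroup G := Q ⊓ (Subgroup.centralizer ({i} : Set G) ⊓ Subgroup.centralizer ({j} : Set G)) with hR
  have hRmem : ∀ {c}, c ∈ R ↔ c ∈ Q ∧ c * i = i * c ∧ c * j = j * c := fun {c} => by
    simp [hR, Subgroup.mem_centralizer_singleton_iff]
  have hkR : k ∈ R := hRmem.mpr ⟨P.right.mem, P.c1.symm, P.c2.symm⟩
  have hlR : l ∈ R := hRmem.mpr ⟨D.norm k P.right.mem, (P.c3 D).symm, (P.c4 D).symm⟩
  have hR8 : Nat.card R = 8 := by
    have h := D.card_split P.left Q le_rfl P.left.mem (D.norm i P.left.mem)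
    rw [D.card, ← hj] at h
    have e : Nat.card R = Nat.card {c : Q // (c : G) * i = i * c ∧ (c : G) * j = j * c} := Nat.card_congr
      { toFun := fun c => ⟨⟨c, (hRmem.mp c.2).1⟩, (hRmem.mp c.2).2⟩
        invFun := fun c => ⟨c.1, hRmem.mpr ⟨c.1.2, c.2⟩⟩
        left_inv := fun _ => rfl
        right_inv := fun _ => rfl }
    omega
  have h2 := D.card_split P.right R inf_le_left hkR hlR
  rw [hR8, ← hl] at h2
  let T := {c : R // (c : G) * k = k * c ∧ (c : G) * l = l * c}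
  have hT : Nat.card T = 2 := by
    show Nat.card {c : R // (c : G) * k = k * c ∧ (c : G) * l = l * c} = 2
    omega
  have hsR : s ∈ R := hRmem.mpr ⟨D.sQ, D.cen i P.left.mem, D.cen j (D.norm i P.left.mem)⟩
  let t1 : T := ⟨1, by simp⟩
  let ts : T := ⟨⟨s, hsR⟩, D.cen k P.right.mem, D.cen l (D.norm k P.right.mem)⟩
  have hne : t1 ≠ ts := fun h => D.s1 (congrArg (fun c : T => (c.1 : G)) h).symm
  have htwo : ∀ c : T, (c.1 : G) = 1 ∨ (c.1 : G) = s := by
    intro c
    obtain ⟨a, ha⟩ := Nat.card_eq_two_iff' t1 |>.mp hT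
    by_cases hc : c = t1
    · exact Or.inl (by rw [hc]; rfl)
    · exact Or.inr (by rw [(ha.2 c hc).trans (ha.2 ts hne.symm).symm])
  obtain ⟨a, ha, ha1, ha2⟩ := D.split P.left hq
  have haQ : a ∈ Q := by
    simp only [List.mem_cons, List.not_mem_nil, or_false] at ha
    rcases ha with rfl | rfl | rfl | rfl
    exacts [one_mem _, P.left.mem, D.norm i P.left.mem, mul_mem P.left.mem (D.norm i P.left.mem)]
  obtain ⟨b, hb, hb1, hb2⟩ := D.split P.right (mul_mem hq haQ)
  have hbR : b ∈ R := by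
    simp only [List.mem_cons, List.not_mem_nil, or_false] at hb
    rcases hb with rfl | rfl | rfl | rfl
    exacts [one_mem _, hkR, hlR, mul_mem hkR hlR]
  have hqab : q * a * b ∈ R := mul_mem (hRmem.mpr ⟨mul_mem hq haQ, ha1, ha2⟩) hbR
  have hσ := htwo ⟨⟨q * a * b, hqab⟩, hb1, hb2⟩
  have hainv : a⁻¹ = a ∨ a⁻¹ = s * a := (D.sq a haQ).imp (fun h => inv_eq_of_mul_eq_one_right h)
    fun h => inv_eq_of_mul_eq_one_right (by rw [D.cen a haQ, ← mul_assoc, h, D.ss])
  have hbQ : b ∈ Q := hbR.1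
  have hbinv : b⁻¹ = b ∨ b⁻¹ = s * b := (D.sq b hbQ).imp (fun h => inv_eq_of_mul_eq_one_right h)
    fun h => inv_eq_of_mul_eq_one_right (by rw [D.cen b hbQ, ← mul_assoc, h, D.ss])
  have e : q = (q * a * b) * b⁻¹ * a⁻¹ := by group
  have hσ' : q * a * b ∈ [1, s] := by
    rcases hσ with h | h <;> simp [show q * a * b = _ from h]
  have key : ∀ u v σ : G, u ∈ [1, s] → σ ∈ [1, s] → v ∈ [1, s] → σ * u * v ∈ [1, s] := by
    intro u v σ hu hσ hv
    simp only [List.mem_cons, List.not_mem_nil, or_false] at hu hσ hv ⊢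
    rcases hu with rfl | rfl <;> rcases hσ with rfl | rfl <;> rcases hv with rfl | rfl <;> simp [D.ss]
  rcases hainv with h | h <;> rcases hbinv with h' | h' <;> rw [h, h'] at e
  · exact ⟨_, hσ', a, ha, b, hb, e⟩
  · exact ⟨_, key s 1 _ (by simp) hσ' (by simp), a, ha, b, hb, e.trans (by simp only [mul_one, mul_assoc])⟩
  · exact ⟨_, key s 1 _ (by simp) hσ' (by simp), a, ha, b, hb, e.trans (by
      rw [mul_one, mul_assoc _ b (s * a), ← mul_assoc b s a, ← D.cen b hbQ, mul_assoc s b a]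
      simp only [mul_assoc])⟩
  · exact ⟨_, key s s _ (by simp) hσ' (by simp), a, ha, b, hb, e.trans (by
      rw [mul_assoc _ (s * b) (s * a), mul_assoc s b (s * a), ← mul_assoc b s a, ← D.cen b hbQ, mul_assoc s b a]
      simp only [mul_assoc])⟩

/-- An element not commuting with its image under `x` lies in one of the two groups. -/
theorem moved [Finite G] {q : G} (hq : q ∈ Q) (hne : q * (x * q * x⁻¹) ≠ (x * q * x⁻¹) * q) :
    (∃ σ ∈ [1, s], q = σ * i ∨ q = σ * (x * i * x⁻¹) ∨ q = σ * (x * x * i * (x * x)⁻¹)) ∨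
    (∃ σ ∈ [1, s], q = σ * k ∨ q = σ * (x * k * x⁻¹) ∨ q = σ * (x * x * k * (x * x)⁻¹)) := by
  obtain ⟨σ, hσ, a, ha, b, hb, rfl⟩ := P.gen D hq
  have hσQ : σ ∈ Q ∧ ∀ u ∈ Q, σ * u = u * σ := by
    simp only [List.mem_cons, List.not_mem_nil, or_false] at hσ
    rcases hσ with rfl | rfl
    exacts [⟨one_mem _, fun u _ => by rw [one_mul, mul_one]⟩, ⟨D.sQ, D.cen⟩]
  simp only [List.mem_cons, List.not_mem_nil, or_false] at ha hb
  rw [P.left.rel] at ha
  rw [P.right.rel] at hb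
  by_cases ha1 : a = 1
  · by_cases hb1 : b = 1
    · exfalso
      subst ha1 hb1
      refine hne ?_
      simp only [mul_one]
      exact hσQ.2 _ (D.norm σ hσQ.1)
    · subst ha1
      simp only [mul_one]
      exact Or.inr ⟨σ, hσ, by rcases hb with h | h | h | h <;> simp [h] at hb1 ⊢⟩
  · by_cases hb1 : b = 1
    · subst hb1
      simp only [mul_one]
      exact Or.inl ⟨σ, hσ, by rcases ha with h | h | h | h <;> simp [h] at ha1 ⊢⟩
    · exfalso
      have haQ : a ∈ Q := by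
        rcases ha with rfl | rfl | rfl | rfl
        exacts [one_mem _, P.left.mem, D.norm i P.left.mem, D.norm2 P.left.mem]
      have hbQ : b ∈ Q := by
        rcases hb with rfl | rfl | rfl | rfl
        exacts [one_mem _, P.right.mem, D.norm k P.right.mem, D.norm2 P.right.mem]
      have h3 : ∀ {i' : G}, Quat s Q x i' → ∀ {a' : G},
          (a' = i' ∨ a' = x * i' * x⁻¹ ∨ a' = x * x * i' * (x * x)⁻¹) →
          a' * (x * a' * x⁻¹) ≠ (x * a' * x⁻¹) * a' := by
        intro i' A a' h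
        rcases h with rfl | rfl | rfl
        · exact A.ne_comm D
        · exact (A.conj D).ne_comm D
        · have := ((A.conj D).conj D).ne_comm D
          rwa [show x * (x * i' * x⁻¹) * x⁻¹ = x * x * i' * (x * x)⁻¹ by group] at this
      have na := h3 P.left (ha.resolve_left ha1)
      have nb := h3 P.right (hb.resolve_left hb1)
      -- the two groups commute elementwise
      have cA : ∀ {u : G}, (u = k ∨ u = x * k * x⁻¹ ∨ u = x * x * k * (x * x)⁻¹) →
          ∀ {v : G}, (v = i ∨ v = x * i * x⁻¹ ∨ v = x * x * i * (x * x)⁻¹) → Commute v u := by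
        intro u hu v hv
        have b1 : Commute i k := P.c1
        have b2 : Commute (x * i * x⁻¹) k := P.c2
        have b3 : Commute i (x * k * x⁻¹) := P.c3 D
        have b4 : Commute (x * i * x⁻¹) (x * k * x⁻¹) := P.c4 D
        have b5 : ∀ {v}, Commute v k → Commute v (x * k * x⁻¹) → Commute v (x * x * k * (x * x)⁻¹) := fun h h' => by
          rw [← P.right.rel]; exact h.mul_right h'
        have b6 : ∀ {u}, Commute i u → Commute (x * i * x⁻¹) u → Commute (x * x * i * (x * x)⁻¹) u := fun h h' => by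
          rw [← P.left.rel]; exact h.mul_left h'
        rcases hv with rfl | rfl | rfl <;> rcases hu with rfl | rfl | rfl
        exacts [b1, b3, b5 b1 b3, b2, b4, b5 b2 b4, b6 b1 b2, b6 b3 b4, b6 (b5 b1 b3) (b5 b2 b4)]
      have hxa : ∀ {v w : G}, (v = w ∨ v = x * w * x⁻¹ ∨ v = x * x * w * (x * x)⁻¹) →
          (x * v * x⁻¹ = w ∨ x * v * x⁻¹ = x * w * x⁻¹ ∨ x * v * x⁻¹ = x * x * w * (x * x)⁻¹) := by
        intro v w h
        rcases h with rfl | rfl | rfl
        · exact Or.inr (Or.inl rfl)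
        · exact Or.inr (Or.inr (by group))
        · left
          conv_rhs => rw [← D.cube_conj w]
          group
      have hbq := hbQ
      have haq := haQ
      have hxaQ := D.norm a haQ
      have hxbQ := D.norm b hbQ
      refine hne ?_
      have e : x * (σ * b * a) * x⁻¹ = σ * ((x * b * x⁻¹) * (x * a * x⁻¹)) := by
        rw [mul_assoc σ, ← conj_mul, ← conj_mul]
        congr 1
        simp only [List.mem_cons, List.not_mem_nil, or_false] at hσ
        rcases hσ with rfl | rfl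
        · group
        · exact D.xs
      rw [e, mul_assoc σ b a]
      have hcomm : Commute (b * a) ((x * b * x⁻¹) * (x * a * x⁻¹)) := by
        show (b * a) * _ = _ * (b * a)
        rw [D.comm_mul_left hbQ haQ (mul_mem hxbQ hxaQ), D.comm_mul_right hxbQ hxaQ hbQ,
          D.comm_mul_right hxbQ hxaQ haQ]
        have p1 : b * (x * a * x⁻¹) = (x * a * x⁻¹) * b :=
          (cA (hb.resolve_left hb1) (hxa (ha.resolve_left ha1))).symm
        have p2 : a * (x * b * x⁻¹) = (x * b * x⁻¹) * a := cA (hxa (hb.resolve_left hb1)) (ha.resolve_left ha1)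
        simp [p1, p2, na, nb]
      have c1 : Commute σ (b * a) := hσQ.2 _ (mul_mem hbQ haQ)
      have c2 : Commute σ ((x * b * x⁻¹) * (x * a * x⁻¹)) := hσQ.2 _ (mul_mem hxbQ hxaQ)
      exact (((Commute.refl σ).mul_right c2).mul_left ((c1.symm).mul_right hcomm)).eq

end QPair

namespace Quat

variable (D : QData s Q x) (A : Quat s Q x i) {y : G}

include D A

/-- An element inverting `x` that fixes the cyclic group of `i` inverts it. -/
theorem inv_sign (hy : y * x * y⁻¹ = x⁻¹) (h : y * i * y⁻¹ = i ∨ y * i * y⁻¹ = s * i) : y * i * y⁻¹ = i⁻¹ := by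
  rcases h with h | h
  · exfalso
    have hj : y * (x * i * x⁻¹) * y⁻¹ = x * x * i * (x * x)⁻¹ := by
      calc _ = (y * x * y⁻¹) * (y * i * y⁻¹) * (y * x * y⁻¹)⁻¹ := by group
        _ = x⁻¹ * i * x := by rw [hy, h, inv_inv]
        _ = _ := by rw [inv_eq_of_mul_eq_one_left D.xxx, inv_eq_of_mul_eq_one_right D.xxx]
    have hk : y * (x * x * i * (x * x)⁻¹) * y⁻¹ = x * i * x⁻¹ := by
      calc _ = (y * x * y⁻¹) * (y * (x * i * x⁻¹) * y⁻¹) * (y * x * y⁻¹)⁻¹ := by group
        _ = x⁻¹ * (x * x * i * (x * x)⁻¹) * x := by rw [hy, hj, inv_inv]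
        _ = _ := by group
    have := congrArg (fun v => y * v * y⁻¹) A.rel
    rw [← conj_mul, h, hj, hk, ← A.rel, ← mul_assoc, A.ii] at this
    exact D.s1 (mul_eq_right.mp this)
  · rw [h, A.inv_eq D]

theorem conj_inv_elem (hy : y * x * y⁻¹ = x⁻¹) (hys : y * s * y⁻¹ = s) (hQ : y * i⁻¹ * y⁻¹ ∈ Q) :
    Quat s Q x (y * i⁻¹ * y⁻¹) := by
  refine ⟨hQ, by rw [conj_mul, ← mul_inv_rev, A.ii, D.s_inv, hys], ?_⟩
  have hyx : y * x⁻¹ * y⁻¹ = x := by rw [← conj_inv, hy, inv_inv]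
  have e1 : x * (y * i⁻¹ * y⁻¹) * x⁻¹ = y * (x * x * i * (x * x)⁻¹)⁻¹ * y⁻¹ := by
    calc _ = (y * x⁻¹ * y⁻¹) * (y * i⁻¹ * y⁻¹) * (y * x⁻¹ * y⁻¹)⁻¹ := by rw [hyx]
      _ = y * (x⁻¹ * i * x)⁻¹ * y⁻¹ := by group
      _ = _ := by rw [inv_eq_of_mul_eq_one_left D.xxx, inv_eq_of_mul_eq_one_right D.xxx]
  have e2 : x * x * (y * i⁻¹ * y⁻¹) * (x * x)⁻¹ = y * (x * i * x⁻¹)⁻¹ * y⁻¹ := by
    calc _ = x * (x * (y * i⁻¹ * y⁻¹) * x⁻¹) * x⁻¹ := by group
      _ = (y * x⁻¹ * y⁻¹) * (y * (x * x * i * (x * x)⁻¹)⁻¹ * y⁻¹) * (y * x⁻¹ * y⁻¹)⁻¹ := by rw [hyx, e1]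
      _ = _ := by group
  rw [e1, e2, conj_mul, ← mul_inv_rev, A.ki D]

end Quat

theorem forms {a σ : G} (hσ : σ = 1 ∨ σ = s) {q : G} (hxs : x * s * x⁻¹ = s)
    (h : q = σ * a ∨ q = σ * (x * a * x⁻¹) ∨ q = σ * (x * x * a * (x * x)⁻¹)) :
    ∃ m : ℕ, m < 3 ∧ (q = x ^ m * a * (x ^ m)⁻¹ ∨ q = x ^ m * (s * a) * (x ^ m)⁻¹) := by
  have e : ∀ m : ℕ, x ^ m * (s * a) * (x ^ m)⁻¹ = s * (x ^ m * a * (x ^ m)⁻¹) := fun m => by
    rw [← conj_mul, show x ^ m * s * (x ^ m)⁻¹ = s from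
      mul_inv_eq_iff_eq_mul.mpr ((show Commute x s from mul_inv_eq_iff_eq_mul.mp hxs).pow_left m).eq]
  rcases h with h | h | h
  · exact ⟨0, by norm_num, by rcases hσ with rfl | rfl <;> simp [h]⟩
  · refine ⟨1, by norm_num, ?_⟩
    rcases hσ with rfl | rfl
    · exact Or.inl (by rw [h, one_mul, pow_one])
    · exact Or.inr (by rw [e, h, pow_one])
  · refine ⟨2, by norm_num, ?_⟩
    rcases hσ with rfl | rfl
    · exact Or.inl (by rw [h, one_mul, pow_two])
    · exact Or.inr (by rw [e, h, pow_two])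

/-- Generators satisfying one of the four sets of relations. -/
theorem exists_gens [Finite G] (D : QData s Q x) {y : G} (hQn : ∀ a ∈ Q, y * a * y⁻¹ ∈ Q)
    (hy : y * x * y⁻¹ = x⁻¹) (hys : y * s * y⁻¹ = s) (hyy : y * y = 1 ∨ y * y = s) :
    ∃ sw sq : Bool, ∃ i k t : G, QPair s Q x i k ∧ (∃ m : ℕ, t = x ^ m * y) ∧
      ∀ w ∈ relsC sw sq, ev [i, i⁻¹, k, k⁻¹, x, x⁻¹, t, t⁻¹] w = 1 := by
  classical
  obtain ⟨i, -, A⟩ := D.exists_quat (fun q => q ∈ Q) (fun _ h => h) (fun _ _ ha hb => mul_mem ha hb)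
    (fun _ ha => D.norm _ ha) (by obtain ⟨a, ha, b, hb, h⟩ := D.nonab; exact ⟨a, b, ha, hb, h⟩) (fun _ h => inv_mem h)
  obtain ⟨k, P⟩ := D.exists_second A
  -- the sign convention of the relators
  have rels : ∀ {i k t : G}, QPair s Q x i k → t * x * t⁻¹ = x⁻¹ → ∀ (sw sq : Bool),
      t * t = (if sq then s else 1) → t * i * t⁻¹ = (if sw then k⁻¹ else i⁻¹) →
      t * k * t⁻¹ = (if sw then i⁻¹ else k⁻¹) → ∀ w ∈ relsC sw sq, ev [i, i⁻¹, k, k⁻¹, x, x⁻¹, t, t⁻¹] w = 1 := by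
    intro i k t P ht sw sq htt hti htk w hw
    have hsi : i * i = s := P.left.ii
    have hsk : k * k = s := P.right.ii
    have hxx : x * x * x = 1 := D.xxx
    have r1 : i * (x * i * x⁻¹) * (x * x * i * (x * x)⁻¹)⁻¹ = 1 := by rw [P.left.rel, mul_inv_cancel]
    have r2 : k * (x * k * x⁻¹) * (x * x * k * (x * x)⁻¹)⁻¹ = 1 := by rw [P.right.rel, mul_inv_cancel]
    have r3 : i * k * i⁻¹ * k⁻¹ = 1 := by rw [P.c1]; group
    have r4 : i * (x * k * x⁻¹) * i⁻¹ * (x * k * x⁻¹)⁻¹ = 1 := by rw [P.c3 D]; group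
    have r5 : (x * i * x⁻¹) * k * (x * i * x⁻¹)⁻¹ * k⁻¹ = 1 := by rw [P.c2]; group
    have r6 : i * i * x * (i * i)⁻¹ * x⁻¹ = 1 := by
      rw [hsi, show s * x * s⁻¹ * x⁻¹ = s * (x * s * x⁻¹)⁻¹ by group, D.xs, mul_inv_cancel]
    have r7 : t * x * t⁻¹ * x = 1 := by rw [ht, inv_mul_cancel]
    have r8 : t * t * (i * i)⁻¹ = 1 ∨ t * t = 1 := by
      cases sq <;> simp at htt
      · exact Or.inr htt
      · exact Or.inl (by rw [htt, hsi, mul_inv_cancel])
    cases sw <;> cases sq <;> simp [relsC] at hw htt hti htk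
    all_goals
      rcases hw with rfl | rfl | rfl | rfl | rfl | rfl | rfl | rfl | rfl | rfl | rfl | rfl | rfl | rfl | rfl | rfl | rfl | rfl | rfl | rfl | rfl
      all_goals
        simp only [ev_cons, ev_nil, fl, List.getD_cons_zero, List.getD_cons_succ, mul_one]
      all_goals first
        | exact mul_inv_cancel _
        | exact inv_mul_cancel _
        | (rw [← mul_assoc, ← mul_assoc, hsi, mul_assoc, hsi, D.ss])
        | (rw [← mul_assoc, hsi, ← mul_inv_rev, hsk, mul_inv_cancel])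
        | (rw [← mul_assoc]; exact hxx)
        | (rw [← r1]; group; done)
        | (rw [← r2]; group; done)
        | (rw [← r3]; group; done)
        | (rw [← r4]; group; done)
        | (rw [← r5]; group; done)
        | (rw [← r6]; group; done)
        | (rw [← r7]; group; done)
        | (rw [← mul_assoc, htt, ← mul_inv_rev, hsi, mul_inv_cancel])
        | (rw [htt, ← mul_inv_rev, hsi, mul_inv_cancel])
        | exact htt
        | (rw [← mul_assoc, ← mul_assoc, hti, inv_mul_cancel])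
        | (rw [← mul_assoc, ← mul_assoc, htk, inv_mul_cancel])
  have hxinv : x⁻¹ = x * x := inv_eq_of_mul_eq_one_left D.xxx
  have hxs : ∀ m : ℕ, x ^ m * s * (x ^ m)⁻¹ = s := fun m =>
    mul_inv_eq_iff_eq_mul.mpr ((show Commute x s from mul_inv_eq_iff_eq_mul.mp D.xs).pow_left m).eq
  have hQpow : ∀ (m : ℕ) {a : G}, a ∈ Q → x ^ m * a * (x ^ m)⁻¹ ∈ Q := by
    intro m
    induction m with
    | zero => intro a ha; simpa using ha
    | succ m ih =>
      intro a ha
      have := D.norm _ (ih ha)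
      rwa [show x * (x ^ m * a * (x ^ m)⁻¹) * x⁻¹ = x ^ (m + 1) * a * (x ^ (m + 1))⁻¹ by rw [pow_succ']; group] at this
  -- the image of a generator of a quaternion group
  have hmoved : ∀ {a : G}, Quat s Q x a → ∀ {u : G}, u * x * u⁻¹ = x⁻¹ → u * a * u⁻¹ ∈ Q →
      (u * a * u⁻¹) * (x * (u * a * u⁻¹) * x⁻¹) ≠ (x * (u * a * u⁻¹) * x⁻¹) * (u * a * u⁻¹) := by
    intro a Aa u hu _ h
    have hux : u * x⁻¹ * u⁻¹ = x := by rw [← conj_inv, hu, inv_inv]
    have e : x * (u * a * u⁻¹) * x⁻¹ = u * (x⁻¹ * a * x) * u⁻¹ := by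
      calc _ = (u * x⁻¹ * u⁻¹) * (u * a * u⁻¹) * (u * x⁻¹ * u⁻¹)⁻¹ := by rw [hux]
        _ = _ := by group
    rw [e, conj_comm_iff, show x⁻¹ * a * x = x * x * a * (x * x)⁻¹ by
      rw [hxinv, inv_eq_of_mul_eq_one_right D.xxx]] at h
    have hki := Aa.ki D
    rw [← h] at hki
    have : a * a * (x * a * x⁻¹) = x * a * x⁻¹ := by rw [mul_assoc, Aa.rel, hki]
    rw [Aa.ii] at this
    exact D.s1 (mul_eq_right.mp this)
  have shift : ∀ (m : ℕ) {u : G}, u * x * u⁻¹ = x⁻¹ → u * s * u⁻¹ = s → (u * u = 1 ∨ u * u = s) →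
      (x ^ m * u) * x * (x ^ m * u)⁻¹ = x⁻¹ ∧ (x ^ m * u) * s * (x ^ m * u)⁻¹ = s ∧
        (x ^ m * u) * (x ^ m * u) = u * u := by
    intro m u hu hus _
    refine ⟨?_, ?_, ?_⟩
    · calc _ = x ^ m * (u * x * u⁻¹) * (x ^ m)⁻¹ := by group
        _ = x⁻¹ := by rw [hu]; group
    · calc _ = x ^ m * (u * s * u⁻¹) * (x ^ m)⁻¹ := by group
        _ = s := by rw [hus, hxs]
    · have e : u * x ^ m * u⁻¹ = (x ^ m)⁻¹ := by rw [← conj_pow, hu, inv_pow]
      calc x ^ m * u * (x ^ m * u) = x ^ m * (u * x ^ m * u⁻¹) * (u * u) := by group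
        _ = u * u := by rw [e, mul_inv_cancel, one_mul]
  have sqb : ∀ {t : G}, (t * t = 1 ∨ t * t = s) → ∃ sq : Bool, t * t = (if sq then s else 1) := fun h =>
    h.elim (fun h => ⟨false, h⟩) (fun h => ⟨true, h⟩)
  have qA : y * i * y⁻¹ ∈ Q := hQn i A.mem
  rcases P.moved D qA (hmoved A hy qA) with ⟨σ, hσ, hq⟩ | ⟨σ, hσ, hq⟩
  · -- the two groups are fixed
    simp only [List.mem_cons, List.not_mem_nil, or_false] at hσ
    obtain ⟨m, hm, hqm⟩ := forms hσ D.xs hq
    have h3 : x ^ (3 - m) * x ^ m = 1 := by rw [← pow_add, Nat.sub_add_cancel hm.le, D.x3]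
    obtain ⟨ht, hts, htt⟩ := shift (3 - m) hy hys hyy
    set t := x ^ (3 - m) * y with htdef
    have hti : t * i * t⁻¹ = i⁻¹ := A.inv_sign D ht (by
      have e : t * i * t⁻¹ = x ^ (3 - m) * (y * i * y⁻¹) * (x ^ (3 - m))⁻¹ := by rw [htdef]; group
      rcases hqm with h | h
      · left
        rw [e, h]
        calc _ = (x ^ (3 - m) * x ^ m) * i * (x ^ (3 - m) * x ^ m)⁻¹ := by group
          _ = i := by rw [h3, one_mul, inv_one, mul_one]
      · right
        rw [e, h]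
        calc _ = (x ^ (3 - m) * x ^ m) * (s * i) * (x ^ (3 - m) * x ^ m)⁻¹ := by group
          _ = s * i := by rw [h3, one_mul, inv_one, mul_one])
    have htt' : t * t = 1 ∨ t * t = s := by rw [htt]; exact hyy
    have htQ : ∀ a ∈ Q, t * a * t⁻¹ ∈ Q := fun a ha => by
      rw [htdef, show x ^ (3 - m) * y * a * (x ^ (3 - m) * y)⁻¹ = x ^ (3 - m) * (y * a * y⁻¹) * (x ^ (3 - m))⁻¹ by group]
      exact hQpow _ (hQn a ha)
    have qB : t * k * t⁻¹ ∈ Q := htQ k P.right.mem
    obtain ⟨sq, hsq⟩ := sqb htt'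
    rcases P.moved D qB (hmoved P.right ht qB) with ⟨σ', hσ', hq'⟩ | ⟨σ', hσ', hq'⟩
    · exfalso
      refine P.right.ne_comm D ?_
      -- then `k` would lie in the group of `i`
      have hcl : ∀ {a : G}, (a = i ∨ a = x * i * x⁻¹ ∨ a = x * x * i * (x * x)⁻¹) → a * k = k * a := by
        intro a ha
        rcases ha with rfl | rfl | rfl
        exacts [P.c1, P.c2, by rw [← P.left.rel]; exact (show Commute i k from P.c1).mul_left P.c2]
      have hcl2 : ∀ {a : G}, (a = i ∨ a = x * i * x⁻¹ ∨ a = x * x * i * (x * x)⁻¹) → a * (x * k * x⁻¹) = (x * k * x⁻¹) * a := by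
        intro a ha
        rcases ha with rfl | rfl | rfl
        exacts [P.c3 D, P.c4 D, by rw [← P.left.rel]; exact (show Commute i _ from P.c3 D).mul_left (P.c4 D)]
      have hk2 : k = t * (t * k * t⁻¹) * t⁻¹ := by
        rcases htt' with h | h
        · rw [show t * (t * k * t⁻¹) * t⁻¹ = (t * t) * k * (t * t)⁻¹ by group, h]; group
        · rw [show t * (t * k * t⁻¹) * t⁻¹ = (t * t) * k * (t * t)⁻¹ by group, h, D.cen k P.right.mem,
            mul_inv_cancel_right]
      have tj : t * (x * i * x⁻¹) * t⁻¹ = x⁻¹ * i⁻¹ * x := by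
        calc _ = (t * x * t⁻¹) * (t * i * t⁻¹) * (t * x * t⁻¹)⁻¹ := by group
          _ = _ := by rw [ht, hti, inv_inv]
      have tk : t * (x * x * i * (x * x)⁻¹) * t⁻¹ = x⁻¹ * x⁻¹ * i⁻¹ * (x * x) := by
        calc _ = (t * x * t⁻¹) * ((t * x * t⁻¹) * (t * i * t⁻¹) * (t * x * t⁻¹)⁻¹) * (t * x * t⁻¹)⁻¹ := by group
          _ = _ := by rw [ht, hti, inv_inv]; group
      simp only [List.mem_cons, List.not_mem_nil, or_false] at hσ'
      have key : ∃ a : G, (a = i ∨ a = x * i * x⁻¹ ∨ a = x * x * i * (x * x)⁻¹) ∧ ∃ ρ : G, (ρ = 1 ∨ ρ = s) ∧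
          k = ρ * a⁻¹ := by
        have hts' : t * σ' * t⁻¹ = σ' := by rcases hσ' with rfl | rfl <;> simp [hts]
        rcases hq' with h | h | h
        · exact ⟨i, Or.inl rfl, σ', hσ', by rw [hk2, h, ← conj_mul, hts', hti]⟩
        · refine ⟨x * x * i * (x * x)⁻¹, Or.inr (Or.inr rfl), σ', hσ', ?_⟩
          rw [hk2, h, ← conj_mul, hts', tj, conj_inv, hxinv, inv_eq_of_mul_eq_one_right D.xxx]
        · refine ⟨x * i * x⁻¹, Or.inr (Or.inl rfl), σ', hσ', ?_⟩
          rw [hk2, h, ← conj_mul, hts', tk]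
          congr 1
          calc x⁻¹ * x⁻¹ * i⁻¹ * (x * x) = x * ((x * x * x)⁻¹ * i⁻¹ * (x * x * x)) * x⁻¹ := by group
            _ = _ := by rw [D.xxx, inv_one, one_mul, mul_one]; group
      obtain ⟨a, ha, ρ, hρ, hk⟩ := key
      have hρc : ρ * (x * k * x⁻¹) = (x * k * x⁻¹) * ρ := by
        rcases hρ with rfl | rfl
        exacts [by rw [one_mul, mul_one], D.cen _ (D.norm k P.right.mem)]
      conv_lhs => arg 1; rw [hk]
      conv_rhs => arg 2; rw [hk]
      exact ((show Commute ρ _ from hρc).mul_left (show Commute a _ from hcl2 ha).inv_left).eq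
    · -- rename the second generator
      simp only [List.mem_cons, List.not_mem_nil, or_false] at hσ'
      obtain ⟨e, he, hqe⟩ := forms hσ' D.xs hq'
      set n := 2 * e % 3 with hn
      have hen : x ^ e = x ^ (2 * n) := by
        have h := D.x3
        interval_cases e <;> simp [hn, pow_succ, D.xxx]
      set k' := x ^ n * k * (x ^ n)⁻¹ with hk'
      have hQu : ∀ j : ℕ, Quat s Q x (x ^ j * k * (x ^ j)⁻¹) := by
        intro j
        induction j with
        | zero => simpa using P.right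
        | succ j ih =>
          have := ih.conj D
          rwa [show x * (x ^ j * k * (x ^ j)⁻¹) * x⁻¹ = x ^ (j + 1) * k * (x ^ (j + 1))⁻¹ by rw [pow_succ']; group] at this
      have P' : QPair s Q x i k' := by
        refine ⟨P.left, hQu n, ?_, ?_⟩
        · have : n < 3 := Nat.mod_lt _ (by norm_num)
          interval_cases n <;> simp only [hk', pow_zero, pow_one, pow_two, inv_one, mul_one, one_mul]
          · exact P.c1
          · exact P.c3 D
          · rw [← P.right.rel]; exact (show Commute i k from P.c1).mul_right (P.c3 D)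
        · have : n < 3 := Nat.mod_lt _ (by norm_num)
          interval_cases n <;> simp only [hk', pow_zero, pow_one, pow_two, inv_one, mul_one, one_mul]
          · exact P.c2
          · exact P.c4 D
          · rw [← P.right.rel]; exact (show Commute (x * i * x⁻¹) k from P.c2).mul_right (P.c4 D)
      have htk : t * k' * t⁻¹ = k'⁻¹ := (hQu n).inv_sign D ht (by
        have e1 : t * k' * t⁻¹ = (x ^ n)⁻¹ * (t * k * t⁻¹) * x ^ n := by
          have hx : t * x ^ n * t⁻¹ = (x ^ n)⁻¹ := by rw [← conj_pow, ht, inv_pow]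
          rw [hk', show t * (x ^ n * k * (x ^ n)⁻¹) * t⁻¹ = (t * x ^ n * t⁻¹) * (t * k * t⁻¹) * (t * x ^ n * t⁻¹)⁻¹ by group,
            hx, inv_inv]
        rcases hqe with h | h
        · left
          rw [e1, h, hen, pow_mul', pow_two, ← hk']
          rw [hk']; group
        · right
          rw [e1, h, hen, pow_mul', pow_two]
          calc _ = x ^ n * (s * k) * (x ^ n)⁻¹ := by group
            _ = _ := by rw [← conj_mul, hxs n])
      exact ⟨false, sq, i, k', t, P', ⟨_, rfl⟩, rels P' ht false sq hsq hti htk⟩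
  · -- the two groups are exchanged
    have hyi : y * i⁻¹ * y⁻¹ ∈ Q := hQn _ (inv_mem A.mem)
    have B := A.conj_inv_elem D hy hys hyi
    set k' := y * i⁻¹ * y⁻¹ with hk'
    simp only [List.mem_cons, List.not_mem_nil, or_false] at hσ
    have hk'B : ∃ ρ : G, (ρ = 1 ∨ ρ = s) ∧
        (k' = ρ * k ∨ k' = ρ * (x * k * x⁻¹) ∨ k' = ρ * (x * x * k * (x * x)⁻¹)) := by
      refine ⟨s * σ, by rcases hσ with rfl | rfl <;> simp [D.ss], ?_⟩
      have : k' = s * (y * i * y⁻¹) := by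
        rw [hk', A.inv_eq D, ← conj_mul, hys]
      rcases hq with h | h | h <;> simp [this, h, mul_assoc]
    obtain ⟨ρ, hρ, hρk⟩ := hk'B
    have hρc : ∀ u ∈ Q, ρ * u = u * ρ := fun u hu => by
      rcases hρ with rfl | rfl
      exacts [by rw [one_mul, mul_one], D.cen u hu]
    have P' : QPair s Q x i k' := by
      refine ⟨A, B, ?_, ?_⟩
      · have c1 : Commute i ρ := (hρc i A.mem).symm
        rcases hρk with h | h | h <;> rw [h] <;> refine c1.mul_right ?_
        exacts [P.c1, P.c3 D, by rw [← P.right.rel]; exact (show Commute i k from P.c1).mul_right (P.c3 D)]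
      · have c1 : Commute (x * i * x⁻¹) ρ := (hρc _ (D.norm i A.mem)).symm
        rcases hρk with h | h | h <;> rw [h] <;> refine c1.mul_right ?_
        exacts [P.c2, P.c4 D, by rw [← P.right.rel]; exact (show Commute (x * i * x⁻¹) k from P.c2).mul_right (P.c4 D)]
    have hyk : y * k' * y⁻¹ = i⁻¹ := by
      have e : y * k' * y⁻¹ = (y * y) * i⁻¹ * (y * y)⁻¹ := by rw [hk']; group
      rcases hyy with h | h <;> rw [e, h]
      · group
      · rw [D.cen _ (inv_mem A.mem), mul_inv_cancel_right]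
    have hyi' : y * i * y⁻¹ = k'⁻¹ := by rw [hk', conj_inv, inv_inv]
    obtain ⟨sq, hsq⟩ := sqb hyy
    exact ⟨true, sq, i, k', y, P', ⟨0, by simp⟩, rels P' hy true sq hsq hyi' hyk⟩

end CfsgLib.C192
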