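import Mathlib.Init

/-!
Data for the third kind of centralizer of order 192: automorphisms of the centralizers of fours groups,
transformations of the generators, and words.
-/

set_option autoImplicit false

namespace CfsgLib.C192.K10

/-- The nodes of the elementary abelian group of order 16. -/
def nR : List Nat := [0, 7, 8, 9, 10, 35, 38, 41, 160, 162, 166, 168, 188, 189, 190, 191]

/-- The centralizer of a fours group. -/
def nD1 : List Nat := [0, 1, 2, 3, 4, 7, 8, 9, 10, 13, 16, 19, 22, 35, 38, 41, 133, 136, 142, 145, 160, 162, 166, 168, 181, 183, 184, 186, 188, 189, 190, 191]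

/-- Its generators. -/
def gen1 : List Nat := [8, 9, 7, 160, 1]

/-- Its elements as words. -/
def wrd1 : List (List Nat) := [[], [4], [0, 4], [0, 1, 4], [1, 4], [2], [0], [1], [0, 1], [4, 2], [0, 4, 2], [0, 2, 4], [2, 4], [0, 2], [1, 2], [0, 1, 2], [3, 4], [4, 3], [1, 3, 4], [1, 4, 3], [3], [0, 3], [1, 3], [0, 1, 3], [3, 4, 2], [4, 2, 3], [2, 3, 4], [2, 4, 3], [2, 3], [0, 2, 3], [1, 2, 3], [0, 1, 2, 3]]

/-- The possible actions of an element of order three. -/
def good1 : List (List Nat) := [[0, 181, 184, 183, 186, 188, 9, 10, 8, 2, 3, 1, 4, 190, 191, 189, 142, 133, 136, 145, 7, 38, 41, 35, 19, 16, 13, 22, 160, 166, 168, 162], [0, 183, 186, 181, 184, 188, 9, 10, 8, 1, 4, 2, 3, 190, 191, 189, 145, 136, 133, 142, 7, 38, 41, 35, 22, 13, 16, 19, 160, 166, 168, 162], [0, 184, 181, 186, 183, 188, 9, 10, 8, 3, 2, 4, 1, 190, 191, 189, 133, 142, 145, 136, 7, 38, 41, 35, 16, 19, 22, 13, 160, 166, 168, 162], [0, 186, 183, 184, 181, 188, 9, 10, 8, 4, 1,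 3, 2, 190, 191, 189, 136, 145, 142, 133, 7, 38, 41, 35, 13, 22, 19, 16, 160, 166, 168, 162], [0, 181, 184, 183, 186, 191, 9, 10, 8, 4, 1, 3, 2, 189, 188, 190, 145, 136, 133, 142, 35, 41, 38, 7, 16, 19, 22, 13, 166, 160, 162, 168], [0, 183, 186, 181, 184, 191, 9, 10, 8, 3, 2, 4, 1, 189, 188, 190, 142, 133, 136, 145, 35, 41, 38, 7, 13, 22, 19, 16, 166, 160, 162, 168], [0, 184, 181, 186, 183, 191, 9, 10, 8, 1, 4, 2, 3, 189, 188, 190, 136, 145, 142, 133, 35, 41, 38, 7, 19, 16, 13, 22, 166, 160, 162, 168], [0, 186, 183, 184, 181, 191, 9, 10, 8, 2, 3, 1, 4, 189, 188, 190, 133, 142, 145, 136, 35, 41, 38, 7, 22, 13, 16, 19, 166, 160, 162, 168]]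

/-- The impossible actions on the group of order 16. -/
def bad1 : List (List Nat) := [[0, 189, 9, 10, 8, 191, 190, 188, 38, 7, 35, 41, 168, 162, 160, 166], [0, 190, 9, 10, 8, 188, 189, 191, 41, 35, 7, 38, 162, 168, 166, 160]]

/-- A class of involutions. -/
def cls1 : List Nat := [9, 10, 133, 136, 142, 145]

/-- The centralizer of a fours group. -/
def nD2 : List Nat := [0, 7, 8, 9, 10, 35, 38, 41, 68, 70, 82, 84, 104, 106, 126, 128, 138, 139, 150, 151, 160, 162, 164, 165, 166, 168, 178, 179, 188, 189, 190, 191]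

/-- Its generators. -/
def gen2 : List Nat := [8, 166, 7, 9, 68]

/-- Its elements as words. -/
def wrd2 : List (List Nat) := [[], [2], [0], [3], [0, 3], [0, 2], [2, 3], [0, 2, 3], [4], [0, 4], [1, 4], [0, 1, 4], [1, 4, 3], [1, 3, 4], [3, 4], [4, 3], [4, 2], [0, 4, 2], [0, 2, 4], [2, 4], [1, 3], [0, 1, 3], [2, 3, 4], [2, 4, 3], [1], [0, 1], [3, 4, 2], [4, 2, 3], [1, 2, 3], [0, 1, 2, 3], [1, 2], [0, 1, 2]]

/-- The possible actions of an element of order three. -/
def good2 : List (List Nat) := [[0, 9, 166, 38, 188, 160, 7, 190, 138, 150, 151, 139, 106, 126, 104, 128, 179, 164, 165, 178, 189, 41, 84, 70, 168, 8, 82, 68, 191, 35, 162, 10], [0, 9, 166, 38, 188, 160, 7, 190, 139, 151, 150, 138, 104, 128, 106, 126, 178, 165, 164, 179, 189, 41, 82, 68, 168, 8, 84, 70, 191, 35, 162, 10], [0, 9, 166, 38, 188, 160, 7, 190, 150, 138, 139, 151, 126, 106, 128, 104, 164, 179, 178, 165, 189, 41, 70, 84, 168, 8, 68, 82, 191, 35, 162, 10], [0, 9, 166, 38, 188,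 160, 7, 190, 151, 139, 138, 150, 128, 104, 126, 106, 165, 178, 179, 164, 189, 41, 68, 82, 168, 8, 70, 84, 191, 35, 162, 10], [0, 160, 166, 41, 189, 9, 191, 35, 138, 150, 151, 139, 104, 128, 106, 126, 164, 179, 178, 165, 188, 38, 68, 82, 168, 8, 70, 84, 7, 190, 10, 162], [0, 160, 166, 41, 189, 9, 191, 35, 139, 151, 150, 138, 106, 126, 104, 128, 165, 178, 179, 164, 188, 38, 70, 84, 168, 8, 68, 82, 7, 190, 10, 162], [0, 160, 166, 41, 189, 9, 191, 35, 150, 138, 139, 151, 128, 104, 126, 106, 179, 164, 165, 178, 188, 38, 82, 68, 168, 8, 84, 70, 7, 190, 10, 162], [0, 160, 166, 41, 189, 9, 191, 35, 151, 139, 138, 150, 126, 106, 128, 104, 178, 165, 164, 179, 188, 38, 84, 70, 168, 8, 82, 68, 7, 190, 10, 162]]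

/-- The impossible actions on the group of order 16. -/
def bad2 : List (List Nat) := [[0, 10, 166, 189, 41, 162, 190, 7, 38, 188, 168, 8, 35, 191, 160, 9], [0, 162, 166, 188, 38, 10, 35, 191, 41, 189, 168, 8, 190, 7, 9, 160]]

/-- A class of involutions. -/
def cls2 : List Nat := [104, 106, 126, 128, 166, 168]

/-- The centralizer of a fours group. -/
def nD3 : List Nat := [0, 7, 8, 9, 10, 35, 38, 41, 72, 74, 78, 80, 112, 114, 118, 120, 140, 141, 148, 149, 160, 162, 166, 168, 170, 171, 174, 175, 188, 189, 190, 191]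

/-- Its generators. -/
def gen3 : List Nat := [8, 160, 7, 9, 72]

/-- Its elements as words. -/
def wrd3 : List (List Nat) := [[], [2], [0], [3], [0, 3], [0, 2], [2, 3], [0, 2, 3], [4], [0, 4], [0, 1, 4], [1, 4], [3, 4], [4, 3], [1, 3, 4], [1, 4, 3], [4, 2], [0, 4, 2], [0, 2, 4], [2, 4], [1], [0, 1], [1, 3], [0, 1, 3], [3, 4, 2], [4, 2, 3], [2, 3, 4], [2, 4, 3], [1, 2], [0, 1, 2], [1, 2, 3], [0, 1, 2, 3]]

/-- The possible actions of an element of order three. -/
def good3 : List (List Nat) := [[0, 38, 160, 7, 188, 190, 9, 166, 170, 174, 171, 175, 118, 112, 114, 120, 74, 78, 72, 80, 162, 8, 189, 35, 148, 141, 140, 149, 191, 41, 168, 10], [0, 38, 160, 7, 188, 190, 9, 166, 171, 175, 170, 174, 120, 114, 112, 118, 72, 80, 74, 78, 162, 8, 189, 35, 149, 140, 141, 148, 191, 41, 168, 10], [0, 38, 160, 7, 188, 190, 9, 166, 174, 170, 175, 171, 112, 118, 120, 114, 78, 74, 80, 72, 162, 8, 189, 35, 141, 148, 149, 140, 191, 41, 168, 10], [0, 38, 160, 7, 188,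 190, 9, 166, 175, 171, 174, 170, 114, 120, 118, 112, 80, 72, 78, 74, 162, 8, 189, 35, 140, 149, 148, 141, 191, 41, 168, 10], [0, 191, 160, 35, 189, 41, 166, 9, 170, 174, 171, 175, 120, 114, 112, 118, 80, 72, 78, 74, 162, 8, 188, 7, 141, 148, 149, 140, 38, 190, 10, 168], [0, 191, 160, 35, 189, 41, 166, 9, 171, 175, 170, 174, 118, 112, 114, 120, 78, 74, 80, 72, 162, 8, 188, 7, 140, 149, 148, 141, 38, 190, 10, 168], [0, 191, 160, 35, 189, 41, 166, 9, 174, 170, 175, 171, 114, 120, 118, 112, 72, 80, 74, 78, 162, 8, 188, 7, 148, 141, 140, 149, 38, 190, 10, 168], [0, 191, 160, 35, 189, 41, 166, 9, 175, 171, 174, 170, 112, 118, 120, 114, 74, 78, 72, 80, 162, 8, 188, 7, 149, 140, 141, 148, 38, 190, 10, 168]]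

/-- The impossible actions on the group of order 16. -/
def bad3 : List (List Nat) := [[0, 41, 160, 188, 7, 191, 168, 10, 162, 8, 35, 189, 190, 38, 9, 166], [0, 190, 160, 189, 35, 38, 10, 168, 162, 8, 7, 188, 41, 191, 166, 9]]

/-- A class of involutions. -/
def cls3 : List Nat := [112, 114, 118, 120, 160, 162]

/-- A class of involutions. -/
def cls4 : List Nat := [7, 27, 32, 38, 105, 113, 119, 127, 180, 185, 188, 191]

/-- A class of involutions. -/
def cls5 : List Nat := [35, 41, 86, 87, 107, 115, 121, 129, 182, 187, 189, 190]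

/-- Elements of the centralizer acting on the group of order 16. -/
def nT : List (Nat × List Nat) := [(1, [0, 38, 8, 9, 10, 41, 7, 35, 162, 160, 168, 166, 191, 190, 189, 188]), (68, [0, 191, 8, 10, 9, 190, 188, 189, 162, 160, 166, 168, 38, 41, 35, 7]), (72, [0, 188, 8, 10, 9, 189, 191, 190, 160, 162, 168, 166, 7, 35, 41, 38])]

/-- The first standard action. -/
def f10 : List Nat := [0, 181, 184, 183, 186, 188, 9, 10, 8, 2, 3, 1, 4, 190, 191, 189, 142, 133, 136, 145, 7, 38, 41, 35, 19, 16, 13, 22, 160, 166, 168, 162]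

/-- The second standard action. -/
def f20 : List Nat := [0, 160, 166, 41, 189, 9, 191, 35, 138, 150, 151, 139, 104, 128, 106, 126, 164, 179, 178, 165, 188, 38, 68, 82, 168, 8, 70, 84, 7, 190, 10, 162]

/-- Images of the letters under an automorphism. -/
def ns_to2 : List Nat := [1, 2, 72, 74, 5, 6, 27, 27]

/-- The letters in terms of the images. -/
def ws_to2 : List (List Nat) := [[0], [1], [5, 2, 4], [5, 3, 4], [4], [5], [5, 6], [5, 6]]

/-- Images of the letters under an automorphism. -/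
def ns_to3 : List Nat := [1, 2, 82, 84, 5, 6, 32, 32]

/-- The letters in terms of the images. -/
def ws_to3 : List (List Nat) := [[0], [1], [4, 2, 5], [4, 3, 5], [4], [5], [4, 6], [4, 6]]

/-- Images of the letters under an automorphism. -/
def ns_p13 : List Nat := [2, 1, 4, 3, 6, 5, 7, 7]

/-- The letters in terms of the images. -/
def ws_p13 : List (List Nat) := [[1], [0], [3], [2], [5], [4], [6], [6]]

/-- Images of the letters under an automorphism. -/
def ns_p23 : List Nat := [1, 2, 72, 74, 5, 6, 27, 27]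

/-- The letters in terms of the images. -/
def ws_p23 : List (List Nat) := [[0], [1], [5, 2, 4], [5, 3, 4], [4], [5], [5, 6], [5, 6]]

/-- Automorphisms fixing the two involutions. -/
def nsF : List (List Nat) := [[1, 2, 3, 4, 5, 6, 7, 7], [1, 2, 3, 4, 5, 6, 35, 35], [1, 2, 3, 4, 143, 132, 7, 7], [1, 2, 3, 4, 143, 132, 35, 35], [2, 1, 4, 3, 44, 59, 7, 7], [2, 1, 4, 3, 44, 59, 35, 35], [2, 1, 4, 3, 54, 49, 7, 7], [2, 1, 4, 3, 54, 49, 35, 35], [3, 4, 1, 2, 49, 54, 7, 7], [3, 4, 1, 2, 49, 54, 35, 35], [3, 4, 1, 2, 59, 44, 7, 7], [3, 4, 1, 2, 59, 44, 35, 35], [4, 3, 2, 1, 6, 5, 7, 7], [4, 3, 2, 1, 6, 5, 35, 35], [4, 3, 2, 1, 132, 143, 7, 7], [4, 3, 2, 1, 132, 143, 35, 35]]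

/-- The letters in terms of their images. -/
def wsF : List (List (List Nat)) := [[[0], [1], [2], [3], [4], [5], [6], [6]], [[0], [1], [2], [3], [4], [5], [0, 0, 6], [0, 0, 6]], [[0], [1], [2], [3], [5, 0, 2, 5], [4, 0, 2, 4], [6], [6]], [[0], [1], [2], [3], [5, 0, 2, 5], [4, 0, 2, 4], [0, 0, 6], [0, 0, 6]], [[1], [0], [3], [2], [0, 4, 2], [2, 5, 0], [6], [6]], [[1], [0], [3], [2], [0, 4, 2], [2, 5, 0], [0, 0, 6], [0, 0, 6]], [[1], [0], [3], [2], [2, 4, 0], [0, 5, 2], [6], [6]], [[1], [0], [3], [2], [2, 4, 0], [0, 5, 2], [0, 0, 6], [0, 0, 6]], [[2], [3], [0], [1], [0, 5, 2], [2, 4, 0], [6], [6]], [[2], [3], [0], [1], [0, 5, 2], [2, 4, 0], [0, 0, 6], [0, 0, 6]], [[2], [3], [0], [1], [2, 5, 0], [0, 4, 2], [6], [6]], [[2], [3], [0], [1], [2, 5, 0], [0, 4, 2], [0, 0, 6], [0, 0, 6]], [[3], [2], [1], [0], [5], [4], [6], [6]], [[3], [2], [1], [0], [5], [4], [0, 0, 6], [0, 0, 6]], [[3], [2], [1], [0], [4, 0, 2, 4], [5, 0, 2, 5], [6], [6]], [[3], [2],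 [1], [0], [4, 0, 2, 4], [5, 0, 2, 5], [0, 0, 6], [0, 0, 6]]]

/-- Which element, node, order, whether without fixed points, its word, its action on the group of order 8. -/
def pows : List (Bool × Nat × Nat × Bool × List Nat × List Nat) := [(false, 5, 7, true, [4], [0, 8, 133, 136, 142, 145, 9, 10]),
  (true, 6, 7, true, [5], [0, 8, 126, 128, 168, 166, 106, 104]),
  (false, 12, 7, true, [0, 5], [0, 8, 145, 142, 9, 10, 136, 133]),
  (false, 28, 7, true, [5, 0], [0, 8, 142, 145, 10, 9, 136, 133]),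
  (false, 32, 7, true, [5, 6], [0, 8, 142, 145, 133, 136, 9, 10]),
  (true, 17, 7, true, [2, 4], [0, 8, 166, 168, 106, 104, 128, 126]),
  (true, 18, 7, true, [2, 5], [0, 8, 126, 128, 166, 168, 104, 106]),
  (true, 23, 7, true, [4, 0], [0, 8, 168, 166, 106, 104, 126, 128]),
  (true, 32, 7, true, [5, 6], [0, 8, 168, 166, 126, 128, 106, 104]),
  (false, 0, 3, false, [], [0, 8, 9, 10, 133, 136, 142, 145]),
  (true, 0, 3, false, [], [0, 8, 104, 106, 126, 128, 166, 168]),
  (true, 1, 2, false, [0], [0, 8, 104, 106, 128, 126, 168, 166]),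
  (false, 1, 3, false, [0], [0, 8, 9, 10, 136, 133, 145, 142]),
  (false, 6, 3, false, [5], [0, 8, 142, 145, 9, 10, 133, 136]),
  (false, 7, 3, false, [6], [0, 8, 9, 10, 142, 145, 133, 136]),
  (true, 7, 3, false, [6], [0, 8, 126, 128, 104, 106, 166, 168]),
  (true, 13, 2, false, [0, 6], [0, 8, 128, 126, 104, 106, 168, 166]),
  (false, 78, 2, false, [5, 0, 4], [0, 8, 10, 9, 136, 133, 142, 145]),
  (true, 3, 4, false, [2], [0, 8, 106, 104, 126, 128, 168, 166]),
  (true, 5, 4, false, [4], [0, 8, 168, 166, 104, 106, 128, 126]),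
  (false, 13, 3, false, [0, 6], [0, 8, 9, 10, 145, 142, 136, 133]),
  (false, 23, 3, false, [4, 0], [0, 8, 133, 136, 145, 142, 10, 9]),
  (true, 9, 3, false, [0, 2], [0, 8, 106, 104, 128, 126, 166, 168]),
  (true, 11, 3, false, [0, 4], [0, 8, 166, 168, 104, 106, 126, 128]),
  (true, 12, 3, false, [0, 5], [0, 8, 128, 126, 166, 168, 106, 104]),
  (true, 27, 3, false, [4, 6], [0, 8, 104, 106, 168, 166, 128, 126]),
  (false, 138, 2, false, [4, 0, 5, 6], [0, 8, 10, 9, 145, 142, 133, 136])]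

/-- The elementary abelian groups of order 8. -/
def nE1 : List Nat := [0, 8, 9, 10, 133, 136, 142, 145]

/-- The elementary abelian groups of order 8. -/
def nE2 : List Nat := [0, 8, 104, 106, 126, 128, 166, 168]

/-- The possible actions on the group of order 16. -/
def rgood1 : List (List Nat) := [[0, 188, 9, 10, 8, 190, 191, 189, 7, 38, 41, 35, 160, 166, 168, 162], [0, 191, 9, 10, 8, 189, 188, 190, 35, 41, 38, 7, 166, 160, 162, 168]]

/-- The possible actions on the group of order 16. -/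
def rgood2 : List (List Nat) := [[0, 9, 166, 38, 188, 160, 7, 190, 189, 41, 168, 8, 191, 35, 162, 10], [0, 160, 166, 41, 189, 9, 191, 35, 188, 38, 168, 8, 7, 190, 10, 162]]

/-- The possible actions on the group of order 16. -/
def rgood3 : List (List Nat) := [[0, 38, 160, 7, 188, 190, 9, 166, 162, 8, 189, 35, 191, 41, 168, 10], [0, 191, 160, 35, 189, 41, 166, 9, 162, 8, 188, 7, 38, 190, 10, 168]]

end CfsgLib.C192.K10
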