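import Cfsg.Agent.C192.T10
import Cfsg.Agent.C192.K10Data
import Mathlib.Data.List.GetD

/-!
Coordinates for the third kind of centralizer, changes of generators, and actions on lists of nodes.
-/

set_option autoImplicit false
set_option linter.unusedSectionVars false
set_option maxRecDepth 100000

namespace CfsgLib.C192.K10

open CfsgLib.Coset CfsgLib.Invol
open CfsgLib.J2U (pathW)

/-- The product table. -/
noncomputable abbrev mT : Nat → Nat → Nat := T10.m

/-- The word of a node. -/
noncomputable def pth (i : Nat) : List Nat := pathW T10.Par 12 i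

/-- The conjugate of a node under another, as a test. -/
noncomputable def isCj (h x y : Nat) : Bool := Nat.beq (mT h x) (mT y h)

variable {G : Type*} [Group G]

/-- The element of a node. -/
noncomputable def el (L : List G) (i : Nat) : G := ev L (pth i)

/-- Generators of the centralizer with the relators of the third kind. -/
structure Loc10 (z : G) (L : List G) : Prop where
  len : L.length = 8
  rel : ∀ w ∈ relsC true false, ev L w = 1
  gen : Subgroup.closure {x | x ∈ L} = Subgroup.centralizer ({z} : Set G)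
  card : Nat.card (Subgroup.centralizer ({z} : Set G)) = 192
  zeq : z = ev L [0, 0]

namespace Loc10

variable {z : G} {L : List G} (Lo : Loc10 z L)

include Lo

theorem cod : Cod z mT 8 (el L) := T10.cod Lo.len Lo.rel Lo.gen Lo.card Lo.zeq

theorem ev_node {w : List Nat} (hw : ∀ l ∈ w, l < 8) {n : Nat} (hn : follow (tget T10.Tb) 0 w = n) :
    n < 192 ∧ ev L w = el L n :=
  T10.word Lo.len Lo.rel hw hn

end Loc10

/-- Is the list of images of the letters a change of generators? -/
noncomputable def sigOK (ns : List Nat) (ws : List (List Nat)) : Bool :=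
  Nat.beq ns.length 8 && ns.all (fun i => Nat.blt i 192) && (relsC true false).all (fun w => Nat.beq (evN mT ns w) 0) &&
    Nat.beq (evN mT ns [0, 0]) 8 && Nat.beq ws.length 8 &&
    (List.range 8).all fun l => Nat.beq (evN mT ns (ws.getD l [])) (follow (tget T10.Tb) 0 [l])

/-- The node of a new node. -/
noncomputable def sg (ns : List Nat) (i : Nat) : Nat := evN mT ns (pth i)

theorem Loc10.map {z : G} {L : List G} (Lo : Loc10 z L) {ns : List Nat} {ws : List (List Nat)}
    (h : sigOK ns ws = true) :
    Loc10 z (ns.map (el L)) ∧ ∀ i, el (ns.map (el L)) i = el L (sg ns i) ∧ sg ns i < 192 := by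
  simp only [sigOK, Bool.and_eq_true, List.all_eq_true, Nat.blt_eq, Nat.beq_eq, List.mem_range] at h
  obtain ⟨⟨⟨⟨⟨h8, hlt⟩, hr⟩, hz⟩, -⟩, hg⟩ := h
  have C := Lo.cod
  have hev : ∀ w, evN mT ns w < 192 ∧ ev (ns.map (el L)) w = el L (evN mT ns w) := fun w => C.evN_eq hlt rfl w
  refine ⟨⟨by rw [List.length_map, h8], fun w hw => ?_, ?_, Lo.card, ?_⟩, fun i => ⟨(hev _).2, (hev _).1⟩⟩
  · rw [(hev w).2, hr w hw, C.one]
  · refine le_antisymm ((Subgroup.closure_le _).mpr fun x hx => ?_) ?_
    · obtain ⟨i, -, rfl⟩ := List.mem_map.mp hx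
      exact Subgroup.mem_centralizer_singleton_iff.mpr (C.mem i)
    · rw [← Lo.gen, Subgroup.closure_le]
      intro x hx
      obtain ⟨l, hl, rfl⟩ := List.getElem_of_mem hx
      have e : L[l] = ev L [l] := by simp [ev_cons, ev_nil, fl, hl]
      have hl8 : l < 8 := Lo.len ▸ hl
      rw [e, (Lo.ev_node (w := [l]) (by simpa using hl8) rfl).2, ← hg l hl8, ← (hev _).2]
      generalize ws.getD l [] = w
      induction w with
      | nil => rw [ev_nil]; exact one_mem _
      | cons a w ih => rw [ev_cons]; exact mul_mem (mem_closure_fl a) ih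
  · rw [(hev _).2, hz, ← C.zeq]

/-- The position of a node in a list. -/
noncomputable def pos : List Nat → Nat → Nat
  | [], _ => 0
  | a :: l, x => cond (Nat.beq a x) 0 (pos l x + 1)

/-- A function given by a list of images along a list. -/
noncomputable def ap (D f : List Nat) (x : Nat) : Nat := f.getD (pos D x) 0

theorem ap_map {D : List Nat} (F : Nat → Nat) {x : Nat} (hx : x ∈ D) : ap D (D.map F) x = F x := by
  induction D with
  | nil => simp at hx
  | cons a l ih =>
    by_cases h : a = x
    · subst h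
      simp [ap, pos]
    · have hb : Nat.beq a x = false := by rw [← Bool.not_eq_true, Nat.beq_eq]; exact h
      have hx' : x ∈ l := (List.mem_cons.mp hx).resolve_left (Ne.symm h)
      have := ih hx'
      simp only [ap] at this ⊢
      simpa [pos, hb] using this

/-- An element acting on a list of nodes by given images. -/
def Acts (el : Nat → G) (D : List Nat) (e : G) (f : List Nat) : Prop :=
  ∀ x ∈ D, ap D f x ∈ D ∧ e * el x * e⁻¹ = el (ap D f x)

/-- The image of a node under a word in given permutations. -/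
noncomputable def applyW (D : List Nat) (ps : List (List Nat)) (w : List Nat) (x : Nat) : Nat :=
  w.foldr (fun l acc => ap D (ps.getD l []) acc) x

/-- Continue with the member of the list equal to the value. -/
noncomputable def thru (D : List Nat) (v : Nat) (k : Nat → Bool) : Bool := D.any fun y => Nat.beq v y && k y

theorem thru_elim {D : List Nat} {v : Nat} {k : Nat → Bool} (h : thru D v k = true) : k v = true := by
  simp only [thru, List.any_eq_true, Bool.and_eq_true, Nat.beq_eq] at h
  obtain ⟨y, -, rfl, hk⟩ := h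
  exact hk

theorem thru_of {D : List Nat} {v : Nat} (hv : v ∈ D) {k : Nat → Bool} (h : k v = true) : thru D v k = true := by
  simp only [thru, List.any_eq_true, Bool.and_eq_true, Nat.beq_eq]
  exact ⟨v, hv, rfl, h⟩

/-- Evaluate a word step by step. -/
noncomputable def runW (D : List Nat) (ps : List (List Nat)) : List Nat → Nat → (Nat → Bool) → Bool
  | [], x, k => k x
  | l :: w, x, k => runW D ps w x fun v => thru D (ap D (ps.getD l []) v) k

theorem runW_elim {D : List Nat} {ps : List (List Nat)} :
    ∀ (w : List Nat) (x : Nat) (k : Nat → Bool), runW D ps w x k = true → k (applyW D ps w x) = true := by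
  intro w
  induction w with
  | nil => intro x k h; exact h
  | cons l w ih => intro x k h; exact thru_elim (ih x _ h)

/-- The word fixes the central involution and acts as no element of its centralizer. -/
noncomputable def killB (D : List Nat) (ps : List (List Nat)) (w : List Nat) : Bool :=
  w.all (fun l => Nat.blt l ps.length) && runW D ps w 8 (fun y => Nat.beq y 8) &&
    (List.range 192).all fun h => D.any fun x => runW D ps w x fun y => !(isCj h x y)

theorem acts_word {el : Nat → G} {D : List Nat} {es : List G} {ps : List (List Nat)} (_hlen : es.length = ps.length)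
    (hes : ∀ l < ps.length, Acts el D (es.getD l 1) (ps.getD l [])) :
    ∀ {w : List Nat}, (∀ l ∈ w, l < ps.length) → ∀ x ∈ D, applyW D ps w x ∈ D ∧
      ev es w * el x * (ev es w)⁻¹ = el (applyW D ps w x) := by
  intro w
  induction w with
  | nil => intro _ x hx; exact ⟨hx, by simp [ev_nil, applyW]⟩
  | cons l w ih =>
    intro hw x hx
    obtain ⟨h1, h2⟩ := ih (fun a ha => hw a (List.mem_cons_of_mem _ ha)) x hx
    obtain ⟨h3, h4⟩ := hes l (hw l (List.mem_cons_self ..)) _ h1
    refine ⟨h3, ?_⟩
    have e : fl es l = es.getD l 1 := rfl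
    rw [ev_cons, e, mul_inv_rev,
      show es.getD l 1 * ev es w * el x * ((ev es w)⁻¹ * (es.getD l 1)⁻¹) =
        es.getD l 1 * (ev es w * el x * (ev es w)⁻¹) * (es.getD l 1)⁻¹ by group, h2, h4]
    rfl

theorem no_kill {z : G} {el : Nat → G} (C : Cod z mT 8 el) {D : List Nat} (hD : ∀ x ∈ D, x < 192) (h8 : 8 ∈ D)
    {es : List G} {ps : List (List Nat)} (hlen : es.length = ps.length)
    (hes : ∀ l < ps.length, Acts el D (es.getD l 1) (ps.getD l []))
    {w : List Nat} (hk : killB D ps w = true) : False := by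
  simp only [killB, Bool.and_eq_true, List.all_eq_true, Nat.blt_eq, Nat.beq_eq, List.mem_range, List.any_eq_true,
    Bool.not_eq_true', ← Bool.not_eq_true] at hk
  obtain ⟨⟨hw, hz'⟩, hh⟩ := hk
  have hz : applyW D ps w 8 = 8 := Nat.eq_of_beq_eq_true (runW_elim _ _ _ hz')
  have ha := acts_word hlen hes hw
  have hez : ev es w * z = z * ev es w := by
    have := (ha 8 h8).2
    rw [hz, ← C.zeq] at this
    exact mul_inv_eq_iff_eq_mul.mp this
  obtain ⟨h, hh192, he⟩ := C.surj _ hez
  obtain ⟨x, hx, hne'⟩ := hh h hh192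
  have hne : ¬ isCj h x (applyW D ps w x) = true := by simpa using runW_elim _ _ _ hne' 
  obtain ⟨hm, h2⟩ := ha x hx
  rw [he] at h2
  exact hne (Nat.beq_eq.mpr ((C.conj_eq_iff hh192 (hD x hx) (hD _ hm)).mp h2))

theorem acts_node {z : G} {el : Nat → G} (C : Cod z mT 8 el) {D f : List Nat} (hD : ∀ x ∈ D, x < 192) {h : Nat}
    (hh : h < 192) (hok : (D.all fun x => D.contains (ap D f x) && isCj h x (ap D f x)) = true) :
    Acts el D (el h) f := by
  intro x hx
  have := List.all_eq_true.mp hok x hx
  rw [Bool.and_eq_true, List.contains_iff_mem, isCj, Nat.beq_eq] at this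
  exact ⟨this.1, (C.conj_eq_iff hh (hD x hx) (hD _ this.1)).mpr this.2⟩

/-- An element of order three moving `z` to the node `a`, and `a` to their product. -/
structure Mv (el : Nat → G) (z : G) (a : Nat) (g : G) : Prop where
  g3 : g ^ 3 = 1
  gz : g * z * g⁻¹ = el a
  ga : g * el a * g⁻¹ = z * el a

/-- The image of a word in the generators. -/
noncomputable def extW (ims : List Nat) (w : List Nat) : Nat := evN mT ims w

/-- The list of images determined by those of the generators. -/
noncomputable def extF (ims : List Nat) (wrd : List (List Nat)) : List Nat := wrd.map (extW ims)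

/-- The generators and words describe the centralizer of the fours group. -/
noncomputable def dataOK (a : Nat) (D gens : List Nat) (wrd : List (List Nat)) : Bool :=
  Nat.blt a 192 && D.contains 8 && D.contains a && D.contains (mT 8 a) &&
    (List.range 192).all (fun i => cond (comB mT i a) (D.contains i) (!D.contains i)) &&
    D.all (fun x => Nat.blt x 192) && gens.all (fun x => D.contains x) && Nat.beq gens.length 5 &&
    Nat.beq (gens.getD 0 0) 8 && Nat.beq (gens.getD 1 0) a &&
    Nat.beq (mT (gens.getD 2 0) (gens.getD 2 0)) 0 && Nat.beq (mT (gens.getD 3 0) (gens.getD 3 0)) 0 &&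
    comB mT (gens.getD 2 0) (gens.getD 3 0) && Nat.beq (mT (gens.getD 4 0) (gens.getD 4 0)) 8 &&
    Nat.beq wrd.length D.length && wrd.all (fun w => w.all fun l => Nat.blt l 5) &&
    wrd.all (fun w => D.contains (evN mT gens w)) && (wrd.map (evN mT gens) == D)

/-- The image of a node determined by those of the generators. -/
noncomputable def im1 (D : List Nat) (wrd : List (List Nat)) (ims : List Nat) (x : Nat) : Nat :=
  extW ims (wrd.getD (pos D x) [])

theorem im1_eq {D : List Nat} {wrd : List (List Nat)} (hl : wrd.length = D.length) (ims : List Nat) {x : Nat}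
    (hx : x ∈ D) : im1 D wrd ims x = ap D (extF ims wrd) x := by
  have hp : ∀ (D : List Nat), x ∈ D → pos D x < D.length := by
    intro D
    induction D with
    | nil => intro h; simp at h
    | cons b l ih =>
      intro h
      by_cases hb : b = x
      · subst hb; simp [pos]
      · have : Nat.beq b x = false := by rw [← Bool.not_eq_true, Nat.beq_eq]; exact hb
        simp [pos, this, ih ((List.mem_cons.mp h).resolve_left (Ne.symm hb))]
  have h := hp D hx
  rw [im1, ap, extF, List.getD_eq_getElem _ _ (hl ▸ h),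
    List.getD_eq_getElem _ _ (by rw [List.length_map]; exact hl ▸ h), List.getElem_map]

/-- The possible images of the generators give listed actions. -/
noncomputable def candOK (a : Nat) (D gens : List Nat) (wrd good bad : List (List Nat)) (R : List Nat) : Bool :=
  D.all fun p => !(Nat.beq (mT p p) 0) || D.all fun q => !(Nat.beq (mT q q) 0 && comB mT p q) || D.all fun r =>
    !(Nat.beq (mT r r) a) ||
      let ims := [a, mT 8 a, p, q, r]
      let F := im1 D wrd ims
      !(gens.all (fun x => thru D (F x) fun u => thru D (F u) fun v => Nat.beq (F v) x) &&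
        D.all (fun x => gens.all fun y => Nat.beq (F (mT x y)) (mT (F x) (F y)))) ||
        good.any (fun g => g == extF ims wrd) || bad.any (fun g => g == R.map (ap D (extF ims wrd)))

variable [Finite G]

set_option maxHeartbeats 800000 in
theorem classify {z : G} {el : Nat → G} (C : Cod z mT 8 el) {a : Nat} {D gens : List Nat}
    {wrd good bad : List (List Nat)} {R : List Nat} (hd : dataOK a D gens wrd = true)
    (hc : candOK a D gens wrd good bad R = true) {g : G} (hg : Mv el z a g) :
    ∃ f, Acts el D g f ∧ (f ∈ good ∨ R.map (ap D f) ∈ bad) := by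
  classical
  simp only [dataOK, Bool.and_eq_true, Nat.blt_eq, List.contains_iff_mem, List.all_eq_true, Nat.beq_eq,
    List.mem_range, beq_iff_eq] at hd
  obtain ⟨⟨⟨⟨⟨⟨⟨⟨⟨⟨⟨⟨⟨⟨⟨⟨⟨ha, h8⟩, haD⟩, hzaD⟩, hmem⟩, hlt⟩, hgD⟩, hg5⟩, hg0⟩, hg1⟩, hp2⟩, hq2⟩, hpq⟩, hr2⟩,
    hwl⟩, hwlt⟩, hwD⟩, hwv⟩ := hd
  have hmem' : ∀ i < 192, (el i * el a = el a * el i ↔ i ∈ D) := fun i hi => by
    rw [C.comm_iff hi ha]
    have h := hmem i hi
    by_cases hb : comB mT i a = true
    · rw [hb] at h
      simp only [cond_true, List.contains_iff_mem] at h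
      exact iff_of_true hb h
    · rw [Bool.not_eq_true] at hb
      rw [hb] at h
      simp only [cond_false, Bool.not_eq_true', ← Bool.not_eq_true, List.contains_iff_mem] at h
      exact iff_of_false (by rw [hb]; decide) h
  have hz2 : el (mT 8 a) = z * el a := by rw [C.zeq, C.mul 8 C.clt a ha]
  have hex : ∀ x ∈ D, ∃ y ∈ D, g * el x * g⁻¹ = el y := by
    intro x hx
    have hxa := (hmem' x (hlt x hx)).mpr hx
    have hxz := C.mem x
    have h1 : g * el x * g⁻¹ * el a = el a * (g * el x * g⁻¹) := by
      conv_lhs => rw [← hg.gz, conj_mul, hxz, ← conj_mul, hg.gz]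
    have h2 : g * el x * g⁻¹ * (z * el a) = z * el a * (g * el x * g⁻¹) := by
      conv_lhs => rw [← hg.ga, conj_mul, hxa, ← conj_mul, hg.ga]
    have h3 : g * el x * g⁻¹ * z = z * (g * el x * g⁻¹) := by
      refine mul_right_cancel (b := el a) ?_
      calc g * el x * g⁻¹ * z * el a = z * el a * (g * el x * g⁻¹) := (mul_assoc _ z _).trans h2
        _ = z * (g * el x * g⁻¹ * el a) := by rw [h1, mul_assoc]
        _ = z * (g * el x * g⁻¹) * el a := (mul_assoc _ _ _).symm
    obtain ⟨y, hy, hye⟩ := C.surj _ h3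
    exact ⟨y, (hmem' y hy).mp (hye ▸ h1), hye⟩
  choose! F hF using hex
  have hFlt : ∀ x ∈ D, F x < 192 := fun x hx => hlt _ (hF x hx).1
  have hclosed : ∀ x ∈ D, ∀ y ∈ D, mT x y ∈ D := by
    intro x hx y hy
    refine (hmem' _ (C.lt x (hlt x hx) y (hlt y hy))).mp ?_
    rw [← C.mul x (hlt x hx) y (hlt y hy), mul_assoc, (hmem' y (hlt y hy)).mpr hy, ← mul_assoc,
      (hmem' x (hlt x hx)).mpr hx, mul_assoc]
  have hzero : 0 ∈ D := (hmem' 0 (by norm_num)).mp (by rw [C.one, one_mul, mul_one])
  have hFmul : ∀ x ∈ D, ∀ y ∈ D, F (mT x y) = mT (F x) (F y) := fun x hx y hy => by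
    refine C.inj _ (hFlt _ (hclosed x hx y hy)) _ (C.lt _ (hFlt x hx) _ (hFlt y hy)) ?_
    rw [← (hF _ (hclosed x hx y hy)).2, ← C.mul x (hlt x hx) y (hlt y hy), ← C.mul _ (hFlt x hx) _ (hFlt y hy),
      ← (hF x hx).2, ← (hF y hy).2, conj_mul]
  have hF0 : F 0 = 0 := C.inj _ (hFlt 0 hzero) 0 (by norm_num) (by
    rw [← (hF 0 hzero).2, C.one, mul_one, mul_inv_cancel])
  have hFeq : ∀ x ∈ D, ∀ v, v < 192 → g * el x * g⁻¹ = el v → F x = v := fun x hx v hv e =>
    C.inj _ (hFlt x hx) v hv ((hF x hx).2.symm.trans e)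
  have hF8 : F 8 = a := hFeq 8 h8 a ha (by rw [← C.zeq]; exact hg.gz)
  have hFa : F a = mT 8 a := hFeq a haD _ (C.lt 8 C.clt a ha) (by rw [hz2]; exact hg.ga)
  set ims := [a, mT 8 a, F (gens.getD 2 0), F (gens.getD 3 0), F (gens.getD 4 0)]
  have hgl : ∀ l < 5, gens.getD l 0 ∈ D := fun l hl => hgD _ (by
    rw [List.getD_eq_getElem _ _ (hg5 ▸ hl)]; exact List.getElem_mem _)
  have hims : ∀ l < 5, ims.getD l 0 = F (gens.getD l 0) := by
    intro l hl
    match l, hl with
    | 0, _ => rw [hg0, hF8]; rfl
    | 1, _ => rw [hg1, hFa]; rfl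
    | 2, _ => rfl
    | 3, _ => rfl
    | 4, _ => rfl
    | n + 5, h => omega
  have hext : ∀ (w : List Nat), (∀ l ∈ w, l < 5) → ∀ acc ∈ D,
      w.foldl (fun s l => mT s (ims.getD l 0)) (F acc) = F (w.foldl (fun s l => mT s (gens.getD l 0)) acc) := by
    intro w
    induction w with
    | nil => intro _ acc _; rfl
    | cons l w ih =>
      intro hw acc hacc
      have hl := hw l (List.mem_cons_self ..)
      rw [List.foldl_cons, List.foldl_cons, hims l hl, ← hFmul acc hacc _ (hgl l hl)]
      exact ih (fun b hb => hw b (List.mem_cons_of_mem _ hb)) _ (hclosed acc hacc _ (hgl l hl))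
  have hfeq : extF ims wrd = D.map F := by
    rw [← hwv, List.map_map]
    refine List.map_congr_left fun w hw => ?_
    have := hext w (hwlt w hw) 0 hzero
    rw [hF0] at this
    exact this
  have hap : ∀ x ∈ D, ap D (D.map F) x = F x := fun x hx => ap_map F hx
  refine ⟨D.map F, fun x hx => by rw [hap x hx]; exact hF x hx, ?_⟩
  have hsq : ∀ x ∈ D, ∀ v ∈ D, mT x x = v → mT (F x) (F x) = F v := fun x hx v _ e => by
    rw [← hFmul x hx x hx, e]
  simp only [candOK, List.all_eq_true, Bool.or_eq_true, Bool.not_eq_true', ← Bool.not_eq_true, Bool.and_eq_true,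
    Nat.beq_eq, List.any_eq_true, beq_iff_eq] at hc
  have h := ((hc (F (gens.getD 2 0)) (hF _ (hgl 2 (by norm_num))).1).resolve_left (fun hn => hn (by
    rw [hsq _ (hgl 2 (by norm_num)) 0 hzero hp2, hF0])))
  have h := (h (F (gens.getD 3 0)) (hF _ (hgl 3 (by norm_num))).1).resolve_left (fun hn => hn ⟨by
    rw [hsq _ (hgl 3 (by norm_num)) 0 hzero hq2, hF0], by
      rw [comB, Nat.beq_eq, ← hFmul _ (hgl 2 (by norm_num)) _ (hgl 3 (by norm_num)),
        ← hFmul _ (hgl 3 (by norm_num)) _ (hgl 2 (by norm_num))]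
      exact congrArg F (Nat.beq_eq.mp hpq)⟩)
  have h := (h (F (gens.getD 4 0)) (hF _ (hgl 4 (by norm_num))).1).resolve_left (fun hn => hn (by
    rw [hsq _ (hgl 4 (by norm_num)) 8 h8 hr2, hF8]))
  have him1 : ∀ x ∈ D, im1 D wrd [a, mT 8 a, F (gens.getD 2 0), F (gens.getD 3 0), F (gens.getD 4 0)] x =
      ap D (D.map F) x := fun x hx => (im1_eq hwl _ hx).trans (congrArg (fun f => ap D f x) hfeq)
  rw [show extF [a, mT 8 a, F (gens.getD 2 0), F (gens.getD 3 0), F (gens.getD 4 0)] wrd = D.map F from hfeq] at h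
  have h' := or_assoc.mp h
  rcases h' with hn | ⟨f, hf, rfl⟩ | ⟨b, hb, rfl⟩
  · refine absurd ⟨fun x hx => ?_, fun x hx y hy => ?_⟩ hn
    · have hxD := hgD x hx
      rw [him1 x hxD, hap x hxD]
      refine thru_of (hF x hxD).1 ?_
      rw [him1 _ (hF x hxD).1, hap _ (hF x hxD).1]
      refine thru_of (hF _ (hF x hxD).1).1 ?_
      rw [him1 _ (hF _ (hF x hxD).1).1, hap _ (hF _ (hF x hxD).1).1, Nat.beq_eq]
      refine C.inj _ (hFlt _ (hF _ (hF x hxD).1).1) x (hlt x hxD) ?_
      rw [← (hF _ (hF _ (hF x hxD).1).1).2, ← (hF _ (hF x hxD).1).2, ← (hF x hxD).2]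
      calc g * (g * (g * el x * g⁻¹) * g⁻¹) * g⁻¹ = g ^ 3 * el x * (g ^ 3)⁻¹ := by
            rw [pow_succ, pow_two]; group
        _ = el x := by rw [hg.g3, one_mul, inv_one, mul_one]
    · have hyD := hgD y hy
      rw [him1 _ (hclosed x hx y hyD), him1 x hx, him1 y hyD, hap _ (hclosed x hx y hyD), hap x hx, hap y hyD, hFmul x hx y hyD]
  · exact Or.inl hf
  · exact Or.inr hb

end CfsgLib.C192.K10
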