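import Cfsg.Agent.C192.K10Base

/-!
The finite checks for the third kind of centralizer.
-/

set_option autoImplicit false
set_option maxRecDepth 100000

namespace CfsgLib.C192.K10

/-- The restriction of an action to the group of order 16. -/
noncomputable def rst (D f : List Nat) : List Nat := nR.map (ap D f)

/-- The permutations of the group of order 16 from the centralizer. -/
noncomputable def psT : List (List Nat) := nT.map Prod.snd

theorem base_ok : (nR.all (fun x => Nat.blt x 192) && nR.contains 8 &&
    nT.all (fun q => Nat.blt q.1 192 && nR.all fun x => nR.contains (ap nR q.2 x) && isCj q.1 x (ap nR q.2 x))) = true := by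
  decide +kernel

theorem data1 : dataOK 9 nD1 gen1 wrd1 = true := by decide +kernel
theorem data2 : dataOK 166 nD2 gen2 wrd2 = true := by decide +kernel
theorem data3 : dataOK 160 nD3 gen3 wrd3 = true := by decide +kernel
theorem cand1 : candOK 9 nD1 gen1 wrd1 good1 bad1 nR = true := by decide +kernel
theorem cand2 : candOK 166 nD2 gen2 wrd2 good2 bad2 nR = true := by decide +kernel
theorem cand3 : candOK 160 nD3 gen3 wrd3 good3 bad3 nR = true := by decide +kernel

theorem bad_killed : ((bad1 ++ bad2 ++ bad3).all fun p =>
    ([[0, 2, 0], [0, 1, 0], [0, 3, 0]] : List (List Nat)).any fun w => killB nR (p :: psT) w) = true := by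
  decide +kernel

theorem restr_ok : ((good1.all fun f => nR.all fun x => nR.contains (ap nD1 f x) && nD1.contains x) &&
    (good2.all fun f => nR.all fun x => nR.contains (ap nD2 f x) && nD2.contains x) &&
    (good3.all fun f => nR.all fun x => nR.contains (ap nD3 f x) && nD3.contains x)) = true := by decide +kernel

theorem rgood1_ok : (good1.all fun f => rgood1.any fun p => p == rst nD1 f) = true := by decide +kernel
theorem rgood2_ok : (good2.all fun f => rgood2.any fun p => p == rst nD2 f) = true := by decide +kernel
theorem rgood3_ok : (good3.all fun f => rgood3.any fun p => p == rst nD3 f) = true := by decide +kernel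

/-- Do two permutations of the group of order 16 commute? -/
noncomputable def comP (p q : List Nat) : Bool :=
  nR.all fun x => thru nR (ap nR q x) fun u => thru nR (ap nR p x) fun v => Nat.beq (ap nR p u) (ap nR q v)

theorem pair_killed : (rgood1.all fun p => rgood2.all fun q => comP p q ||
    killB nR (p :: q :: psT) [0, 1, 0, 1, 0]) = true := by decide +kernel

theorem std_restr : (rgood1.any fun p => p == rst nD1 f10) = true ∧ (rgood2.any fun p => p == rst nD2 f20) = true := by
  decide +kernel

theorem third_killed : (rgood3.all fun r =>
    ([[0, 1, 1, 2, 1], [0, 0, 1, 2, 0]] : List (List Nat)).any fun w =>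
      killB nR (rst nD1 f10 :: rst nD2 f20 :: r :: psT) w) = true := by decide +kernel

end CfsgLib.C192.K10
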