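import Cfsg.Agent.C192.NinePoints

/-!
Groups with an embedded `Alt(8)` containing an involution centralizer: `Alt(8)` or `Alt(9)`.
-/

set_option autoImplicit false
set_option linter.style.haveILetI false
set_option linter.unusedSectionVars false
set_option maxRecDepth 100000

namespace CfsgLib.C192

open Eight CfsgLib.Invol

local notation "A8" => alternatingGroup (Fin 8)

namespace NineHyp

variable {G : Type*} [Group G] [Finite G] {ψ : A8 →* G} (N : NineHyp ψ)

include N

/-- A set of points stable under the subgroup and under the centralizer of `aT` is everything. -/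
theorem eq_univ (S0 : Set (G ⧸ ψ.range)) (hP : ((1 : G) : G ⧸ ψ.range) ∈ S0) (hodd : Odd (Nat.card S0))
    (hH : ∀ h ∈ ψ.range, ∀ x ∈ S0, h • x ∈ S0) (hK : ∀ k, k * ψ aT = ψ aT * k → ∀ x ∈ S0, k • x ∈ S0)
    (htr : ∀ x ∈ S0, ∃ g : G, (∀ y ∈ S0, g • y ∈ S0) ∧ x = g • ((1 : G) : G ⧸ ψ.range)) : S0 = Set.univ := by
  classical
  set P : G ⧸ ψ.range := ((1 : G) : G ⧸ ψ.range) with hPdef
  have hpow : ∀ g : G, (∀ y ∈ S0, g • y ∈ S0) → ∀ n : ℕ, ∀ y ∈ S0, g ^ n • y ∈ S0 := by
    intro g hg n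
    induction n with
    | zero => intro y hy; rw [pow_zero, one_smul]; exact hy
    | succ n ih => intro y hy; rw [pow_succ, mul_smul]; exact ih _ (hg y hy)
  let S : Subgroup G :=
    { carrier := {g | ∀ y ∈ S0, g • y ∈ S0}
      mul_mem' := fun {a b} ha hb y hy => by rw [mul_smul]; exact ha _ (hb y hy)
      one_mem' := fun y hy => by rw [one_smul]; exact hy
      inv_mem' := fun {a} ha y hy => by
        have h1 : a ^ (orderOf a - 1) = a⁻¹ := by
          rw [eq_inv_iff_mul_eq_one, ← pow_succ, Nat.sub_add_cancel (orderOf_pos a), pow_orderOf_eq_one]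
        rw [← h1]
        exact hpow a ha _ y hy }
  have hHS : ψ.range ≤ S := fun h hh => hH h hh
  have hback : ∀ i ∈ S, orderOf i = 2 → ∃ s ∈ S, ∃ p : A8, p * p = 1 ∧ p ≠ 1 ∧ i = s * ψ p * s⁻¹ := by
    intro i hi h2
    obtain ⟨x, hx⟩ : ∃ x : S0, i • (x : G ⧸ ψ.range) = x := by
      by_contra hcon
      push Not at hcon
      haveI := Fintype.ofFinite S0
      haveI : Fact (Nat.Prime 2) := ⟨Nat.prime_two⟩
      let f : Function.End S0 := fun x => ⟨i • (x : G ⧸ ψ.range), hi x x.2⟩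
      have h := Equiv.Perm.card_fixedPoints_modEq (α := S0) (f := f) (p := 2) (n := 1) (by
        rw [pow_one, pow_two]
        refine funext fun x => Subtype.ext ?_
        show i • i • (x : G ⧸ ψ.range) = x
        rw [← mul_smul, mul_self_eq_one h2, one_smul])
      have h0 : Fintype.card (Function.fixedPoints f) = 0 := by
        rw [Fintype.card_eq_zero_iff]
        exact ⟨fun x => hcon x.1 (congrArg Subtype.val x.2)⟩
      rw [h0] at h
      rw [Nat.card_eq_fintype_card, Nat.odd_iff] at hodd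
      rw [Nat.ModEq, Nat.zero_mod, hodd] at h
      exact absurd h (by norm_num)
    obtain ⟨g, hg, hxg⟩ := htr x x.2
    obtain ⟨p, hp⟩ : g⁻¹ * i * g ∈ ψ.range := by
      refine fix_base.mp ?_
      rw [mul_smul, mul_smul, ← hPdef, ← hxg, hx, hxg, inv_smul_smul]
    refine ⟨g, hg, p, N.sq_of hp.symm ?_, fun e => ?_, by rw [hp]; group⟩
    · rw [show g⁻¹ * i * g * (g⁻¹ * i * g) = g⁻¹ * (i * i) * g by group, mul_self_eq_one h2, mul_one, inv_mul_cancel]
    · rw [e, map_one] at hp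
      refine ne_one h2 ?_
      calc i = g * (g⁻¹ * i * g) * g⁻¹ := by group
        _ = 1 := by rw [← hp, mul_one, mul_inv_cancel]
  have hcent : ∀ i ∈ S, orderOf i = 2 → Subgroup.centralizer ({i} : Set G) ≤ S := by
    intro i hi h2 y hy
    obtain ⟨s, hs, p, hp, hp1, rfl⟩ := hback i hi h2
    rw [Subgroup.mem_centralizer_singleton_iff] at hy
    have hy' : s⁻¹ * y * s * ψ p = ψ p * (s⁻¹ * y * s) := by
      calc s⁻¹ * y * s * ψ p = s⁻¹ * (y * (s * ψ p * s⁻¹)) * s := by group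
        _ = s⁻¹ * (s * ψ p * s⁻¹ * y) * s := by rw [hy]
        _ = ψ p * (s⁻¹ * y * s) := by group
    have hmem : s⁻¹ * y * s ∈ S := by
      rcases N.class_of hp hp1 with ⟨hf, -⟩ | ⟨-, k, hk⟩
      · exact hHS (N.centF hp hf hy')
      · rw [← hk, map_mul, map_mul, map_inv] at hy'
        have h1 : (ψ k)⁻¹ * (s⁻¹ * y * s) * ψ k * ψ aT = ψ aT * ((ψ k)⁻¹ * (s⁻¹ * y * s) * ψ k) := by
          calc _ = (ψ k)⁻¹ * (s⁻¹ * y * s * (ψ k * ψ aT * (ψ k)⁻¹)) * ψ k := by group
            _ = (ψ k)⁻¹ * (ψ k * ψ aT * (ψ k)⁻¹ * (s⁻¹ * y * s)) * ψ k := by rw [hy']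
            _ = _ := by group
        have hk' : ψ k ∈ S := hHS ⟨k, rfl⟩
        have := mul_mem (mul_mem hk' (hK _ h1 : (ψ k)⁻¹ * (s⁻¹ * y * s) * ψ k ∈ S)) (inv_mem hk')
        simpa [mul_assoc] using this
    have := mul_mem (mul_mem hs hmem) (inv_mem hs)
    simpa [mul_assoc] using this
  have hzS : ∀ g : G, g * ψ aZ * g⁻¹ ∈ S → g ∈ S := by
    intro g hg
    have hz2 : orderOf (g * ψ aZ * g⁻¹) = 2 := by
      rw [orderOf_conj_eq, orderOf_injective ψ N.inj]
      haveI : Fact (Nat.Prime 2) := ⟨Nat.prime_two⟩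
      exact orderOf_eq_prime (by rw [pow_two]; exact z_facts.1) z_facts.2.1
    obtain ⟨s, hs, p, hp, hp1, he⟩ := hback _ hg hz2
    rcases N.class_of hp hp1 with ⟨hf, k, hk⟩ | ⟨hf, -⟩
    · have h1 : (ψ k)⁻¹ * s⁻¹ * g ∈ S := hHS (N.cent _ (by
        have e : g * ψ aZ * g⁻¹ = s * ψ k * ψ aZ * (s * ψ k)⁻¹ := by
          rw [he, ← hk, map_mul, map_mul, map_inv]; group
        calc (ψ k)⁻¹ * s⁻¹ * g * ψ aZ = (s * ψ k)⁻¹ * (g * ψ aZ * g⁻¹) * g := by group
          _ = ψ aZ * ((ψ k)⁻¹ * s⁻¹ * g) := by rw [e]; group))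
      have := mul_mem (mul_mem hs (hHS ⟨k, rfl⟩ : ψ k ∈ S)) h1
      simpa [mul_assoc] using this
    · exfalso
      refine N.ne_conj z_facts.1 z_facts.2.2.1 hp hf (isConj_iff.mpr ⟨s⁻¹ * g, ?_⟩)
      calc s⁻¹ * g * ψ aZ * (s⁻¹ * g)⁻¹ = s⁻¹ * (g * ψ aZ * g⁻¹) * s := by group
        _ = ψ p := by rw [he]; group
  have hStop : S = ⊤ := by
    by_contra hne
    have heven : Even (Nat.card S) := even_iff_two_dvd.mpr ((dvd_trans (by
      rw [orderOf_eq_prime (p := 2) (show ψ aT ^ 2 = 1 by rw [pow_two, N.tt])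
        (fun e => z_facts.2.2.2.1 (N.inj (e.trans (map_one ψ).symm)))]) (Subgroup.orderOf_dvd_natCard S (hHS ⟨aT, rfl⟩))))
    have hcore : Odd (Nat.card S.normalCore) := by
      by_contra hev
      rw [Nat.not_odd_iff_even] at hev
      haveI : Fact (Nat.Prime 2) := ⟨Nat.prime_two⟩
      obtain ⟨i, hi⟩ := exists_prime_orderOf_dvd_card' (G := S.normalCore) 2 hev.two_dvd
      rw [← Subgroup.orderOf_coe] at hi
      obtain ⟨s, hs, p, hp, hp1, he⟩ := hback _ (S.normalCore_le i.2) hi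
      have hpc : ψ p ∈ S.normalCore := by
        have := (S.normalCore_normal).conj_mem _ i.2 s⁻¹
        rw [he] at this
        simpa [mul_assoc] using this
      haveI : IsSimpleGroup A8 := alternatingGroup.isSimpleGroup (by simp)
      haveI := S.normalCore_normal
      rcases ((S.normalCore_normal.comap ψ).eq_bot_or_eq_top : _) with h | h
      · exact hp1 (Subgroup.mem_bot.mp (h ▸ hpc))
      · refine hne ((Subgroup.eq_top_iff' S).mpr fun g => hzS g ?_)
        refine S.normalCore_le ((S.normalCore_normal).conj_mem _ ?_ g)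
        exact (h.symm ▸ Subgroup.mem_top aZ : aZ ∈ S.normalCore.comap ψ)
    have hne1 : ∀ {x : A8}, x * x = 1 → x ≠ 1 → orderOf (ψ x) = 2 := fun hx h1 => by
      haveI : Fact (Nat.Prime 2) := ⟨Nat.prime_two⟩
      rw [orderOf_injective ψ N.inj]
      exact orderOf_eq_prime (by rw [pow_two, hx]) h1
    exact N.nc (CfsgLib.CoreOdd.isConj_all heven hcent hcore _ _ (hne1 z_facts.1 z_facts.2.1)
      (hne1 base_facts.1 z_facts.2.2.2.1))
  refine Set.eq_univ_of_forall fun x => ?_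
  induction x using QuotientGroup.induction_on with
  | _ g =>
    rw [← smul_base]
    exact (hStop.symm ▸ Subgroup.mem_top g : g ∈ S) _ hP

set_option maxHeartbeats 800000 in
/-- The subgroup has index one or nine. -/
theorem card_points : Nat.card (G ⧸ ψ.range) = 1 ∨ Nat.card (G ⧸ ψ.range) = 9 := by
  classical
  set P : G ⧸ ψ.range := ((1 : G) : G ⧸ ψ.range) with hPdef
  have hPfix : ∀ x : A8, ψ x • P = P := fun x => fix_base.mpr ⟨x, rfl⟩
  rcases N.card_fixed with h1 | h5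
  · left
    have hu := N.eq_univ {P} rfl (by rw [Nat.card_coe_set_eq, Set.ncard_singleton]; exact odd_one)
      (fun h hh x hx => by rw [Set.mem_singleton_iff.mp hx]; exact fix_base.mpr hh)
      (fun k hk x hx => by
        rw [Set.mem_singleton_iff.mp hx]
        obtain ⟨hs, -⟩ := Nat.card_eq_one_iff_unique.mp h1
        exact congrArg Subtype.val (hs.elim (⟨k • P, by rw [← mul_smul, ← hk, mul_smul, hPfix]⟩ :
          {X : G ⧸ ψ.range // ψ aT • X = X}) ⟨P, hPfix _⟩))
      (fun x hx => ⟨1, fun y hy => by rw [one_smul]; exact hy, by rw [one_smul]; exact hx⟩)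
    rw [← Nat.card_univ (α := G ⧸ ψ.range), ← hu, Nat.card_coe_set_eq, Set.ncard_singleton]
  right
  haveI := Fintype.ofFinite (G ⧸ ψ.range)
  obtain ⟨hT2, hA2, hU2, hAT, hUT, hCT, hET, hEA, hHT, fTU, fAU, fTAU, fU, fA⟩ := base_facts
  obtain ⟨-, -, vm, vs, -, vc, -, -⟩ := four_lists
  obtain ⟨R0, hR0t, hR0ne⟩ : ∃ X : G ⧸ ψ.range, ψ aT • X = X ∧ X ≠ P := by
    by_contra hcon
    push Not at hcon
    have : Nat.card {X : G ⧸ ψ.range // ψ aT • X = X} = 1 :=
      Nat.card_eq_one_iff_unique.mpr ⟨⟨fun a b => Subtype.ext ((hcon a a.2).trans (hcon b b.2).symm)⟩,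
        ⟨⟨P, hPfix _⟩⟩⟩
    omega
  -- moved points
  have hfree : ∀ v ∈ nVA, ∀ X, ψ aT • X = X → X ≠ P → ψ v • X = X → v = 1 := by
    intro v hv X hX hne hfix
    by_contra hv1
    refine hne (N.fix_unique (p := aT * v) ?_ ?_ ?_)
    · rw [mul_assoc, ← mul_assoc v, (vc v hv).1, mul_assoc aT v v, vs v hv, mul_one, hT2]
    · simp only [nVA, List.mem_cons, List.not_mem_nil, or_false] at hv
      rcases hv with rfl | rfl | rfl | rfl
      · exact absurd rfl hv1
      all_goals decide +kernel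
    · rw [map_mul, mul_smul, hfix, hX]
  let fl : (G ⧸ ψ.range) → Option nVA.toFinset → G ⧸ ψ.range := fun X o =>
    o.elim P fun v => ψ (v : A8) • X
  have hcover : ∀ X Y, ψ aT • X = X → X ≠ P → ψ aT • Y = Y → Y ≠ P → ∃ v ∈ nVA, Y = ψ v • X := by
    intro X Y hX hXP hY hYP
    have hfix : ∀ o, ψ aT • fl X o = fl X o := by
      rintro (_ | ⟨v, hv⟩)
      · exact hPfix _
      · show ψ aT • ψ v • X = ψ v • X
        rw [← mul_smul, N.comm_iff.mpr (vc v (List.mem_toFinset.mp hv)).1.symm, mul_smul, hX]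
    let g : Option nVA.toFinset → {Z : G ⧸ ψ.range // ψ aT • Z = Z} := fun o => ⟨fl X o, hfix o⟩
    have hmov : ∀ v : nVA.toFinset, ψ (v : A8) • X ≠ P := fun v h => hXP (by
      rw [← inv_smul_smul (ψ (v : A8)) X, h, ← map_inv, hPfix])
    have hg : Function.Injective g := by
      rintro (_ | ⟨a, ha⟩) (_ | ⟨b, hb⟩) h
      · rfl
      · exact absurd (congrArg Subtype.val h).symm (hmov _)
      · exact absurd (congrArg Subtype.val h) (hmov _)
      · have h' : ψ a • X = ψ b • X := congrArg Subtype.val h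
        have hbv := vs b (List.mem_toFinset.mp hb)
        have : b * a = 1 := hfree _ (vm _ (List.mem_toFinset.mp hb) _ (List.mem_toFinset.mp ha)) X hX hXP (by
          rw [map_mul, mul_smul, h', ← mul_smul, ← map_mul, hbv, map_one, one_smul])
        have hab : a = b := mul_left_cancel (this.trans hbv.symm)
        subst hab
        rfl
    have hsur : Function.Surjective g := by
      refine ((Nat.bijective_iff_injective_and_card g).mpr ⟨hg, ?_⟩).2
      rw [h5, Nat.card_eq_fintype_card, Fintype.card_option, Fintype.card_coe, List.toFinset_card_of_nodup]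
      · rfl
      · refine List.Nodup.of_map (fun x : A8 => (List.finRange 8).map (x : Equiv.Perm (Fin 8))) ?_
        decide +kernel
    obtain ⟨o, ho⟩ := hsur ⟨Y, hY⟩
    rcases o with _ | ⟨v, hv⟩
    · exact absurd (congrArg Subtype.val ho).symm hYP
    · exact ⟨v, List.mem_toFinset.mp hv, (congrArg Subtype.val ho).symm⟩
  have hmovP : ∀ (x : A8) X, ψ x • X = P → X = P := fun x X h => by
    rw [← inv_smul_smul (ψ x) X, h, ← map_inv, hPfix]
  have hCfix : ∀ {x : A8}, x * aT = aT * x → ∀ {X : G ⧸ ψ.range}, ψ aT • X = X → ψ aT • ψ x • X = ψ x • X :=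
    by intro x hx X hX; rw [← mul_smul, N.comm_iff.mpr hx.symm, mul_smul, hX]
  obtain ⟨R, hRt, hRP, hRc⟩ : ∃ R, ψ aT • R = R ∧ R ≠ P ∧ ψ aC • R = R := by
    obtain ⟨v, hv, he⟩ := hcover R0 (ψ aC • R0) hR0t hR0ne (hCfix hCT hR0t)
      (fun h => hR0ne (hmovP _ _ h))
    have hh : (nVA.all fun v => nVA.any fun x =>
        eqP ((aC * x * aC⁻¹ * v : A8) : Equiv.Perm (Fin 8)) x) = true := by decide +kernel
    obtain ⟨x, hx, hxe⟩ := List.any_eq_true.mp (List.all_eq_true.mp hh v hv)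
    refine ⟨ψ x • R0, hCfix (vc x hx).1 hR0t, fun h => hR0ne (hmovP _ _ h), ?_⟩
    calc ψ aC • ψ x • R0 = ψ (aC * x * aC⁻¹) • (ψ aC • R0) := by
          rw [← mul_smul, ← mul_smul, ← map_mul, ← map_mul, inv_mul_cancel_right]
      _ = ψ (aC * x * aC⁻¹ * v) • R0 := by rw [he, ← mul_smul, ← map_mul]
      _ = ψ x • R0 := by rw [eqA_iff.mp hxe]
  -- the stabilizer of `R` in the subgroup
  let D : Subgroup A8 := (MulAction.stabilizer G R).comap ψ
  have hD : ∀ {x : A8}, x ∈ D ↔ ψ x • R = R := Iff.rfl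
  have hTD : aT ∈ D := hRt
  have hAD : aA ∈ D := N.fix_four hRt
  have hCD : aC ∈ D := hRc
  have hWD : ∀ w ∈ nWA, w ∈ D := by
    intro w hw
    simp only [nWA, List.mem_cons, List.not_mem_nil, or_false] at hw
    rcases hw with rfl | rfl | rfl | rfl
    exacts [one_mem _, hAD, hTD, mul_mem hAD hTD]
  have hD7 : ∀ x ∈ D, x * aT = aT * x → (x : Equiv.Perm (Fin 8)) 7 = 7 := by
    intro x hx hxT
    by_contra h7
    obtain ⟨q, hq, w, hw, v, hv, hv1, he⟩ := v_moving _ (mem_ct hxT) h7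
    obtain ⟨Q, hQ, rfl⟩ : ∃ Q ∈ D, q = ((Q : A8) : Equiv.Perm (Fin 8)) := by
      simp only [List.mem_cons, List.not_mem_nil, or_false] at hq
      rcases hq with rfl | rfl | rfl | rfl | rfl | rfl | rfl | rfl | rfl | rfl | rfl
      exacts [⟨x, hx, rfl⟩, ⟨x * aC, mul_mem hx hCD, rfl⟩, ⟨aC * x, mul_mem hCD hx, rfl⟩,
        ⟨x * aC * x, mul_mem (mul_mem hx hCD) hx, rfl⟩, ⟨x * x, mul_mem hx hx, rfl⟩,
        ⟨x * aC * x⁻¹, mul_mem (mul_mem hx hCD) (inv_mem hx), rfl⟩,
        ⟨x * aC * aC * x, mul_mem (mul_mem (mul_mem hx hCD) hCD) hx, rfl⟩,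
        ⟨aC * x * aC, mul_mem (mul_mem hCD hx) hCD, rfl⟩,
        ⟨x * aC * x * aC, mul_mem (mul_mem (mul_mem hx hCD) hx) hCD, rfl⟩,
        ⟨x * x * aC, mul_mem (mul_mem hx hx) hCD, rfl⟩, ⟨aC * aC * x, mul_mem (mul_mem hCD hCD) hx, rfl⟩]
    obtain ⟨W, hW, rfl⟩ : ∃ W ∈ nWA, w = ((W : A8) : Equiv.Perm (Fin 8)) := by
      simp only [nW, List.mem_cons, List.not_mem_nil, or_false] at hw
      rcases hw with rfl | rfl | rfl | rfl
      exacts [⟨1, by simp [nWA], rfl⟩, ⟨aA, by simp [nWA], rfl⟩, ⟨aT, by simp [nWA], rfl⟩,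
        ⟨aA * aT, by simp [nWA], rfl⟩]
    obtain ⟨V, hV, rfl⟩ : ∃ V ∈ nVA, v = ((V : A8) : Equiv.Perm (Fin 8)) := by
      simp only [nV, List.mem_cons, List.not_mem_nil, or_false] at hv
      rcases hv with rfl | rfl | rfl | rfl
      exacts [⟨1, by simp [nVA], rfl⟩, ⟨aU, by simp [nVA], rfl⟩, ⟨aV, by simp [nVA], rfl⟩,
        ⟨aU * aV, by simp [nVA], rfl⟩]
    have eQ : Q = W * V := Subtype.ext he
    have hVD : V ∈ D := by
      have := mul_mem (inv_mem (hWD W hW)) hQ
      rwa [eQ, inv_mul_cancel_left] at this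
    exact hv1 (congrArg Subtype.val (hfree V hV R hRt hRP hVD) : ((V : A8) : Equiv.Perm (Fin 8)) = 1)
  have h7D : ∀ x : A8, x * aT = aT * x → (x : Equiv.Perm (Fin 8)) 7 = 7 → x ∈ D := by
    intro x hxT h7
    obtain ⟨v, hv, he⟩ := hcover R (ψ x • R) hRt hRP (hCfix hxT hRt) (fun h => hRP (hmovP _ _ h))
    have hy : v⁻¹ * x ∈ D := by
      rw [hD, map_mul, mul_smul, he, map_inv, inv_smul_smul]
    have hvi : v⁻¹ = v := inv_eq_of_mul_eq_one_right (vs v hv)
    rw [hvi] at hy
    have h7' := hD7 _ hy (by rw [mul_assoc, hxT, ← mul_assoc, (vc v hv).1, mul_assoc])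
    rw [Subgroup.coe_mul, Equiv.Perm.mul_apply, h7] at h7'
    have hvn : ((v : A8) : Equiv.Perm (Fin 8)) ∈ nV := by
      simp only [nVA, List.mem_cons, List.not_mem_nil, or_false] at hv
      rcases hv with rfl | rfl | rfl | rfl <;> simp [nV, aU, aV]
    have hv1 : v = 1 := Subtype.ext (v_seven _ hvn h7')
    rwa [hv1, one_mul] at hy
  have hED : aE ∈ D := h7D aE hET (by decide +kernel)
  have hHD : aH * aA * aH⁻¹ ∈ D := by
    have hfix : ψ aT • (ψ aH)⁻¹ • R = (ψ aH)⁻¹ • R := by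
      have e : ψ aH * ψ aT = ψ aE * ψ aH := by
        rw [← map_mul, ← map_mul, mul_inv_eq_iff_eq_mul.mp hHT]
      rw [← mul_smul, show ψ aT * (ψ aH)⁻¹ = (ψ aH)⁻¹ * ψ aE by
        rw [mul_inv_eq_iff_eq_mul, mul_assoc, ← e, inv_mul_cancel_left], mul_smul]
      exact congrArg _ (hD.mp hED)
    rw [hD, map_mul, map_mul, mul_smul, mul_smul, map_inv, N.fix_four hfix, smul_inv_smul]
  have hstab : ∀ x : A8, (x : Equiv.Perm (Fin 8)) 7 = 7 → x ∈ D := stab_le D hCD hED hAD hTD hHD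
  have hsel : ∀ i : Fin 8, ∃ x : A8, (x : Equiv.Perm (Fin 8)) 7 = i := by
    intro i
    by_cases hi : i = 7
    · exact ⟨1, hi.symm⟩
    obtain ⟨j, hj⟩ : ∃ j : Fin 8, j ≠ i ∧ j ≠ 7 :=
      (show ∀ i : Fin 8, ∃ j : Fin 8, j ≠ i ∧ j ≠ 7 by decide +kernel) i
    refine ⟨⟨Equiv.swap i j * Equiv.swap j 7, ?_⟩, ?_⟩
    · rw [Equiv.Perm.mem_alternatingGroup, map_mul, Equiv.Perm.sign_swap hj.1.symm, Equiv.Perm.sign_swap hj.2]
      rfl
    · show Equiv.swap i j (Equiv.swap j 7 7) = i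
      rw [Equiv.swap_apply_right, Equiv.swap_apply_right]
  choose sel hselh using hsel
  let f : Fin 8 → G ⧸ ψ.range := fun i => ψ (sel i) • R
  have hf : ∀ x : A8, ψ x • R = f ((x : Equiv.Perm (Fin 8)) 7) := by
    intro x
    have : (sel ((x : Equiv.Perm (Fin 8)) 7))⁻¹ * x ∈ D := hstab _ (by
      rw [Subgroup.coe_mul, Subgroup.coe_inv, Equiv.Perm.mul_apply, Equiv.Perm.inv_eq_iff_eq, hselh])
    rw [hD, map_mul, mul_smul, map_inv, inv_smul_eq_iff] at this
    exact this
  have hf7 : f 7 = R := by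
    have := hf 1
    rw [map_one, one_smul] at this
    exact this.symm
  have hact : ∀ (x : A8) i, ψ x • f i = f ((x : Equiv.Perm (Fin 8)) i) := by
    intro x i
    show ψ x • ψ (sel i) • R = _
    rw [← mul_smul, ← map_mul, hf, Subgroup.coe_mul, Equiv.Perm.mul_apply, hselh]
  -- the stabilizer is not the whole subgroup
  have hR7 : ∀ i, f i = R → i = 7 := by
    intro i hi
    by_contra h7
    have hall : ∀ k, k ≠ 7 → f k = R := by
      intro k hk
      obtain ⟨j, hj⟩ : ∃ j : Fin 8, j ≠ i ∧ j ≠ k ∧ j ≠ 7 :=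
        (show ∀ i k : Fin 8, ∃ j : Fin 8, j ≠ i ∧ j ≠ k ∧ j ≠ 7 by decide +kernel) i k
      by_cases hki : k = i
      · exact hki ▸ hi
      let y : A8 := ⟨Equiv.swap k j * Equiv.swap i j, by
        rw [Equiv.Perm.mem_alternatingGroup, map_mul, Equiv.Perm.sign_swap hj.2.1.symm,
          Equiv.Perm.sign_swap hj.1.symm]
        rfl⟩
      have hy7 : (y : Equiv.Perm (Fin 8)) 7 = 7 := by
        show Equiv.swap k j (Equiv.swap i j 7) = 7
        rw [Equiv.swap_apply_of_ne_of_ne (Ne.symm h7) hj.2.2.symm, Equiv.swap_apply_of_ne_of_ne hk.symm hj.2.2.symm]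
      have hyi : (y : Equiv.Perm (Fin 8)) i = k := by
        show Equiv.swap k j (Equiv.swap i j i) = k
        rw [Equiv.swap_apply_left, Equiv.swap_apply_right]
      rw [← hyi, ← hact, hi]
      exact hstab y hy7
    refine hRP (N.fix_unique z_facts.1 z_facts.2.2.1 ?_)
    rw [hf]
    exact hall _ (by decide +kernel)
  have hinj : Function.Injective f := by
    intro i j h
    have h1 : f ((((sel j)⁻¹ : A8) : Equiv.Perm (Fin 8)) i) = R := by
      rw [← hact, h, hact, ← hf7]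
      congr 1
      rw [Subgroup.coe_inv, Equiv.Perm.inv_eq_iff_eq, hselh]
    have := hR7 _ h1
    rw [Subgroup.coe_inv, Equiv.Perm.inv_eq_iff_eq, hselh] at this
    exact this.symm ▸ rfl
  have hfP : ∀ i, f i ≠ P := fun i h => hRP (hmovP _ _ h)
  let g9 : Option (Fin 8) → G ⧸ ψ.range := fun o => o.elim P f
  have hg9 : Function.Injective g9 := by
    rintro (_ | a) (_ | b) h
    · rfl
    · exact absurd h.symm (hfP b)
    · exact absurd h (hfP a)
    · exact congrArg some (hinj h)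
  have hnine : Nat.card (Set.range g9) = 9 := by
    rw [Nat.card_range_of_injective hg9, Nat.card_eq_fintype_card, Fintype.card_option, Fintype.card_fin]
  -- joined to the base point: exactly the eight points
  have hnb : ∀ Y, Y ≠ P → ∀ p : A8, p * p = 1 → p ≠ 1 → ¬ fpf (p : Equiv.Perm (Fin 8)) = true → ψ p • Y = Y →
      ∃ i, Y = f i := by
    intro Y hY p hp hp1 hpf hfix
    rcases N.class_of hp hp1 with ⟨h, -⟩ | ⟨-, k, hk⟩
    · exact absurd h hpf
    have h1 : ψ aT • (ψ k)⁻¹ • Y = (ψ k)⁻¹ • Y := by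
      rw [← hk, map_mul, map_mul, map_inv, mul_smul, mul_smul] at hfix
      exact smul_left_cancel (ψ k) (hfix.trans (smul_inv_smul _ _).symm)
    obtain ⟨v, hv, he⟩ := hcover R _ hRt hRP h1 (fun h => hY (by
      rw [← smul_inv_smul (ψ k) Y, h, hPfix]))
    exact ⟨_, by rw [← smul_inv_smul (ψ k) Y, he, ← mul_smul, ← map_mul, hf]⟩
  have hpair : ∀ i j : Fin 8, ∃ p : A8, p * p = 1 ∧ p ≠ 1 ∧ ¬ fpf (p : Equiv.Perm (Fin 8)) = true ∧
      ψ p • f i = f i ∧ ψ p • f j = f j := by
    intro i j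
    obtain ⟨q, -, hi, hj, hs, h2, h1, hq⟩ := pair_fix i j
    refine ⟨⟨q, Equiv.Perm.mem_alternatingGroup.mpr hs⟩, Subtype.ext h2, fun e => h1 (congrArg Subtype.val e), hq,
      ?_, ?_⟩
    · rw [hact, hi]
    · rw [hact, hj]
  have hKP : ∀ k, k * ψ aT = ψ aT * k → k • P ∈ Set.range g9 := by
    intro k hk
    by_cases h : k • P = P
    · exact ⟨none, h.symm⟩
    · obtain ⟨i, hi⟩ := hnb _ h aT hT2 z_facts.2.2.2.1 (by rw [z_facts.2.2.2.2.1]; decide)
        (by rw [← mul_smul, ← hk, mul_smul, hPfix])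
      exact ⟨some i, hi.symm⟩
  have hH : ∀ h ∈ ψ.range, ∀ x ∈ Set.range g9, h • x ∈ Set.range g9 := by
    rintro _ ⟨x, rfl⟩ _ ⟨_ | i, rfl⟩
    · exact ⟨none, (hPfix x).symm⟩
    · exact ⟨some ((x : Equiv.Perm (Fin 8)) i), (hact x i).symm⟩
  have hK : ∀ k, k * ψ aT = ψ aT * k → ∀ x ∈ Set.range g9, k • x ∈ Set.range g9 := by
    intro k hk
    obtain ⟨o, ho⟩ := hKP k hk
    rcases o with _ | i
    · exact hH k (fix_base.mp ho.symm)
    have ho' : k • P = f i := ho.symm
    -- the points joined to `f i`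
    let src : {o : Option (Fin 8) // o ≠ some i} → G ⧸ ψ.range := fun o => k⁻¹ • g9 o.1
    have hsrc : ∀ o, ∃ j, src o = f j := by
      rintro ⟨o, ho2⟩
      rcases o with _ | j
      · -- the base point
        obtain ⟨p, hp, hp1, hpf, hpi, -⟩ := hpair i i
        obtain ⟨q, hq⟩ : k⁻¹ * ψ p * k ∈ ψ.range := fix_base.mp (by
          rw [mul_smul, mul_smul, ← hPdef, ho', hpi, ← ho', inv_smul_smul])
        have hq2 : q * q = 1 := N.sq_of hq.symm (by
          rw [show k⁻¹ * ψ p * k * (k⁻¹ * ψ p * k) = k⁻¹ * (ψ p * ψ p) * k by group, ← map_mul, hp, map_one, mul_one,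
            inv_mul_cancel])
        have hq1 : q ≠ 1 := fun e => hp1 (N.inj (by
          rw [e, map_one] at hq
          calc ψ p = k * (k⁻¹ * ψ p * k) * k⁻¹ := by group
            _ = ψ 1 := by rw [← hq, mul_one, mul_inv_cancel, map_one]))
        refine hnb _ (fun h => hfP i ?_) q hq2 hq1 (fun h => N.ne_conj hq2 h hp hpf (isConj_iff.mpr ⟨k, by
          rw [hq]; group⟩)) ?_
        · show f i = P
          rw [← ho']
          have h' : k⁻¹ • P = P := h
          conv_lhs => rw [← h', smul_inv_smul]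
        · show ψ q • k⁻¹ • P = k⁻¹ • P
          rw [hq, mul_smul, mul_smul, smul_inv_smul, hPfix]
      · obtain ⟨p, hp, hp1, hpf, hpi, hpj⟩ := hpair i j
        obtain ⟨q, hq⟩ : k⁻¹ * ψ p * k ∈ ψ.range := fix_base.mp (by
          rw [mul_smul, mul_smul, ← hPdef, ho', hpi, ← ho', inv_smul_smul])
        have hq2 : q * q = 1 := N.sq_of hq.symm (by
          rw [show k⁻¹ * ψ p * k * (k⁻¹ * ψ p * k) = k⁻¹ * (ψ p * ψ p) * k by group, ← map_mul, hp, map_one, mul_one,
            inv_mul_cancel])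
        have hq1 : q ≠ 1 := fun e => hp1 (N.inj (by
          rw [e, map_one] at hq
          calc ψ p = k * (k⁻¹ * ψ p * k) * k⁻¹ := by group
            _ = ψ 1 := by rw [← hq, mul_one, mul_inv_cancel, map_one]))
        refine hnb _ (fun h => ho2 (congrArg some (hinj ?_))) q hq2 hq1 (fun h => N.ne_conj hq2 h hp hpf
          (isConj_iff.mpr ⟨k, by rw [hq]; group⟩)) ?_
        · rw [← ho']
          have h' : k⁻¹ • f j = P := h
          rw [← h', smul_inv_smul]
        · show ψ q • k⁻¹ • f j = k⁻¹ • f j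
          rw [hq, mul_smul, mul_smul, smul_inv_smul, hpj]
    choose idx hidx using hsrc
    have hbij : Function.Bijective idx := by
      refine (Nat.bijective_iff_injective_and_card idx).mpr ⟨fun a b h => Subtype.ext (hg9 ?_), ?_⟩
      · have := (hidx a).trans ((congrArg f h).trans (hidx b).symm)
        exact smul_left_cancel _ this
      · rw [Nat.card_eq_fintype_card, Fintype.card_subtype_compl, Fintype.card_option, Fintype.card_fin,
          Fintype.card_subtype_eq, Nat.card_fin]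
    rintro _ ⟨_ | j, rfl⟩
    · exact ⟨some i, ho⟩
    · obtain ⟨o, ho2⟩ := hbij.2 j
      refine ⟨o.1, ?_⟩
      show g9 o.1 = k • f j
      rw [← ho2, ← hidx, smul_inv_smul]
  have hcoverP : ∀ x ∈ Set.range g9, ∃ g : G, (∀ y ∈ Set.range g9, g • y ∈ Set.range g9) ∧ x = g • P := by
    obtain ⟨k, hk, hkR⟩ := N.exists_K hRt
    rintro _ ⟨_ | i, rfl⟩
    · exact ⟨1, fun y hy => by rw [one_smul]; exact hy, (one_smul G P).symm⟩
    · refine ⟨ψ (sel i) * k, fun y hy => by rw [mul_smul]; exact hH _ ⟨_, rfl⟩ _ (hK k hk y hy), ?_⟩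
      show ψ (sel i) • R = _
      rw [mul_smul, hkR]
  have hu := N.eq_univ (Set.range g9) ⟨none, rfl⟩ (by rw [hnine]; decide) hH hK hcoverP
  rw [← Nat.card_univ (α := G ⧸ ψ.range), ← hu, hnine]

/-- Such a group is `Alt(8)` or `Alt(9)`. -/
theorem classify : Nonempty (G ≃* A8) ∨ Nonempty (G ≃* alternatingGroup (Fin 9)) := by
  classical
  rcases N.card_points with h | h
  · left
    have htop : ψ.range = ⊤ := Subgroup.index_eq_one.mp (by rw [Subgroup.index_eq_card]; exact h)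
    exact ⟨(((MonoidHom.ofInjective N.inj).trans (MulEquiv.subgroupCongr htop)).trans Subgroup.topEquiv).symm⟩
  · right
    set φ := MulAction.toPermHom G (G ⧸ ψ.range)
    haveI : IsSimpleGroup A8 := alternatingGroup.isSimpleGroup (by simp)
    have hker : φ.ker ≤ ψ.range := fun g hg => fix_base.mp (by
      have := Equiv.ext_iff.mp (MonoidHom.mem_ker.mp hg) ((1 : G) : G ⧸ ψ.range)
      exact this)
    have hinj : Function.Injective φ := by
      rw [← MonoidHom.ker_eq_bot_iff]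
      rcases ((MonoidHom.normal_ker φ).comap ψ).eq_bot_or_eq_top with hb | hb
      · rw [eq_bot_iff]
        intro g hg
        obtain ⟨x, rfl⟩ := hker hg
        have : x ∈ φ.ker.comap ψ := hg
        rw [hb, Subgroup.mem_bot] at this
        rw [this, map_one]
        exact one_mem _
      · exfalso
        obtain ⟨X, hX⟩ : ∃ X : G ⧸ ψ.range, X ≠ ((1 : G) : G ⧸ ψ.range) := by
          by_contra hcon
          push Not at hcon
          haveI : Subsingleton (G ⧸ ψ.range) := ⟨fun a b => (hcon a).trans (hcon b).symm⟩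
          rw [Nat.card_unique] at h
          omega
        refine hX (N.fix_unique z_facts.1 z_facts.2.2.1 ?_)
        have : ψ aZ ∈ φ.ker := (hb.symm ▸ Subgroup.mem_top aZ : aZ ∈ φ.ker.comap ψ)
        exact Equiv.ext_iff.mp (MonoidHom.mem_ker.mp this) X
    haveI := Fintype.ofFinite (G ⧸ ψ.range)
    let e : (G ⧸ ψ.range) ≃ Fin 9 := Finite.equivFinOfCardEq h
    let φ' : G →* Equiv.Perm (Fin 9) := e.permCongrHom.toMonoidHom.comp φ
    have hinj' : Function.Injective φ' := e.permCongrHom.injective.comp hinj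
    have hcardG : Nat.card G = 181440 := by
      rw [Subgroup.card_eq_card_quotient_mul_card_subgroup ψ.range, h,
        ← Nat.card_congr (MonoidHom.ofInjective N.inj).toEquiv, nat_card_alternatingGroup, Nat.card_fin]
      rfl
    have hidx : φ'.range.index = 2 := by
      have := φ'.range.index_mul_card
      rw [← Nat.card_congr (MonoidHom.ofInjective hinj').toEquiv, hcardG, Nat.card_perm, Nat.card_fin] at this
      simp [Nat.factorial] at this
      omega
    exact ⟨(MonoidHom.ofInjective hinj').trans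
      (MulEquiv.subgroupCongr (Equiv.Perm.eq_alternatingGroup_of_index_eq_two hidx))⟩

end NineHyp

end CfsgLib.C192
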