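import Cfsg.Agent.Coset.Table
import Cfsg.Agent.C192.A8Letters
import Cfsg.Agent.C192.TA8Data

/-! A checked coset table: 105 cosets of the centralizer. -/

set_option autoImplicit false
set_option maxRecDepth 100000

namespace CfsgLib.C192.TA8

open CfsgLib.Coset

theorem hR : checkRules relsA subs R = true := by decide +kernel
theorem hdefs : checkDefs E 12 12 2394 = true := by decide +kernel
theorem hsteps : checkChunks E ivA R 12 7 2394 115 C = true := by decide +kernel
theorem htable : checkTable E ivA (2394 + chunk * 115) 105 12 7 4 Rep Ref Tb = true := by decide +kernel

end CfsgLib.C192.TA8
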