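import Cfsg.Agent.C192.K10Std
import Cfsg.Agent.C192.TA8
import Cfsg.Agent.C192.NineMain

/-!
A standard pair generates, with the centralizer, an alternating group of degree 8.
-/

set_option autoImplicit false
set_option linter.style.haveILetI false
set_option linter.unusedSectionVars false
set_option maxRecDepth 100000

namespace CfsgLib.C192.K10

open CfsgLib.Coset CfsgLib.Invol
open Eight (eqP eqP_iff eqA_iff aT aA aC aE aH aZ pT)
open CfsgLib.J2U (pathW)
open Equiv (swap)

local notation "A8" => alternatingGroup (Fin 8)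

/-- The images of the letters in the alternating group. -/
def mPerm : List (Equiv.Perm (Fin 8)) :=
   [swap 0 2 * swap 2 1 * swap 1 3 * swap 4 6 * swap 6 5 * swap 5 7,
    swap 0 3 * swap 3 1 * swap 1 2 * swap 4 7 * swap 7 5 * swap 5 6,
    swap 0 4 * swap 4 1 * swap 1 5 * swap 2 6 * swap 6 3 * swap 3 7,
    swap 0 5 * swap 5 1 * swap 1 4 * swap 2 7 * swap 7 3 * swap 3 6,
    swap 2 5 * swap 5 7 * swap 3 4 * swap 4 6,
    swap 2 7 * swap 7 5 * swap 3 6 * swap 6 4,
    swap 2 5 * swap 3 4,
    swap 2 5 * swap 3 4,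
    swap 1 6 * swap 6 7 * swap 2 3 * swap 3 4,
    swap 1 7 * swap 7 6 * swap 2 4 * swap 4 3,
    swap 1 6 * swap 6 7 * swap 2 4 * swap 4 3,
    swap 1 7 * swap 7 6 * swap 2 3 * swap 3 4]

theorem mPerm_even : ∀ i : Fin 12, Equiv.Perm.sign (mPerm.getD i.val 1) = 1 := by decide +kernel

/-- The images of the letters in the alternating group. -/
def MA : List A8 := List.ofFn fun i : Fin 12 => ⟨mPerm.getD i.val 1, Equiv.Perm.mem_alternatingGroup.mpr (mPerm_even i)⟩

theorem ma_rel : (relsA.all fun w => eqP ((ev MA w : A8) : Equiv.Perm (Fin 8)) 1) = true := by decide +kernel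

/-- The words of five generators of a point stabilizer, of the standard involution, and of movers. -/
def twd : List (List Nat) := [[4, 8, 11, 5], [2, 4, 1, 5], [2, 5, 0, 6], [0, 5, 3, 4], [4, 8, 0, 9], [0, 0]]

/-- Words moving each point to the last. -/
def mvd : List (List Nat) := [[0, 3], [9], [3], [2], [1], [0], [8], []]

theorem ma_words : (eqP ((ev MA (twd.getD 0 []) : A8) : Equiv.Perm (Fin 8)) (aC : A8) &&
    eqP ((ev MA (twd.getD 1 []) : A8) : Equiv.Perm (Fin 8)) (aE : A8) &&
    eqP ((ev MA (twd.getD 2 []) : A8) : Equiv.Perm (Fin 8)) (aA : A8) &&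
    eqP ((ev MA (twd.getD 3 []) : A8) : Equiv.Perm (Fin 8)) (aT : A8) &&
    eqP ((ev MA (twd.getD 4 []) : A8) : Equiv.Perm (Fin 8)) (aH * aA * aH⁻¹ : A8) &&
    eqP ((ev MA [0, 0] : A8) : Equiv.Perm (Fin 8)) (aZ : A8) &&
    eqP ((ev MA (pth 114) : A8) : Equiv.Perm (Fin 8)) (aT : A8) &&
    (List.finRange 8).all fun i => ((ev MA (mvd.getD i.val []) : A8) : Equiv.Perm (Fin 8)) i == 7) = true := by
  decide +kernel

theorem path114 : ((pth 114).all fun l => Nat.blt l 8) = true := by decide +kernel

theorem cj_ok : (cjR.all fun q => (q.2.2 == cond q.1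
      ([10] ++ pth q.2.1 ++ [11] ++ ((pth (ap nD2 f20 q.2.1)).map ivC).reverse)
      ([8] ++ pth q.2.1 ++ [9] ++ ((pth (ap nD1 f10 q.2.1)).map ivC).reverse)) &&
    cond q.1 (nD2.contains q.2.1) (nD1.contains q.2.1)) = true := by decide +kernel

theorem tr_ok : (trR == [pth 104 ++ [8] ++ pth 104 ++ [8], pth 145 ++ [10] ++ pth 145 ++ [10]]) = true := by
  decide +kernel

theorem paths_ok : ((List.range 192).all fun i => (pth i).all fun l => Nat.blt l 8) = true := by decide +kernel

/-- The action of a power generator on the group of order 8. -/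
noncomputable def actE (D f E p : List Nat) : List Nat := E.map fun x => ap D f (ap E p x)

/-- The check behind a power relator. -/
noncomputable def powB (D f E : List Nat) (q : Bool × Nat × Nat × Bool × List Nat × List Nat) : Bool :=
  Nat.blt q.2.1 192 && (pth q.2.1 == q.2.2.2.2.1) &&
    E.all (fun x => isCj q.2.1 x (ap E q.2.2.2.2.2 x) && E.contains (ap E q.2.2.2.2.2 x) &&
      D.contains (ap E q.2.2.2.2.2 x) && E.contains (ap D f (ap E q.2.2.2.2.2 x))) &&
    E.all (fun x => runW E [actE D f E q.2.2.2.2.2] (List.replicate q.2.2.1 0) x fun y => Nat.beq y x) &&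
    (cond q.2.2.2.1 (E.all fun x => Nat.beq x 0 || !(thru E (ap D f (ap E q.2.2.2.2.2 x)) fun y => Nat.beq y x)) true)

/-- The relator of a power generator. -/
def powW (q : Bool × Nat × Nat × Bool × List Nat × List Nat) : List Nat :=
  (List.replicate (cond q.2.2.2.1 q.2.2.1 (2 * q.2.2.1)) (cond q.1 10 8 :: q.2.2.2.2.1)).flatten

theorem pow_ok : (pows.all fun q => cond q.1 (powB nD2 f20 nE2 q) (powB nD1 f10 nE1 q)) = true ∧
    (pwR == pows.map powW) = true := by decide +kernel

theorem e_ok : (([nE1, nE2] : List (List Nat)).all fun E => E.all (fun x => Nat.blt x 192 && Nat.beq (mT x x) 0) &&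
    E.contains 8 && (List.range 192).all fun h => !(E.all fun x => comB mT h x) || E.contains h) = true := by
  decide +kernel

theorem ev_mapList' {A B : Type*} [Group A] [Group B] (f : A →* B) (L : List A) :
    ∀ w : List Nat, ev (L.map f) w = f (ev L w) := by
  intro w
  induction w with
  | nil => rw [ev_nil, ev_nil, map_one]
  | cons l w ih =>
    rw [ev_cons, ev_cons, map_mul, ih]
    congr 1
    rw [fl, fl, ← map_one f, List.getD_map]

variable {G : Type*} [Group G] [Finite G] {z : G} {L : List G}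

theorem pow_rel (Lo : Loc10 z L) {g : G} {D f E : List Nat} (hA : Acts (el L) D g f)
    {q : Bool × Nat × Nat × Bool × List Nat × List Nat} (hq : powB D f E q = true)
    (hE : (E.all (fun x => Nat.blt x 192 && Nat.beq (mT x x) 0) && E.contains 8 &&
      (List.range 192).all fun h => !(E.all fun x => comB mT h x) || E.contains h) = true) :
    (g * el L q.2.1) ^ (cond q.2.2.2.1 q.2.2.1 (2 * q.2.2.1)) = 1 := by
  have C := Lo.cod
  simp only [powB, Bool.and_eq_true, Nat.blt_eq, List.all_eq_true, List.contains_iff_mem, beq_iff_eq] at hq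
  obtain ⟨⟨⟨⟨hh, -⟩, hperm⟩, hrun⟩, hfix⟩ := hq
  simp only [Bool.and_eq_true, Nat.blt_eq, List.all_eq_true, List.contains_iff_mem, Nat.beq_eq] at hE
  obtain ⟨⟨hlt, h8⟩, hcen⟩ := hE
  set p := q.2.2.2.2.2
  set y := g * el L q.2.1
  have hAE : Acts (el L) E y (actE D f E p) := by
    intro x hx
    obtain ⟨⟨⟨hc, hpE⟩, hpD⟩, hfE⟩ := hperm x hx
    rw [show ap E (actE D f E p) x = ap D f (ap E p x) from ap_map (fun x => ap D f (ap E p x)) hx]
    refine ⟨hfE, ?_⟩
    rw [← (hA _ hpD).2, ← (C.conj_eq_iff hh (hlt x hx).1 (hlt _ hpE).1).mpr (Nat.eq_of_beq_eq_true hc)]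
    simp only [y]; group
  have hev : ∀ n : ℕ, ev [y] (List.replicate n 0) = y ^ n := by
    intro n
    induction n with
    | zero => rw [List.replicate_zero, ev_nil, pow_zero]
    | succ n ih => rw [List.replicate_succ, ev_cons, ih, pow_succ']; rfl
  have hfixE : ∀ x ∈ E, y ^ q.2.2.1 * el L x * (y ^ q.2.2.1)⁻¹ = el L x := by
    intro x hx
    have h := (acts_word (el := el L) (es := [y]) (ps := [actE D f E p]) rfl (fun l hl => by
      simp at hl; subst hl; exact hAE) (w := List.replicate q.2.2.1 0) (fun l hl => by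
      rw [(List.mem_replicate.mp hl).2]; simp) x hx).2
    have h0 := runW_elim _ _ _ (hrun x hx)
    rwa [hev, Nat.eq_of_beq_eq_true h0] at h
  obtain ⟨j, hj, hje⟩ := C.surj (y ^ q.2.2.1) (by rw [C.zeq]; exact mul_inv_eq_iff_eq_mul.mp (hfixE 8 h8))
  have hjE : j ∈ E := by
    have := hcen j (List.mem_range.mpr hj)
    rw [Bool.or_eq_true, Bool.not_eq_true', ← Bool.not_eq_true, List.contains_iff_mem] at this
    refine this.resolve_left fun hn => hn (List.all_eq_true.mpr fun x hx => ?_)
    exact (C.comm_iff hj (hlt x hx).1).mp (hje ▸ mul_inv_eq_iff_eq_mul.mp (hfixE x hx))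
  cases hb : q.2.2.2.1 with
  | false =>
    show y ^ (2 * q.2.2.1) = 1
    rw [mul_comm, pow_mul, hje, pow_two, C.mul j hj j hj, (hlt j hjE).2, C.one]
  | true =>
    show y ^ q.2.2.1 = 1
    rw [hb] at hfix
    simp only [cond_true, List.all_eq_true, Bool.or_eq_true, Nat.beq_eq, Bool.not_eq_true'] at hfix
    obtain ⟨⟨⟨-, hpE⟩, hpD⟩, hfE⟩ := hperm j hjE
    have h1 : y * el L j * y⁻¹ = el L j := by rw [← hje]; group
    have h2 : ap D f (ap E p j) = j := by
      have h := (hAE j hjE).2
      rw [show ap E (actE D f E p) j = ap D f (ap E p j) from ap_map (fun x => ap D f (ap E p x)) hjE, h1] at h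
      exact (C.inj j hj _ (hlt _ hfE).1 h).symm
    rcases hfix j hjE with h0 | h0
    · rw [hje, h0, C.one]
    · rw [thru_of (k := fun y => Nat.beq y j) hfE (Nat.beq_eq.mpr h2)] at h0
      exact absurd h0 (by decide)

set_option maxHeartbeats 1000000 in
/-- A standard pair gives an embedded alternating group of degree 8. -/
theorem exists_eight {g1 g2 : G} (S : Std10 z L g1 g2) :
    ∃ ψ : A8 →* G, NineHyp ψ ∧ ψ aZ = z ∧ ψ aT = el L 114 := by
  classical
  have Lo := S.loc
  have C := Lo.cod
  set LA : List G := L ++ [g1, g1⁻¹, g2, g2⁻¹] with hLA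
  have hlenA : LA.length = 12 := by simp [hLA, Lo.len]
  have hlow : ∀ l, l < 8 → fl LA l = fl L l := fun l hl => by
    simp only [fl, hLA]
    exact List.getD_append _ _ _ _ (Lo.len.symm ▸ hl)
  have hLAw : ∀ {w : List Nat}, (∀ l ∈ w, l < 8) → ev LA w = ev L w := by
    intro w
    induction w with
    | nil => intro _; rw [ev_nil, ev_nil]
    | cons l w ih =>
      intro h
      rw [ev_cons, ev_cons, hlow l (h l (List.mem_cons_self ..)), ih fun m hm => h m (List.mem_cons_of_mem _ hm)]
  have hhigh : fl LA 8 = g1 ∧ fl LA 9 = g1⁻¹ ∧ fl LA 10 = g2 ∧ fl LA 11 = g2⁻¹ := by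
    simp [fl, hLA, Lo.len]
  obtain ⟨q8, q9, q10, q11⟩ := hhigh
  have hpth : ∀ i < 192, ∀ l ∈ pth i, l < 8 := fun i hi l hl =>
    Nat.blt_eq.mp (List.all_eq_true.mp (List.all_eq_true.mp paths_ok i (List.mem_range.mpr hi)) l hl)
  have hel : ∀ i < 192, ev LA (pth i) = el L i := fun i hi => hLAw (hpth i hi)
  have hinvC : ∀ x, fl L (ivC x) = (fl L x)⁻¹ := fun x => inv_of_rels Lo.len Lo.rel x
  have helinv : ∀ i < 192, ev LA ((pth i).map ivC).reverse = (el L i)⁻¹ := fun i hi => by
    rw [hLAw (fun l hl => by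
      obtain ⟨a, ha, rfl⟩ := List.mem_map.mp (List.mem_reverse.mp hl)
      have := hpth i hi a ha
      interval_cases a <;> decide)]
    exact CfsgLib.J2U.ev_inv_word hinvC _
  obtain ⟨i1, i2⟩ := S.invert
  obtain ⟨d1, d2, -, -⟩ := dlists_ok
  simp only [List.all_eq_true, Nat.blt_eq] at d1 d2
  have hrelA : ∀ w ∈ relsA, ev LA w = 1 := by
    intro w hw
    simp only [relsA, List.mem_append] at hw
    rcases hw with ((( hw | hw) | hw) | hw) | hw
    · rw [hLAw, Lo.rel w hw]
      have h : ((relsC true false).all fun w => w.all fun l => Nat.blt l 8) = true := by decide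
      intro l hl
      exact Nat.blt_eq.mp (List.all_eq_true.mp (List.all_eq_true.mp h w hw) l hl)
    · simp only [List.mem_cons, List.not_mem_nil, or_false] at hw
      rcases hw with rfl | rfl | rfl | rfl | rfl | rfl | rfl <;>
        simp only [ev_cons, ev_nil, q8, q9, q10, q11, mul_one]
      · rw [mul_inv_cancel]
      · rw [inv_mul_cancel]
      · rw [mul_inv_cancel]
      · rw [inv_mul_cancel]
      · rw [← S.mv1.g3]; simp only [pow_succ, pow_zero, one_mul, mul_assoc]
      · rw [← S.mv2.g3]; simp only [pow_succ, pow_zero, one_mul, mul_assoc]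
      · rw [← mul_assoc, ← mul_assoc, S.comm]; group
    · obtain ⟨q, hq, rfl⟩ := List.mem_map.mp hw
      have h := List.all_eq_true.mp cj_ok q hq
      rw [Bool.and_eq_true, beq_iff_eq] at h
      obtain ⟨he, hc⟩ := h
      rw [he]
      cases hb : q.1 with
      | false =>
        rw [hb] at hc
        simp only [cond_false, List.contains_iff_mem] at hc ⊢
        obtain ⟨h1, h2⟩ := S.act1 _ hc
        rw [ev_append, ev_append, ev_append, hel _ (d1 _ hc), helinv _ (d1 _ h1)]
        simp only [ev_cons, ev_nil, q8, q9, mul_one]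
        rw [h2, mul_inv_cancel]
      | true =>
        rw [hb] at hc
        simp only [cond_true, List.contains_iff_mem] at hc ⊢
        obtain ⟨h1, h2⟩ := S.act2 _ hc
        rw [ev_append, ev_append, ev_append, hel _ (d2 _ hc), helinv _ (d2 _ h1)]
        simp only [ev_cons, ev_nil, q10, q11, mul_one]
        rw [h2, mul_inv_cancel]
    · rw [beq_iff_eq.mp tr_ok] at hw
      simp only [List.mem_cons, List.not_mem_nil, or_false] at hw
      rcases hw with rfl | rfl
      · rw [ev_append, ev_append, ev_append, hel _ (by norm_num)]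
        simp only [ev_cons, ev_nil, q8, mul_one]
        exact i1
      · rw [ev_append, ev_append, ev_append, hel _ (by norm_num)]
        simp only [ev_cons, ev_nil, q10, mul_one]
        exact i2
    · rw [beq_iff_eq.mp pow_ok.2] at hw
      obtain ⟨q, hq, rfl⟩ := List.mem_map.mp hw
      have h := List.all_eq_true.mp pow_ok.1 q hq
      have hrep : ∀ (u : List Nat) (n : ℕ), ev LA (List.replicate n u).flatten = ev LA u ^ n := by
        intro u n
        induction n with
        | zero => rw [List.replicate_zero, List.flatten_nil, ev_nil, pow_zero]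
        | succ n ih => rw [List.replicate_succ, List.flatten_cons, ev_append, ih, pow_succ']
      obtain ⟨hw1, hwp⟩ : q.2.1 < 192 ∧ pth q.2.1 = q.2.2.2.2.1 := by
        cases hb : q.1 <;> rw [hb] at h <;>
          simp only [cond_true, cond_false, powB, Bool.and_eq_true, Nat.blt_eq, beq_iff_eq] at h <;>
          exact h.1.1.1
      rw [powW, hrep, ← hwp, ev_cons, hel _ hw1]
      have he := e_ok
      simp only [List.all_cons, List.all_nil, Bool.and_true] at he
      rw [Bool.and_eq_true] at he
      cases hb : q.1 with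
      | false => rw [hb] at h; simp only [cond_false] at h ⊢; rw [q8]; exact pow_rel Lo S.act1 h he.1
      | true => rw [hb] at h; simp only [cond_true] at h ⊢; rw [q10]; exact pow_rel Lo S.act2 h he.2
  set X : List (G × A8) := LA.zip MA with hX
  have hlenM : MA.length = 12 := by rw [MA, List.length_ofFn]
  have hlenX : X.length = 12 := by rw [hX, List.length_zip, hlenA, hlenM, min_self]
  have hfst : X.map (MonoidHom.fst G A8) = LA := List.map_fst_zip (by rw [hlenA, hlenM])
  have hsnd : X.map (MonoidHom.snd G A8) = MA := List.map_snd_zip (by rw [hlenA, hlenM])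
  have hev1 : ∀ w, (ev X w).1 = ev LA w := fun w => by rw [← hfst, ev_mapList']; rfl
  have hev2 : ∀ w, (ev X w).2 = ev MA w := fun w => by rw [← hsnd, ev_mapList']; rfl
  have hrel : ∀ w ∈ relsA, ev X w = 1 := fun w hw => Prod.ext (by rw [hev1, hrelA w hw]; rfl)
    (by rw [hev2]; exact eqA_iff.mp (List.all_eq_true.mp ma_rel w hw))
  have hiv := CfsgLib.J2U.inv_of_rels hlenX hrel (iv := ivA) (by decide) (fun x hx => by
    unfold ivA; rw [List.getD_eq_default _ _ (by simpa using hx)])
  set Y : List (G × A8) := X.take 8 with hY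
  have hlenY : Y.length = 8 := by rw [hY, List.length_take, hlenX]; rfl
  have hflY : ∀ l, l < 8 → fl X l = fl Y l := fun l hl => by
    simp only [fl]
    rw [List.getD_eq_getElem _ _ (hlenX.symm ▸ (by omega : l < 12)), List.getD_eq_getElem _ _ (hlenY.symm ▸ hl)]
    simp [hY]
  have hXY : ∀ {w : List Nat}, (∀ l ∈ w, l < 8) → ev X w = ev Y w := by
    intro w
    induction w with
    | nil => intro _; rw [ev_nil, ev_nil]
    | cons l w ih =>
      intro h
      rw [ev_cons, ev_cons, hflY l (h l (List.mem_cons_self ..)), ih fun m hm => h m (List.mem_cons_of_mem _ hm)]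
  have hrelY : ∀ w ∈ relsC true false, ev Y w = 1 := fun w hw => by
    have h : ((relsC true false).all fun w => w.all fun l => Nat.blt l 8) = true := by decide
    rw [← hXY (fun l hl => Nat.blt_eq.mp (List.all_eq_true.mp (List.all_eq_true.mp h w hw) l hl))]
    exact hrel w (by simp [relsA, hw])
  have TY : TableOK Y (⊥ : Subgroup (G × A8)) T10.E ivC 192 T10.Rep T10.Tb :=
    tableOK_of_check (inv_of_rels hlenY hrelY) T10.hR (hlenY.symm ▸ T10.hdefs) (hlenY.symm ▸ T10.hsteps)
      (hlenY.symm ▸ T10.htable) hrelY (by simp [T10.subs])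
  obtain ⟨hYfin, hYcard⟩ := TY.finite_card_le (by norm_num) bot_le (m := 1) inferInstance (by simp)
  set H := Subgroup.closure {x | x ∈ Y} with hH
  set Δ := Subgroup.closure {x | x ∈ X} with hΔ
  have hHΔ : H ≤ Δ := (Subgroup.closure_le _).mpr fun x hx => Subgroup.subset_closure (List.mem_of_mem_take hx)
  have TX : TableOK X H TA8.E ivA 105 TA8.Rep TA8.Tb :=
    tableOK_of_check hiv TA8.hR (hlenX.symm ▸ TA8.hdefs) (hlenX.symm ▸ TA8.hsteps) (hlenX.symm ▸ TA8.htable) hrel
      (fun w hw => by
        have hw' : ∀ l ∈ w, l < 8 := by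
          have h : (TA8.subs.all fun w => w.all fun l => Nat.blt l 8) = true := by decide
          exact fun l hl => Nat.blt_eq.mp (List.all_eq_true.mp (List.all_eq_true.mp h w hw) l hl)
        rw [hXY hw']
        clear hw hw'
        induction w with
        | nil => rw [ev_nil]; exact one_mem _
        | cons l w ih => rw [ev_cons]; exact mul_mem (mem_closure_fl l) ih)
  obtain ⟨hΔfin, hΔcard⟩ := TX.finite_card_le (by norm_num) hHΔ (m := 192) hYfin (by simpa using hYcard)
  let p2 : Δ →* A8 := (MonoidHom.snd G A8).comp Δ.subtype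
  have hΔw : ∀ w, ev X w ∈ Δ := fun w => by
    induction w with
    | nil => rw [ev_nil]; exact one_mem _
    | cons l w ih => rw [ev_cons]; exact mul_mem (mem_closure_fl l) ih
  have hMmem : ∀ w, ev MA w ∈ p2.range := fun w => ⟨⟨ev X w, hΔw w⟩, hev2 w⟩
  have hwds := ma_words
  simp only [Bool.and_eq_true, List.all_eq_true, eqA_iff, beq_iff_eq] at hwds
  obtain ⟨⟨⟨⟨⟨⟨⟨wC, wE⟩, wA⟩, wT⟩, wAE⟩, wZ⟩, w114⟩, wmv⟩ := hwds
  have hsurj : Function.Surjective p2 := by
    rw [← MonoidHom.range_eq_top, Subgroup.eq_top_iff']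
    intro x
    have hm := hMmem (mvd.getD ((x : Equiv.Perm (Fin 8)) 7).val [])
    set y := ev MA (mvd.getD ((x : Equiv.Perm (Fin 8)) 7).val []) with hy
    have h7 : ((y * x : A8) : Equiv.Perm (Fin 8)) 7 = 7 := by
      rw [Subgroup.coe_mul, Equiv.Perm.mul_apply, hy]
      exact wmv _ (List.mem_finRange _)
    have := Eight.stab_le p2.range (wC ▸ hMmem _) (wE ▸ hMmem _) (wA ▸ hMmem _) (wT ▸ hMmem _) (wAE ▸ hMmem _) _ h7
    simpa using mul_mem (inv_mem hm) this
  have hcard8 : Nat.card A8 = 20160 := by rw [nat_card_alternatingGroup, Nat.card_fin]; rfl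
  have hbij : Function.Bijective p2 := (Nat.bijective_iff_surjective_and_card p2).mpr
    ⟨hsurj, le_antisymm (hΔcard.trans (by rw [hcard8])) (Nat.card_le_card_of_surjective p2 hsurj)⟩
  let ψ : A8 →* G := ((MonoidHom.fst G A8).comp Δ.subtype).comp (MulEquiv.ofBijective p2 hbij).symm.toMonoidHom
  have hψ : ∀ w, ψ (ev MA w) = ev LA w := fun w => by
    have h1 : (MulEquiv.ofBijective p2 hbij).symm (ev MA w) = ⟨ev X w, hΔw w⟩ := by
      rw [MulEquiv.symm_apply_eq]
      exact (hev2 w).symm
    show ((MulEquiv.ofBijective p2 hbij).symm (ev MA w) : Δ).1.1 = ev LA w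
    rw [h1]
    exact hev1 w
  have hZ : ψ aZ = z := by rw [← wZ, hψ, hLAw (by simp), ← Lo.zeq]
  have hT : ψ aT = el L 114 := by rw [← w114, hψ, hel _ (by norm_num)]
  refine ⟨ψ, ⟨?_, fun x hx => ?_, fun h => ?_⟩, hZ, hT⟩
  · haveI : IsSimpleGroup A8 := alternatingGroup.isSimpleGroup (by simp)
    rcases (MonoidHom.normal_ker ψ).eq_bot_or_eq_top with h | h
    · exact (MonoidHom.ker_eq_bot_iff ψ).mp h
    · exfalso
      have : ψ aZ = 1 := MonoidHom.mem_ker.mp (h ▸ Subgroup.mem_top aZ)
      rw [hZ] at this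
      exact CfsgLib.Invol.ne_one (C.zord (by decide +kernel)) this
  · rw [hZ] at hx
    obtain ⟨i, hi, rfl⟩ := C.surj x hx
    exact ⟨ev MA (pth i), by rw [hψ, hel i hi]⟩
  · rw [hZ, hT] at h
    refine S.not_third (h.trans ?_)
    have hh : ((List.range 192).any fun h => isCj h 114 160) = true := by decide +kernel
    obtain ⟨c, hc, hce⟩ := List.any_eq_true.mp hh
    exact isConj_iff.mpr ⟨el L c, (C.conj_eq_iff (List.mem_range.mp hc) (by norm_num) (by norm_num)).mpr
      (Nat.eq_of_beq_eq_true hce)⟩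

end CfsgLib.C192.K10
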