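import Cfsg.Agent.C192.K10Checks

/-!
The finite checks for a commuting pair of elements of order three.
-/

set_option autoImplicit false
set_option maxRecDepth 100000

namespace CfsgLib.C192.K10

theorem r_ok : (nR.all fun x => Nat.beq (mT x x) 0 && comB mT x 9 && comB mT x 166 && nD1.contains x && nD2.contains x)
    = true := by decide +kernel

theorem centR_ok : ((List.range 192).all fun h => !(nR.all fun x => comB mT h x) || nR.contains h) = true := by
  decide +kernel

theorem shift_ok : (rgood1.all fun p => rgood2.all fun q => nR.all fun h => nR.any fun x =>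
    thru nR (ap nR p x) fun u => thru nR (mT u x) fun v => Nat.beq (ap nR q v) h) = true := by decide +kernel

theorem cube_ok : (rgood2.all fun q => nR.all fun x =>
    thru nR (ap nR q x) fun u => thru nR (ap nR q u) fun v => Nat.beq (mT (mT u v) x) 0) = true := by decide +kernel

/-- The necessary conditions on the element `t g t⁻¹ g`. -/
noncomputable def dCond (Da Db fa fb : List Nat) (t d : Nat) : Bool :=
  Db.contains d && (thru Da (ap Da fa d) fun u => thru Da (ap Da fa u) fun v => Nat.beq (mT (mT d v) u) 0) &&
    (thru Db (ap Db fb t) fun ft => thru Da (mT t ft) fun e => thru Da (ap Da fa e) fun u =>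
      thru Da (ap Da fa u) fun v => Nat.beq (mT d v) (mT e (ap Db fb d))) &&
    Da.all fun x => thru Da (ap Da fa x) fun fx => thru Da (mT (mT t x) t) fun y => thru Da (ap Da fa y) fun u =>
      thru Da (ap Da fa u) fun v => Nat.beq (mT (mT (mT t fx) t) d) (mT d v)

/-- A change of generators carries the standard pair to the given one. -/
noncomputable def matchB (ns f1 f2 : List Nat) : Bool :=
  nD1.all (fun x => thru nD1 (sg ns x) fun u => thru nD1 (ap nD1 f10 x) fun v => Nat.beq (ap nD1 f1 u) (sg ns v)) &&
    nD2.all (fun x => thru nD2 (sg ns x) fun u => thru nD2 (ap nD2 f20 x) fun v => Nat.beq (ap nD2 f2 u) (sg ns v))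

theorem orbit_ok : (good1.all fun f1 => good2.all fun f2 => !(comP (rst nD1 f1) (rst nD2 f2)) ||
    nD1.all (fun d => !(dCond nD1 nD2 f1 f2 104 d)) || nsF.any fun ns => matchB ns f1 f2) = true := by decide +kernel

theorem sigF_ok : ((List.range nsF.length).all fun i => sigOK (nsF.getD i []) (wsF.getD i []) &&
    Nat.beq (sg (nsF.getD i []) 9) 9 && Nat.beq (sg (nsF.getD i []) 166) 166) = true := by decide +kernel

theorem std_d : (nD1.all fun d => !(dCond nD1 nD2 f10 f20 104 d) || Nat.beq d 0) = true ∧
    (nD2.all fun d => !(dCond nD2 nD1 f20 f10 145 d) || Nat.beq d 0) = true := by decide +kernel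

theorem t_ok : nD1.contains 104 = false ∧ nD2.contains 104 = true ∧ nD1.contains 145 = true ∧
    Nat.beq (mT 104 104) 0 = true ∧ Nat.beq (mT 145 145) 0 = true ∧
    isCj 104 9 (mT 8 9) = true ∧ isCj 145 166 (mT 8 166) = true := by decide +kernel

end CfsgLib.C192.K10
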