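import Cfsg.Agent.C192.K10Two

/-!
The standard pair, its inverting involutions, and the class which is not fused.
-/

set_option autoImplicit false
set_option linter.unusedSectionVars false
set_option maxRecDepth 100000

namespace CfsgLib.C192.K10

open CfsgLib.Coset CfsgLib.Invol

variable {G : Type*} [Group G] [Finite G] {z : G} {L : List G}

/-- The standard position of two commuting elements of order three. -/
structure Std10 (z : G) (L : List G) (g1 g2 : G) : Prop where
  loc : Loc10 z L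
  comm : g1 * g2 = g2 * g1
  mv1 : Mv (el L) z 9 g1
  mv2 : Mv (el L) z 166 g2
  act1 : Acts (el L) nD1 g1 f10
  act2 : Acts (el L) nD2 g2 f20

theorem dlists_ok : (nD1.all fun x => Nat.blt x 192) = true ∧ (nD2.all fun x => Nat.blt x 192) = true ∧
    ((List.range 192).all fun i => cond (comB mT i 9) (nD1.contains i) (!nD1.contains i)) = true ∧
    ((List.range 192).all fun i => cond (comB mT i 166) (nD2.contains i) (!nD2.contains i)) = true := by
  decide +kernel

theorem nD_iff {a : Nat} {D : List Nat}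
    (h : ((List.range 192).all fun i => cond (comB mT i a) (D.contains i) (!D.contains i)) = true) {i : Nat}
    (hi : i < 192) : comB mT i a = true ↔ i ∈ D := by
  have h := List.all_eq_true.mp h i (List.mem_range.mpr hi)
  by_cases hb : comB mT i a = true
  · rw [hb] at h; exact iff_of_true hb (by simpa using h)
  · rw [Bool.not_eq_true] at hb
    rw [hb] at h
    exact iff_of_false (by rw [hb]; decide) (by simpa using h)

/-- Conjugation by an involution node. -/
noncomputable def cjt (t x : Nat) : Nat := mT (mT t x) t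

/-- Preliminary facts on a pair of actions and a node. -/
noncomputable def preD (Da Db fa fb : List Nat) (t b : Nat) : Bool :=
  Da.contains b && Db.contains t && Da.all (fun x => Da.contains (cjt t x)) &&
    (thru Db (ap Db fb t) fun ft => Da.contains (mT t ft)) &&
    (thru Da (ap Da fa b) fun u => thru Da (cjt t u) fun v => thru Da (ap Da fa v) fun w => Nat.beq (cjt t w) b)

theorem preD_ok : (good1.all fun f1 => good2.all fun f2 => preD nD1 nD2 f1 f2 104 166) = true ∧
    preD nD2 nD1 f20 f10 145 9 = true := by decide +kernel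

/-- The element `t g t⁻¹ g` is a node satisfying the conditions. -/
theorem exists_d (Lo : Loc10 z L) {ga gb : G} {a b t : Nat} {Da Db fa fb : List Nat}
    (hDa : ∀ i < 192, comB mT i a = true ↔ i ∈ Da) (hDb : ∀ i < 192, comB mT i b = true ↔ i ∈ Db)
    (hla : ∀ x ∈ Da, x < 192) (hlb : ∀ x ∈ Db, x < 192)
    (ha : a < 192) (hb : b < 192) (ht : t < 192) (htt : mT t t = 0)
    (hswap : mT t a = mT (mT 8 a) t) (hpre : preD Da Db fa fb t b = true)
    (Ma : Mv (el L) z a ga) (hcom : ga * gb = gb * ga)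
    (Aa : Acts (el L) Da ga fa) (Ab : Acts (el L) Db gb fb) :
    ∃ d ∈ Da, el L t * ga * el L t * ga = el L d ∧ dCond Da Db fa fb t d = true := by
  have C := Lo.cod
  simp only [preD, Bool.and_eq_true, List.contains_iff_mem, List.all_eq_true] at hpre
  obtain ⟨⟨⟨⟨hbD, htD⟩, hcl⟩, hpe⟩, hpb⟩ := hpre
  have hpe' := thru_elim hpe
  have heD : mT t (ap Db fb t) ∈ Da := List.contains_iff_mem.mp hpe'
  have hpb1 := thru_elim (thru_elim (thru_elim hpb))
  have hpb' := Nat.eq_of_beq_eq_true hpb1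
  set T := el L t with hT
  have hTT : T * T = 1 := by rw [hT, C.mul t ht t ht, htt, C.one]
  have hTi : T⁻¹ = T := inv_eq_of_mul_eq_one_right hTT
  have hcjt : ∀ {x}, x < 192 → T * el L x * T = el L (cjt t x) := fun hx => by
    rw [hT, cjt, C.mul t ht _ hx, C.mul _ (C.lt t ht _ hx) t ht]
  have hza : el L (mT 8 a) = z * el L a := by rw [C.zeq, C.mul 8 C.clt a ha]
  have hTz : T * z * T⁻¹ = z := by rw [show T * z = z * T from C.mem t, mul_inv_cancel_right]
  have hTa : T * el L a * T⁻¹ = z * el L a := by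
    rw [← hza, hT, C.conj_eq_iff ht ha (C.lt 8 C.clt a ha), hswap]
  have hzz : z * z = 1 := by rw [C.zeq, C.mul 8 C.clt 8 C.clt, show mT 8 8 = 0 by decide +kernel, C.one]
  have haa : el L a * el L a = 1 := by
    calc el L a * el L a = ga * (z * z) * ga⁻¹ := by rw [← Ma.gz]; group
      _ = 1 := by rw [hzz, mul_one, mul_inv_cancel]
  have hTza : T * (z * el L a) * T⁻¹ = el L a := by
    rw [← conj_mul, hTz, hTa, ← mul_assoc, hzz, one_mul]
  have hgza : ga * (z * el L a) * ga⁻¹ = z := by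
    rw [← conj_mul, Ma.gz, Ma.ga, ← mul_assoc, C.mem a, mul_assoc, haa, mul_one]
  set D := T * ga * T * ga
  have cj : ∀ x, D * x * D⁻¹ = T * (ga * (T * (ga * x * ga⁻¹) * T⁻¹) * ga⁻¹) * T⁻¹ := fun x => by
    simp only [D]; group
  have hDz : D * z = z * D := mul_inv_eq_iff_eq_mul.mp (by rw [cj, Ma.gz, hTa, hgza, hTz])
  have hDaEq : D * el L a = el L a * D := mul_inv_eq_iff_eq_mul.mp (by rw [cj, Ma.ga, hTza, Ma.ga, hTza])
  obtain ⟨d, hd, hde⟩ := C.surj D hDz
  have hdA : d ∈ Da := (hDa d hd).mp ((C.comm_iff hd ha).mp (hde ▸ hDaEq))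
  have hdB : d ∈ Db := by
    refine (hDb d hd).mp ((C.comm_iff hd hb).mp (hde ▸ mul_inv_eq_iff_eq_mul.mp ?_))
    obtain ⟨hu, eu⟩ := Aa b hbD
    obtain ⟨hw, ew⟩ := Aa _ (hcl _ hu)
    rw [cj, eu, hTi, hcjt (hla _ hu), ew, hcjt (hla _ hw)]
    exact congrArg (el L) hpb'
  refine ⟨d, hdA, hde, ?_⟩
  have hTga : T * ga * T = el L d * ga⁻¹ := by rw [← hde]; simp only [D]; group
  obtain ⟨hft, heft⟩ := Ab t htD
  have hft2 : el L (ap Db fb t) * el L (ap Db fb t) = 1 := by rw [← heft, conj_mul, hTT, mul_one, mul_inv_cancel]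
  set e := mT t (ap Db fb t) with he
  have helt : e < 192 := C.lt t ht _ (hlb _ hft)
  have hTgb : T * gb * T = el L e * gb := by
    have e1 : el L e = T * (gb * T * gb⁻¹) := by rw [he, ← C.mul t ht _ (hlb _ hft), heft]
    have e2 : el L e = T * (gb * T * gb⁻¹)⁻¹ := by
      rw [e1, heft, inv_eq_of_mul_eq_one_right hft2]
    calc T * gb * T = T * (gb * T * gb⁻¹) * gb := by group
      _ = el L e * gb := by rw [e1]
  have hinv : ∀ x ∈ Da, ga⁻¹ * el L x * ga = el L (ap Da fa (ap Da fa x)) := fun x hx => by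
    obtain ⟨h1, e1⟩ := Aa x hx
    rw [← (Aa _ h1).2, ← e1]
    calc ga⁻¹ * el L x * ga = ga⁻¹ * (ga ^ 3 * el L x * (ga ^ 3)⁻¹) * ga := by
          rw [Ma.g3, one_mul, inv_one, mul_one]
      _ = ga * (ga * el L x * ga⁻¹) * ga⁻¹ := by rw [pow_succ, pow_two]; group
  obtain ⟨hd1, ed1⟩ := Aa d hdA
  obtain ⟨hd2, ed2⟩ := Aa _ hd1
  have hcube : mT (mT d (ap Da fa (ap Da fa d))) (ap Da fa d) = 0 := by
    refine C.inj _ (C.lt _ (C.lt d hd _ (hla _ hd2)) _ (hla _ hd1)) 0 (by norm_num) ?_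
    rw [← C.mul _ (C.lt d hd _ (hla _ hd2)) _ (hla _ hd1), ← C.mul d hd _ (hla _ hd2), C.one, ← hinv d hdA, ← ed1]
    have h3 : (el L d * ga⁻¹) ^ 3 = 1 := by
      rw [← hTga]
      calc (T * ga * T) ^ 3 = T * ga * (T * T) * ga * (T * T) * ga * T := by rw [pow_succ, pow_two]; group
        _ = 1 := by
          rw [hTT, mul_one, mul_one, mul_assoc T, mul_assoc T,
            show ga * ga * ga = ga ^ 3 by rw [pow_succ, pow_two], Ma.g3, mul_one, hTT]
    calc el L d * (ga⁻¹ * el L d * ga) * (ga * el L d * ga⁻¹)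
        = el L d * ga⁻¹ * (el L d * ga⁻¹) * (ga ^ 3 * (el L d * ga⁻¹)) := by rw [pow_succ, pow_two]; group
      _ = 1 := by rw [Ma.g3, one_mul, ← h3, pow_succ, pow_two]
  have hcross : mT d (ap Da fa (ap Da fa e)) = mT e (ap Db fb d) := by
    obtain ⟨he1, -⟩ := Aa e heD
    obtain ⟨he2, -⟩ := Aa _ he1
    obtain ⟨hfd, efd⟩ := Ab d hdB
    refine C.inj _ (C.lt d hd _ (hla _ he2)) _ (C.lt e helt _ (hlb _ hfd)) ?_
    rw [← C.mul d hd _ (hla _ he2), ← C.mul e helt _ (hlb _ hfd), ← hinv e heD, ← efd]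
    have h1 : (T * ga * T) * (T * gb * T) = (T * gb * T) * (T * ga * T) := by
      calc _ = T * ga * (T * T) * gb * T := by group
        _ = T * (gb * ga) * T := by rw [hTT, mul_one, mul_assoc T, hcom]
        _ = T * gb * (T * T) * ga * T := by rw [hTT, mul_one]; group
        _ = _ := by group
    rw [hTga, hTgb] at h1
    have h2 : ga⁻¹ * gb = gb * ga⁻¹ := ((show Commute ga gb from hcom).inv_left).eq
    refine mul_right_cancel (b := ga⁻¹ * gb) ?_
    calc el L d * (ga⁻¹ * el L e * ga) * (ga⁻¹ * gb) = el L d * ga⁻¹ * (el L e * gb) := by group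
      _ = el L e * gb * (el L d * ga⁻¹) := h1
      _ = el L e * (gb * el L d * gb⁻¹) * (gb * ga⁻¹) := by group
      _ = _ := by rw [h2]
  simp only [dCond, Bool.and_eq_true, List.contains_iff_mem, List.all_eq_true]
  refine ⟨⟨⟨hdB, thru_of hd1 (thru_of hd2 (Nat.beq_eq.mpr hcube))⟩,
    thru_of hft (thru_of heD (thru_of (Aa e heD).1 (thru_of (Aa _ (Aa e heD).1).1 (Nat.beq_eq.mpr hcross))))⟩,
    fun x hx => ?_⟩
  obtain ⟨hfx, efx⟩ := Aa x hx
  have hy := hcl x hx
  obtain ⟨hy1, ey1⟩ := Aa _ hy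
  obtain ⟨hy2, ey2⟩ := Aa _ hy1
  refine thru_of hfx (thru_of hy (thru_of hy1 (thru_of hy2 (Nat.beq_eq.mpr ?_))))
  show mT (cjt t (ap Da fa x)) d = mT d (ap Da fa (ap Da fa (cjt t x)))
  have hl1 : cjt t (ap Da fa x) < 192 := C.lt _ (C.lt t ht _ (hla _ hfx)) t ht
  refine C.inj _ (C.lt _ hl1 d hd) _ (C.lt d hd _ (hla _ hy2)) ?_
  rw [← C.mul _ hl1 d hd, ← C.mul d hd _ (hla _ hy2), ← hinv _ hy, ← hcjt (hla _ hfx), ← hcjt (hla _ hx), ← efx]
  have e1 : (T * ga * T) * (T * el L x * T) * (T * ga * T)⁻¹ = T * (ga * el L x * ga⁻¹) * T := by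
    calc _ = T * ga * (T * T) * el L x * (T * T⁻¹) * ga⁻¹ * T⁻¹ := by group
      _ = _ := by rw [hTT, hTi, hTT]; group
  rw [← e1, hTga]
  group

/-- Two fused classes: standard position, after a change of generators. -/
theorem exists_std (Lo : Loc10 z L) (h1 : IsConj z (el L 9)) (h2 : IsConj z (el L 166)) :
    ∃ L' g1 g2, Std10 z L' g1 g2 := by
  obtain ⟨g1, g2, f1, f2, hcom, M1, M2, hf1, hf2, A1, A2, hP⟩ := exists_commuting Lo h1 h2
  have C := Lo.cod
  obtain ⟨d1, d2, i1, i2⟩ := dlists_ok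
  simp only [List.all_eq_true, Nat.blt_eq] at d1 d2
  have h4 := four_ok
  simp only [Bool.and_eq_true, Nat.beq_eq] at h4
  obtain ⟨d, hd, -, hcond⟩ := exists_d Lo (fun i hi => nD_iff i1 hi) (fun i hi => nD_iff i2 hi) d1 d2
    (show 9 < 192 by norm_num) (show 166 < 192 by norm_num) (show 104 < 192 by norm_num)
    (Nat.eq_of_beq_eq_true t_ok.2.2.2.1) h4.1.1.2
    (List.all_eq_true.mp (List.all_eq_true.mp preD_ok.1 f1 hf1) f2 hf2) M1 hcom A1 A2
  have ho := List.all_eq_true.mp (List.all_eq_true.mp orbit_ok f1 hf1) f2 hf2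
  rw [hP, Bool.not_true, Bool.false_or, Bool.or_eq_true] at ho
  have hno : ¬ (nD1.all fun d => !(dCond nD1 nD2 f1 f2 104 d)) = true := fun h => by
    have := List.all_eq_true.mp h d hd
    rw [hcond] at this
    exact absurd this (by decide)
  obtain ⟨ns, hns, hm⟩ := List.any_eq_true.mp (ho.resolve_left hno)
  obtain ⟨i, hi, rfl⟩ := List.getElem_of_mem hns
  have hs := List.all_eq_true.mp sigF_ok i (List.mem_range.mpr hi)
  rw [List.getD_eq_getElem _ _ hi, Bool.and_eq_true, Bool.and_eq_true, Nat.beq_eq, Nat.beq_eq] at hs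
  obtain ⟨⟨hok, h9⟩, h166⟩ := hs
  obtain ⟨Lo', hel⟩ := Lo.map hok
  refine ⟨_, g1, g2, Lo', hcom, ⟨M1.g3, by rw [(hel 9).1, h9, M1.gz], by rw [(hel 9).1, h9, M1.ga]⟩,
    ⟨M2.g3, by rw [(hel 166).1, h166, M2.gz], by rw [(hel 166).1, h166, M2.ga]⟩, ?_, ?_⟩
  · simp only [matchB, Bool.and_eq_true, List.all_eq_true] at hm
    intro x hx
    have h := hm.1 x hx
    obtain ⟨u, hu, h⟩ := List.any_eq_true.mp h
    rw [Bool.and_eq_true, Nat.beq_eq] at h
    obtain ⟨rfl, h⟩ := h
    obtain ⟨v, hv, h⟩ := List.any_eq_true.mp h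
    rw [Bool.and_eq_true, Nat.beq_eq, Nat.beq_eq] at h
    obtain ⟨rfl, h⟩ := h
    refine ⟨hv, ?_⟩
    rw [(hel x).1, (A1 _ hu).2, h, (hel _).1]
  · simp only [matchB, Bool.and_eq_true, List.all_eq_true] at hm
    intro x hx
    have h := hm.2 x hx
    obtain ⟨u, hu, h⟩ := List.any_eq_true.mp h
    rw [Bool.and_eq_true, Nat.beq_eq] at h
    obtain ⟨rfl, h⟩ := h
    obtain ⟨v, hv, h⟩ := List.any_eq_true.mp h
    rw [Bool.and_eq_true, Nat.beq_eq, Nat.beq_eq] at h
    obtain ⟨rfl, h⟩ := h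
    refine ⟨hv, ?_⟩
    rw [(hel x).1, (A2 _ hu).2, h, (hel _).1]

namespace Std10

variable {g1 g2 : G} (S : Std10 z L g1 g2)

include S

/-- The two inverting involutions. -/
theorem invert : el L 104 * g1 * el L 104 * g1 = 1 ∧ el L 145 * g2 * el L 145 * g2 = 1 := by
  have C := S.loc.cod
  obtain ⟨d1, d2, i1, i2⟩ := dlists_ok
  simp only [List.all_eq_true, Nat.blt_eq] at d1 d2
  have h4 := four_ok
  simp only [Bool.and_eq_true, Nat.beq_eq] at h4
  constructor
  · obtain ⟨d, hd, he, hcond⟩ := exists_d S.loc (fun i hi => nD_iff i1 hi) (fun i hi => nD_iff i2 hi) d1 d2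
      (show 9 < 192 by norm_num) (show 166 < 192 by norm_num) (show 104 < 192 by norm_num)
      (Nat.eq_of_beq_eq_true t_ok.2.2.2.1) h4.1.1.2
      (List.all_eq_true.mp (List.all_eq_true.mp preD_ok.1 f10 (by decide +kernel)) f20 (by decide +kernel))
      S.mv1 S.comm S.act1 S.act2
    have h := List.all_eq_true.mp std_d.1 d hd
    rw [hcond, Bool.not_true, Bool.false_or, Nat.beq_eq] at h
    rw [he, h, C.one]
  · obtain ⟨d, hd, he, hcond⟩ := exists_d S.loc (fun i hi => nD_iff i2 hi) (fun i hi => nD_iff i1 hi) d2 d1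
      (show 166 < 192 by norm_num) (show 9 < 192 by norm_num) (show 145 < 192 by norm_num)
      (Nat.eq_of_beq_eq_true t_ok.2.2.2.2.1) h4.1.2
      preD_ok.2 S.mv2 S.comm.symm S.act2 S.act1
    have h := List.all_eq_true.mp std_d.2 d hd
    rw [hcond, Bool.not_true, Bool.false_or, Nat.beq_eq] at h
    rw [he, h, C.one]

/-- The third class is not fused. -/
theorem not_third : ¬ IsConj z (el L 160) := by
  intro hc
  obtain ⟨g3, hg3⟩ := mv3 S.loc hc
  obtain ⟨f3, -, -, R3, P3⟩ := good3_of S.loc hg3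
  obtain ⟨w, -, hw⟩ := List.any_eq_true.mp (List.all_eq_true.mp third_killed _ P3)
  have hR := r_ok
  simp only [List.all_eq_true, Bool.and_eq_true, List.contains_iff_mem] at hR
  have hr := restr_ok
  simp only [Bool.and_eq_true, List.all_eq_true, List.contains_iff_mem] at hr
  refine no_kill_T S.loc [g1, g2, g3] [rst nD1 f10, rst nD2 f20, rst nD3 f3] rfl (fun l hl => ?_) hw
  simp at hl
  interval_cases l
  · exact acts_rst S.act1 (hr.1.1 f10 (by decide +kernel))
  · exact acts_rst S.act2 (hr.1.2 f20 (by decide +kernel))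
  · exact R3

end Std10

end CfsgLib.C192.K10
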