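import Cfsg.Agent.C192.K10PairChecks

/-!
Two fused classes: a commuting pair of elements of order three in standard position.
-/

set_option autoImplicit false
set_option linter.unusedSectionVars false
set_option maxRecDepth 100000

namespace CfsgLib.C192.K10

open CfsgLib.Coset CfsgLib.Invol

variable {G : Type*} [Group G] [Finite G] {z : G} {L : List G}

theorem four_ok : (fourB mT 8 9 && fourB mT 8 166 && fourB mT 8 160 && invB mT 8 && invB mT 9 && invB mT 166 &&
    invB mT 160 && Nat.beq (mT 104 9) (mT (mT 8 9) 104) && Nat.beq (mT 145 166) (mT (mT 8 166) 145) &&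
    Nat.beq (mT 104 160) (mT (mT 8 160) 104)) = true := by decide +kernel

theorem nR_lt : ∀ x ∈ nR, x < 192 := by decide +kernel

/-- The subgroup nodes of the group of order 16 act by given permutations. -/
theorem acts_T (Lo : Loc10 z L) :
    ∀ q ∈ nT, Acts (el L) nR (el L q.1) q.2 := by
  intro q hq
  have h := base_ok
  simp only [Bool.and_eq_true, List.all_eq_true] at h
  have h' := h.2 q hq
  simp only [Nat.blt_eq] at h'
  exact acts_node Lo.cod nR_lt h'.1 (List.all_eq_true.mpr fun x hx => by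
    rw [Bool.and_eq_true]; exact h'.2 x hx)

theorem acts_rst {g : G} {D f : List Nat} (hA : Acts (el L) D g f)
    (hR : ∀ x ∈ nR, ap D f x ∈ nR ∧ x ∈ D) : Acts (el L) nR g (rst D f) := by
  intro x hx
  rw [show ap nR (rst D f) x = ap D f x from ap_map (ap D f) hx]
  exact ⟨(hR x hx).1, (hA x (hR x hx).2).2⟩

/-- A word killing a family of permutations gives a contradiction. -/
theorem no_kill_T (Lo : Loc10 z L) (es : List G) (ps : List (List Nat))
    (hes : es.length = ps.length) (hA : ∀ l < ps.length, Acts (el L) nR (es.getD l 1) (ps.getD l []))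
    {w : List Nat} (hk : killB nR (ps ++ psT) w = true) : False := by
  refine no_kill Lo.cod nR_lt (by decide) (es := es ++ nT.map fun q => el L q.1) ?_ ?_ hk
  · simp [psT, hes]
  · intro l hl
    by_cases h : l < ps.length
    · rw [List.getD_append _ _ _ _ (hes ▸ h), List.getD_append _ _ _ _ h]
      exact hA l h
    · rw [List.length_append] at hl
      have hl' : l - ps.length < nT.length := by simp [psT] at hl; omega
      rw [List.getD_append_right _ _ _ _ (by omega), List.getD_append_right _ _ _ _ (by omega), hes,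
        List.getD_eq_getElem _ _ (by simpa using hl'), List.getD_eq_getElem _ _ (by simpa [psT] using hl')]
      simp only [psT, List.getElem_map]
      exact acts_T Lo _ (List.getElem_mem _)

/-- The good actions from the classification. -/
theorem good_of (Lo : Loc10 z L) {a : Nat} {D gens : List Nat} {wrd good bad rgood : List (List Nat)}
    (hd : dataOK a D gens wrd = true) (hc : candOK a D gens wrd good bad nR = true)
    (hbad : ∀ p ∈ bad, p ∈ bad1 ++ bad2 ++ bad3) (hR : ∀ x ∈ nR, x ∈ D)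
    (hRb : (good.all fun f => nR.all fun x => nR.contains (ap D f x) && D.contains x) = true)
    (hrg : (good.all fun f => rgood.any fun p => p == rst D f) = true)
    (hbR : ∀ p ∈ bad, ∀ x ∈ nR, ap nR p x ∈ nR)
    {g : G} (hg : Mv (el L) z a g) :
    ∃ f, f ∈ good ∧ Acts (el L) D g f ∧ Acts (el L) nR g (rst D f) ∧ rst D f ∈ rgood := by
  obtain ⟨f, hA, hf | hf⟩ := classify Lo.cod hd hc hg
  · refine ⟨f, hf, hA, acts_rst hA fun x hx => ?_, ?_⟩
    · have := List.all_eq_true.mp (List.all_eq_true.mp hRb f hf) x hx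
      rw [Bool.and_eq_true, List.contains_iff_mem, List.contains_iff_mem] at this
      exact this
    · simpa using List.all_eq_true.mp hrg f hf
  · exfalso
    obtain ⟨w, -, hw⟩ := List.any_eq_true.mp (List.all_eq_true.mp bad_killed _ (hbad _ hf))
    refine no_kill_T Lo [g] [rst D f] rfl (fun l hl => ?_) hw
    simp at hl
    subst hl
    exact acts_rst hA fun x hx => ⟨by
      have := hbR _ hf x hx
      rwa [show ap nR (nR.map (ap D f)) x = ap D f x from ap_map (ap D f) hx] at this, hR x hx⟩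

theorem bad_in_R : ((bad1 ++ bad2 ++ bad3).all fun p => nR.all fun x => nR.contains (ap nR p x)) = true ∧
    (nR.all fun x => nD1.contains x && nD2.contains x && nD3.contains x) = true := by decide +kernel

theorem good1_of (Lo : Loc10 z L) {g : G} (hg : Mv (el L) z 9 g) :
    ∃ f, f ∈ good1 ∧ Acts (el L) nD1 g f ∧ Acts (el L) nR g (rst nD1 f) ∧ rst nD1 f ∈ rgood1 := by
  obtain ⟨b1, b2⟩ := bad_in_R
  simp only [List.all_eq_true, Bool.and_eq_true, List.contains_iff_mem] at b1 b2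
  have h := restr_ok
  rw [Bool.and_eq_true, Bool.and_eq_true] at h
  exact good_of Lo data1 cand1 (fun p hp => by simp [hp]) (fun x hx => (b2 x hx).1.1) h.1.1 rgood1_ok
    (fun p hp => b1 p (by simp [hp])) hg

theorem good2_of (Lo : Loc10 z L) {g : G} (hg : Mv (el L) z 166 g) :
    ∃ f, f ∈ good2 ∧ Acts (el L) nD2 g f ∧ Acts (el L) nR g (rst nD2 f) ∧ rst nD2 f ∈ rgood2 := by
  obtain ⟨b1, b2⟩ := bad_in_R
  simp only [List.all_eq_true, Bool.and_eq_true, List.contains_iff_mem] at b1 b2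
  have h := restr_ok
  rw [Bool.and_eq_true, Bool.and_eq_true] at h
  exact good_of Lo data2 cand2 (fun p hp => by simp [hp]) (fun x hx => (b2 x hx).1.2) h.1.2 rgood2_ok
    (fun p hp => b1 p (by simp [hp])) hg

theorem good3_of (Lo : Loc10 z L) {g : G} (hg : Mv (el L) z 160 g) :
    ∃ f, f ∈ good3 ∧ Acts (el L) nD3 g f ∧ Acts (el L) nR g (rst nD3 f) ∧ rst nD3 f ∈ rgood3 := by
  obtain ⟨b1, b2⟩ := bad_in_R
  simp only [List.all_eq_true, Bool.and_eq_true, List.contains_iff_mem] at b1 b2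
  have h := restr_ok
  rw [Bool.and_eq_true, Bool.and_eq_true] at h
  exact good_of Lo data3 cand3 (fun p hp => by simp [hp]) (fun x hx => (b2 x hx).2) h.2 rgood3_ok
    (fun p hp => b1 p (by simp [hp])) hg

theorem exists_mv (Lo : Loc10 z L) {a t : Nat} (ha : a < 192) (ht : t < 192) (h4 : fourB mT 8 a = true)
    (hta : mT t a = mT (mT 8 a) t) (hai : invB mT a = true) (hc : IsConj z (el L a)) : ∃ g, Mv (el L) z a g := by
  have h := four_ok
  simp only [Bool.and_eq_true] at h
  obtain ⟨g, h1, h2, h3⟩ := Lo.cod.exists_three ha ht h4 hta hai h.1.1.1.1.1.1.2 hc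
  exact ⟨g, h1, h2, h3⟩

theorem mv1 (Lo : Loc10 z L) (hc : IsConj z (el L 9)) : ∃ g, Mv (el L) z 9 g := by
  have h := four_ok
  simp only [Bool.and_eq_true, Nat.beq_eq] at h
  exact exists_mv Lo (t := 104) (by norm_num) (by norm_num) h.1.1.1.1.1.1.1.1.1 h.1.1.2 h.1.1.1.1.1.2 hc

theorem mv2 (Lo : Loc10 z L) (hc : IsConj z (el L 166)) : ∃ g, Mv (el L) z 166 g := by
  have h := four_ok
  simp only [Bool.and_eq_true, Nat.beq_eq] at h
  exact exists_mv Lo (t := 145) (by norm_num) (by norm_num) h.1.1.1.1.1.1.1.1.2 h.1.2 h.1.1.1.1.2 hc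

theorem mv3 (Lo : Loc10 z L) (hc : IsConj z (el L 160)) : ∃ g, Mv (el L) z 160 g := by
  have h := four_ok
  simp only [Bool.and_eq_true, Nat.beq_eq] at h
  exact exists_mv Lo (t := 104) (by norm_num) (by norm_num) h.1.1.1.1.1.1.1.2 h.2 h.1.1.1.2 hc

/-- Commuting elements of order three for two fused classes. -/
theorem exists_commuting (Lo : Loc10 z L) (h1 : IsConj z (el L 9)) (h2 : IsConj z (el L 166)) :
    ∃ g1 g2 : G, ∃ f1 f2, g1 * g2 = g2 * g1 ∧ Mv (el L) z 9 g1 ∧ Mv (el L) z 166 g2 ∧ f1 ∈ good1 ∧ f2 ∈ good2 ∧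
      Acts (el L) nD1 g1 f1 ∧ Acts (el L) nD2 g2 f2 ∧ comP (rst nD1 f1) (rst nD2 f2) = true := by
  have C := Lo.cod
  obtain ⟨g1, hg1⟩ := mv1 Lo h1
  obtain ⟨g2, hg2⟩ := mv2 Lo h2
  obtain ⟨f1, hf1, A1, R1, P1⟩ := good1_of Lo hg1
  obtain ⟨f2, hf2, A2, R2, P2⟩ := good2_of Lo hg2
  set p := rst nD1 f1
  set q := rst nD2 f2
  have hcom : ∀ {a b}, a ∈ rgood1 → b ∈ rgood2 → ∀ {u v : G}, Acts (el L) nR u a → Acts (el L) nR v b →
      comP a b = true := by
    intro a b ha hb u v Au Av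
    by_contra hne
    have hk := List.all_eq_true.mp (List.all_eq_true.mp pair_killed a ha) b hb
    rw [Bool.or_eq_true] at hk
    refine no_kill_T Lo [u, v] [a, b] rfl (fun l hl => ?_) (hk.resolve_left hne)
    simp at hl
    interval_cases l
    exacts [Au, Av]
  have hpq : comP p q = true := hcom P1 P2 R1 R2
  set c := g1 * g2 * g1⁻¹ * g2⁻¹
  have hR := r_ok
  simp only [List.all_eq_true, Bool.and_eq_true, Nat.beq_eq, List.contains_iff_mem] at hR
  have hpq' : ∀ x ∈ nR, ap nR p (ap nR q x) = ap nR q (ap nR p x) := by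
    intro x hx
    have h0 := thru_elim (thru_elim (List.all_eq_true.mp hpq x hx))
    exact Nat.eq_of_beq_eq_true h0
  have hcR : ∀ x ∈ nR, c * el L x = el L x * c := by
    intro x hx
    obtain ⟨hy1, e1⟩ := R2 x hx
    obtain ⟨hy2, e2⟩ := R2 _ hy1
    obtain ⟨hy3, e3⟩ := R1 _ hy2
    obtain ⟨hy4, e4⟩ := R1 _ hy3
    set y := ap nR p (ap nR p (ap nR q (ap nR q x)))
    have hy : y ∈ nR := hy4
    have hye : g2 * g1 * el L y * (g2 * g1)⁻¹ = el L x := by
      rw [← e4, ← e3, ← e2, ← e1]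
      calc _ = g2 * (g1 ^ 3 * (g2 * (g2 * el L x * g2⁻¹) * g2⁻¹) * (g1 ^ 3)⁻¹) * g2⁻¹ := by
            simp only [pow_succ, pow_zero, one_mul]; group
        _ = g2 ^ 3 * el L x * (g2 ^ 3)⁻¹ := by
            rw [hg1.g3, one_mul, inv_one, mul_one]; simp only [pow_succ, pow_zero, one_mul]; group
        _ = el L x := by rw [hg2.g3, one_mul, inv_one, mul_one]
    have ey : g1 * g2 * el L y * (g1 * g2)⁻¹ = el L x := by
      rw [← hye]
      calc _ = g1 * (g2 * el L y * g2⁻¹) * g1⁻¹ := by group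
        _ = g2 * (g1 * el L y * g1⁻¹) * g2⁻¹ := by
          rw [(R2 y hy).2, (R1 _ (R2 y hy).1).2, (R1 y hy).2, (R2 _ (R1 y hy).1).2, hpq' y hy]
        _ = _ := by group
    calc c * el L x = (g1 * g2) * (g2 * g1)⁻¹ * (g2 * g1 * el L y * (g2 * g1)⁻¹) := by rw [hye]; simp only [c]; group
      _ = (g1 * g2 * el L y * (g1 * g2)⁻¹) * c := by simp only [c]; group
      _ = el L x * c := by rw [ey]
  obtain ⟨h, hh, hce⟩ := C.surj c (by rw [C.zeq]; exact hcR 8 (by decide))
  have hhR : h ∈ nR := by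
    have := List.all_eq_true.mp centR_ok h (List.mem_range.mpr hh)
    rw [Bool.or_eq_true, Bool.not_eq_true', ← Bool.not_eq_true, List.contains_iff_mem] at this
    refine this.resolve_left fun hn => hn (List.all_eq_true.mpr fun x hx => ?_)
    exact (C.comm_iff hh (nR_lt x hx)).mp (hce ▸ hcR x hx)
  obtain ⟨x, hx, hxe⟩ := List.any_eq_true.mp (List.all_eq_true.mp
    (List.all_eq_true.mp (List.all_eq_true.mp shift_ok p P1) q P2) h hhR)
  have hxq := thru_elim (thru_elim hxe)
  rw [Nat.beq_eq] at hxq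
  have hxlt := nR_lt x hx
  obtain ⟨⟨⟨⟨hxx, hx9⟩, hx166⟩, hxD1⟩, hxD2⟩ := hR x hx
  have exx : el L x * el L x = 1 := by rw [C.mul x hxlt x hxlt, hxx, C.one]
  have exi : (el L x)⁻¹ = el L x := inv_eq_of_mul_eq_one_right exx
  set g2' := g2 * el L x
  have hpx := (R1 x hx).1
  have hcomm : g1 * g2' = g2' * g1 := by
    have hu : mT (ap nR p x) x ∈ nR := by
      have h1 := thru_elim hxe
      obtain ⟨v, hv, hv'⟩ := List.any_eq_true.mp h1
      rw [Bool.and_eq_true, Nat.beq_eq] at hv'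
      rwa [hv'.1]
    have e : g1 * g2' * g1⁻¹ * g2'⁻¹ = el L h * (g2 * (g1 * el L x * g1⁻¹ * el L x) * g2⁻¹) := by
      rw [← hce]
      simp only [g2', c, mul_inv_rev, exi]
      group
    rw [(R1 x hx).2, C.mul _ (nR_lt _ hpx) x hxlt, (R2 _ hu).2, hxq, C.mul h hh h hh, (hR h hhR).1.1.1.1, C.one] at e
    calc g1 * g2' = g1 * g2' * g1⁻¹ * g2'⁻¹ * (g2' * g1) := by group
      _ = g2' * g1 := by rw [e, one_mul]
  have hg2' : Mv (el L) z 166 g2' := by
    refine ⟨?_, ?_, ?_⟩
    · have hq2 : ap nR q x ∈ nR := (R2 x hx).1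
      have h0 := thru_elim (thru_elim (List.all_eq_true.mp (List.all_eq_true.mp cube_ok q P2) x hx))
      rw [Nat.beq_eq] at h0
      have hlt1 := nR_lt _ hq2
      have hlt2 := nR_lt _ (R2 _ hq2).1
      calc g2' ^ 3 = (g2 * el L x * g2⁻¹) * (g2 * (g2 * el L x * g2⁻¹) * g2⁻¹) * (g2 ^ 3 * el L x * (g2 ^ 3)⁻¹) * g2 ^ 3 := by
            simp only [g2', pow_succ, pow_zero, one_mul]; group
        _ = 1 := by
          rw [(R2 x hx).2, (R2 _ hq2).2, hg2.g3, one_mul, inv_one, mul_one, mul_one, C.mul _ hlt1 _ hlt2,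
            C.mul _ (C.lt _ hlt1 _ hlt2) x hxlt, h0, C.one]
    · calc g2' * z * g2'⁻¹ = g2 * (el L x * z * (el L x)⁻¹) * g2⁻¹ := by simp only [g2']; group
        _ = el L 166 := by rw [C.mem x, mul_inv_cancel_right, hg2.gz]
    · calc g2' * el L 166 * g2'⁻¹ = g2 * (el L x * el L 166 * (el L x)⁻¹) * g2⁻¹ := by simp only [g2']; group
        _ = z * el L 166 := by rw [C.comm_of hxlt (by norm_num) hx166, mul_inv_cancel_right, hg2.ga]
  obtain ⟨f2', hf2', A2', R2', P2'⟩ := good2_of Lo hg2'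
  exact ⟨g1, g2', f1, f2', hcomm, hg1, hg2', hf1, hf2', A1, A2', hcom P1 P2' R1 R2'⟩

end CfsgLib.C192.K10
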