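import Cfsg.Agent.Coset.Prim

/-! Letters and relators for the four possible centralizers of order 192. -/

set_option autoImplicit false

namespace CfsgLib.C192

/-- Letters: two quaternion elements, an element of order three, an element inverting it, with inverses. -/
def ivC (x : Nat) : Nat := ([1, 0, 3, 2, 5, 4, 7, 6] : List Nat).getD x x

/-- The relators of the four centralizers, by type. -/
def relsC (sw sq : Bool) : List (List Nat) :=
  [[0, 1], [1, 0], [2, 3], [3, 2], [4, 5], [5, 4], [6, 7], [7, 6], [0, 0, 0, 0], [0, 0, 3, 3], [4, 4, 4],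
   [0, 4, 0, 5, 4, 4, 1, 5, 5], [2, 4, 2, 5, 4, 4, 3, 5, 5], [0, 2, 1, 3], [0, 4, 2, 5, 1, 4, 3, 5],
   [4, 0, 5, 2, 4, 1, 5, 3], [0, 0, 4, 1, 1, 5], [6, 4, 7, 4],
   if sq then [6, 6, 1, 1] else [6, 6],
   if sw then [6, 0, 7, 2] else [6, 0, 7, 0], if sw then [6, 2, 7, 0] else [6, 2, 7, 2]]

end CfsgLib.C192
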