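import Cfsg.Agent.C192.Eight
import Cfsg.Agent.M12U.Tools
import Cfsg.Agent.Invol.CoreOddEmbedded
import Cfsg.Agent.Recog3222.Small
import Mathlib.GroupTheory.GroupAction.Quotient
import Mathlib.GroupTheory.SpecificGroups.Alternating.Simple

/-!
Groups with a subgroup `Alt(8)` containing the centralizer of an involution without fixed points,
whose two involution classes do not fuse.
-/

set_option autoImplicit false
set_option linter.style.haveILetI false
set_option linter.unusedSectionVars false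
set_option maxRecDepth 100000

namespace CfsgLib.C192

open Eight CfsgLib.Invol

local notation "A8" => alternatingGroup (Fin 8)

theorem neA {x y : A8} (h : eqP (x : Equiv.Perm (Fin 8)) y = false) : x ≠ y := fun e => by
  rw [eqA_iff.mpr e] at h
  exact absurd h (by decide)

theorem fpf_one : fpf (1 : Equiv.Perm (Fin 8)) = false := by decide +kernel

theorem ne_one_of_fpf {p : A8} (h : fpf (p : Equiv.Perm (Fin 8)) = true) : p ≠ 1 := fun e => by
  rw [e, Subgroup.coe_one, fpf_one] at h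
  exact absurd h (by decide)

theorem z_facts : aZ * aZ = 1 ∧ aZ ≠ 1 ∧ fpf (aZ : Equiv.Perm (Fin 8)) = true ∧ aT ≠ 1 ∧
    fpf (aT : Equiv.Perm (Fin 8)) = false ∧ aZ * aT = aT * aZ ∧ aT * aA ≠ aT ∧ aA ≠ 1 ∧ aA ≠ aT ∧ aT * aA ≠ 1 ∧
    aT * aA * (aT * aA) = 1 ∧ ¬ fpf ((aT * aA : A8) : Equiv.Perm (Fin 8)) = true ∧ aZ * aA = aA * aZ ∧
    aA * aU * (aA * aU) = 1 ∧ aT * (aA * aU) * (aT * (aA * aU)) = 1 ∧ aA * aU * aT = aT * (aA * aU) ∧
    aT * aU * (aT * aU) = 1 :=
  ⟨eqA_iff.mp (by decide +kernel), neA (by decide +kernel), by decide +kernel, neA (by decide +kernel),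
    by decide +kernel, cmA_iff.mp (by decide +kernel), neA (by decide +kernel), neA (by decide +kernel),
    neA (by decide +kernel), neA (by decide +kernel), eqA_iff.mp (by decide +kernel), by decide +kernel,
    cmA_iff.mp (by decide +kernel), eqA_iff.mp (by decide +kernel), eqA_iff.mp (by decide +kernel),
    cmA_iff.mp (by decide +kernel), eqA_iff.mp (by decide +kernel)⟩

/-- The hypothesis: an embedded `Alt(8)`. -/
structure NineHyp {G : Type*} [Group G] (ψ : A8 →* G) : Prop where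
  inj : Function.Injective ψ
  cent : ∀ x, x * ψ aZ = ψ aZ * x → x ∈ ψ.range
  nc : ¬ IsConj (ψ aZ) (ψ aT)

/-- An involutive permutation of a finite set with exactly one fixed point. -/
theorem odd_of_one_fixed {α : Type*} [Finite α] (f : α → α) (hf : ∀ x, f (f x) = x) (x₀ : α) (h0 : f x₀ = x₀)
    (hu : ∀ x, f x = x → x = x₀) : Odd (Nat.card α) := by
  classical
  haveI := Fintype.ofFinite α
  haveI : Fact (Nat.Prime 2) := ⟨Nat.prime_two⟩
  have h := Equiv.Perm.card_fixedPoints_modEq (α := α) (f := (f : Function.End α)) (p := 2) (n := 1)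
    (by
      let g : Function.End α := f
      show g ^ 2 ^ 1 = 1
      rw [pow_one, pow_two]
      exact funext hf)
  have h1 : Fintype.card (Function.fixedPoints (f : Function.End α)) = 1 := by
    rw [Fintype.card_eq_one_iff]
    exact ⟨⟨x₀, h0⟩, fun y => Subtype.ext (hu _ y.2)⟩
  rw [Nat.card_eq_fintype_card, Nat.odd_iff]
  rw [h1] at h
  exact h

namespace NineHyp

variable {G : Type*} [Group G] [Finite G] {ψ : A8 →* G} (N : NineHyp ψ)

include N

theorem sq_of {p : A8} {g : G} (h : g = ψ p) (hg : g * g = 1) : p * p = 1 :=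
  N.inj (by rw [map_mul, ← h, hg, map_one])

theorem class_of {p : A8} (hp : p * p = 1) (h1 : p ≠ 1) :
    (fpf (p : Equiv.Perm (Fin 8)) = true ∧ ∃ k : A8, k * aZ * k⁻¹ = p) ∨
      (¬ fpf (p : Equiv.Perm (Fin 8)) = true ∧ ∃ k : A8, k * aT * k⁻¹ = p) := by
  have cl : ∀ {x : A8}, x * x = 1 → x ≠ 1 → ∀ {y : A8}, y * y = 1 → y ≠ 1 →
      (fpf (x : Equiv.Perm (Fin 8)) = fpf (y : Equiv.Perm (Fin 8))) → ∃ k : A8, k * y * k⁻¹ = x := by
    intro x hx hx1 y hy hy1 he
    have key : ∃ w : A8, ∃ a b : A8, a * x * a⁻¹ = w ∧ b * y * b⁻¹ = w := by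
      rcases ThreeLocalEight.invol_class x hx hx1 with ⟨⟨i, hi⟩, a, ha⟩ | ⟨hn, a, ha⟩ <;>
        rcases ThreeLocalEight.invol_class y hy hy1 with ⟨⟨j, hj⟩, b, hb⟩ | ⟨hm, b, hb⟩
      · exact ⟨_, a, b, ha, hb⟩
      · exact absurd hi ((fpf_iff _).mp (he.trans ((fpf_iff _).mpr hm)) i)
      · exact absurd hj ((fpf_iff _).mp (he.symm.trans ((fpf_iff _).mpr hn)) j)
      · exact ⟨_, a, b, ha, hb⟩
    obtain ⟨w, a, b, ha, hb⟩ := key
    refine ⟨a⁻¹ * b, ?_⟩
    rw [show a⁻¹ * b * y * (a⁻¹ * b)⁻¹ = a⁻¹ * (b * y * b⁻¹) * a by group, hb, ← ha]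
    group
  by_cases hf : fpf (p : Equiv.Perm (Fin 8)) = true
  · exact Or.inl ⟨hf, cl hp h1 z_facts.1 z_facts.2.1 (hf.trans z_facts.2.2.1.symm)⟩
  · refine Or.inr ⟨hf, cl hp h1 base_facts.1 z_facts.2.2.2.1 ?_⟩
    rw [Bool.not_eq_true] at hf
    exact hf.trans z_facts.2.2.2.2.1.symm

theorem zconj {p : A8} (hp : p * p = 1) (hf : fpf (p : Equiv.Perm (Fin 8)) = true) : IsConj (ψ aZ) (ψ p) := by
  have h1 : p ≠ 1 := ne_one_of_fpf hf
  rcases N.class_of hp h1 with ⟨-, k, hk⟩ | ⟨h, -⟩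
  · exact isConj_iff.mpr ⟨ψ k, by rw [← map_inv, ← map_mul, ← map_mul, hk]⟩
  · exact absurd hf h

theorem tconj {p : A8} (hp : p * p = 1) (h1 : p ≠ 1) (hf : ¬ fpf (p : Equiv.Perm (Fin 8)) = true) :
    IsConj (ψ aT) (ψ p) := by
  rcases N.class_of hp h1 with ⟨h, -⟩ | ⟨-, k, hk⟩
  · exact absurd h hf
  · exact isConj_iff.mpr ⟨ψ k, by rw [← map_inv, ← map_mul, ← map_mul, hk]⟩

theorem ne_conj {p q : A8} (hp : p * p = 1) (hf : fpf (p : Equiv.Perm (Fin 8)) = true) (hq : q * q = 1)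
    (hg : ¬ fpf (q : Equiv.Perm (Fin 8)) = true) : ¬ IsConj (ψ p) (ψ q) := by
  intro h
  by_cases h1 : q = 1
  · rw [h1, map_one, isConj_one_left] at h
    exact absurd (N.inj (h.trans (map_one ψ).symm)) (ne_one_of_fpf hf)
  · exact N.nc ((N.zconj hp hf).trans (h.trans (N.tconj hq h1 hg).symm))

theorem centF {p : A8} (hp : p * p = 1) (hf : fpf (p : Equiv.Perm (Fin 8)) = true) {x : G}
    (hx : x * ψ p = ψ p * x) : x ∈ ψ.range := by
  have h1 : p ≠ 1 := ne_one_of_fpf hf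
  rcases N.class_of hp h1 with ⟨-, k, hk⟩ | ⟨h, -⟩
  · have := N.cent ((ψ k)⁻¹ * x * ψ k) (by
      rw [← hk, map_mul, map_mul, map_inv] at hx
      calc (ψ k)⁻¹ * x * ψ k * ψ aZ = (ψ k)⁻¹ * (x * (ψ k * ψ aZ * (ψ k)⁻¹)) * ψ k := by group
        _ = (ψ k)⁻¹ * (ψ k * ψ aZ * (ψ k)⁻¹ * x) * ψ k := by rw [hx]
        _ = _ := by group)
    have h2 := mul_mem (mul_mem (MonoidHom.mem_range.mpr ⟨k, rfl⟩) this) (inv_mem (MonoidHom.mem_range.mpr ⟨k, rfl⟩))
    simpa [mul_assoc] using h2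
  · exact absurd hf h

omit N

theorem smul_base (g : G) : g • ((1 : G) : G ⧸ ψ.range) = (g : G ⧸ ψ.range) := by
  show ((g * 1 : G) : G ⧸ ψ.range) = _
  rw [mul_one]

theorem fix_base {g : G} : g • ((1 : G) : G ⧸ ψ.range) = ((1 : G) : G ⧸ ψ.range) ↔ g ∈ ψ.range := by
  rw [smul_base, QuotientGroup.eq]
  simp

theorem fix_coe {g x : G} : g • (x : G ⧸ ψ.range) = (x : G ⧸ ψ.range) ↔ x⁻¹ * g * x ∈ ψ.range := by
  show ((g * x : G) : G ⧸ ψ.range) = _ ↔ _
  rw [eq_comm, QuotientGroup.eq, ← mul_assoc]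

include N

theorem fix_unique {p : A8} (hp : p * p = 1) (hf : fpf (p : Equiv.Perm (Fin 8)) = true) {X : G ⧸ ψ.range}
    (hX : ψ p • X = X) : X = ((1 : G) : G ⧸ ψ.range) := by
  induction X using QuotientGroup.induction_on with
  | _ x =>
    obtain ⟨q, hq⟩ := fix_coe.mp hX
    have hqq : q * q = 1 := N.sq_of hq.symm (by
      rw [show x⁻¹ * ψ p * x * (x⁻¹ * ψ p * x) = x⁻¹ * (ψ p * ψ p) * x by group, ← map_mul, hp, map_one, mul_one,
        inv_mul_cancel])
    have hconj : IsConj (ψ p) (ψ q) := isConj_iff.mpr ⟨x⁻¹, by rw [hq, inv_inv]⟩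
    have hqf : fpf (q : Equiv.Perm (Fin 8)) = true := by
      by_contra h
      exact N.ne_conj hp hf hqq h hconj
    obtain ⟨y, hy⟩ := isConj_iff.mp ((N.zconj hp hf).symm.trans (N.zconj hqq hqf))
    have h1 : p ≠ 1 := ne_one_of_fpf hf
    have hq1 : q ≠ 1 := ne_one_of_fpf hqf
    obtain ⟨k, hk⟩ : ∃ k : A8, k * p * k⁻¹ = q := by
      rcases N.class_of hp h1 with ⟨-, a, ha⟩ | ⟨h, -⟩
      · rcases N.class_of hqq hq1 with ⟨-, b, hb⟩ | ⟨h, -⟩
        · exact ⟨b * a⁻¹, by rw [← ha, ← hb]; group⟩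
        · exact absurd hqf h
      · exact absurd hf h
    have hxk : x * ψ k ∈ ψ.range := N.centF hp hf (by
      have e : ψ k * ψ p * (ψ k)⁻¹ = x⁻¹ * ψ p * x := by rw [← hq, ← hk, map_mul, map_mul, map_inv]
      calc x * ψ k * ψ p = x * (ψ k * ψ p * (ψ k)⁻¹) * ψ k := by group
        _ = ψ p * (x * ψ k) := by rw [e]; group)
    have : x ∈ ψ.range := by
      have := mul_mem hxk (inv_mem (MonoidHom.mem_range.mpr ⟨k, rfl⟩ : ψ k ∈ ψ.range))
      simpa using this
    rw [← smul_base, fix_base]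
    exact this

/-- A subgroup containing an involution without fixed points has order an odd multiple of its part in the image. -/
theorem card_sub (Y : Subgroup G) {p : A8} (hp : p * p = 1) (hf : fpf (p : Equiv.Perm (Fin 8)) = true)
    (hpY : ψ p ∈ Y) : ∃ d, Odd d ∧ Nat.card Y = Nat.card {x : A8 // ψ x ∈ Y} * d ∧
      d = Nat.card (MulAction.orbit Y ((1 : G) : G ⧸ ψ.range)) := by
  classical
  set P : G ⧸ ψ.range := ((1 : G) : G ⧸ ψ.range)
  refine ⟨_, ?_, ?_, rfl⟩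
  · refine odd_of_one_fixed (fun o => (⟨ψ p, hpY⟩ : Y) • o) (fun o => ?_) ⟨P, MulAction.mem_orbit_self _⟩ ?_ ?_
    · rw [← mul_smul, show (⟨ψ p, hpY⟩ : Y) * ⟨ψ p, hpY⟩ = 1 from
        Subtype.ext (show ψ p * ψ p = 1 by rw [← map_mul, hp, map_one]), one_smul]
    · exact Subtype.ext (fix_base.mpr ⟨p, rfl⟩)
    · intro o ho
      exact Subtype.ext (N.fix_unique hp hf (congrArg Subtype.val ho))
  · haveI := Fintype.ofFinite Y
    haveI := Fintype.ofFinite (MulAction.orbit Y P)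
    haveI := Fintype.ofFinite (MulAction.stabilizer Y P)
    have h := MulAction.card_orbit_mul_card_stabilizer_eq_card_group Y P
    rw [Fintype.card_eq_nat_card, Fintype.card_eq_nat_card, Fintype.card_eq_nat_card] at h
    rw [← h, mul_comm]
    congr 1
    refine (Nat.card_congr (Equiv.ofBijective
      (fun x : {x : A8 // ψ x ∈ Y} => (⟨⟨ψ x, x.2⟩, fix_base.mpr ⟨x, rfl⟩⟩ : MulAction.stabilizer Y P)) ⟨?_, ?_⟩)).symm
    · intro x y h
      exact Subtype.ext (N.inj (congrArg (fun s : MulAction.stabilizer Y P => ((s : Y) : G)) h))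
    · rintro ⟨⟨g, hg⟩, hs⟩
      obtain ⟨x, rfl⟩ := fix_base.mp (hs : g • P = P)
      exact ⟨⟨x, hg⟩, rfl⟩

theorem tt : ψ aT * ψ aT = 1 := by rw [← map_mul, base_facts.1, map_one]

theorem comm_iff {x y : A8} : ψ x * ψ y = ψ y * ψ x ↔ x * y = y * x := by
  rw [← map_mul, ← map_mul]
  exact N.inj.eq_iff

theorem ct_of {x : A8} (hx : ψ x * ψ aT = ψ aT * ψ x) : (x : Equiv.Perm (Fin 8)) ∈ CT :=
  mem_ct (N.comm_iff.mp hx)

theorem card_K : ∃ m, Odd m ∧ Nat.card (Subgroup.centralizer ({ψ aT} : Set G)) = 96 * m := by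
  obtain ⟨d, hd, h, -⟩ := N.card_sub (Subgroup.centralizer ({ψ aT} : Set G)) (p := aZ) z_facts.1
    z_facts.2.2.1 (Subgroup.mem_centralizer_singleton_iff.mpr (N.comm_iff.mpr z_facts.2.2.2.2.2.1))
  refine ⟨d, hd, ?_⟩
  rw [h, ← card_all, ← card_cent (fun _ => True) (fun _ => true) (fun _ => by simp)]
  congr 1
  exact Nat.card_congr (Equiv.subtypeEquivRight fun x => by
    rw [Subgroup.mem_centralizer_singleton_iff, N.comm_iff]; simp)

/-- The order of the centralizer of the pair formed by `aT` and a further involution. -/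
theorem card_pair {b : A8} {y : A8} (_hbT : b * aT = aT * b) (hyT : y * aT = aT * y) (hyb : y * b = b * y)
    (hy : y * y = 1) (hyf : fpf (y : Equiv.Perm (Fin 8)) = true) :
    ∃ d, Odd d ∧ Nat.card (Subgroup.centralizer ({ψ aT, ψ b} : Set G)) =
      (CT.filter fun p => cmP p b).length * d := by
  have hmem : ∀ x : A8, ψ x ∈ Subgroup.centralizer ({ψ aT, ψ b} : Set G) ↔
      x * aT = aT * x ∧ x * b = b * x := fun x => by
    rw [Subgroup.mem_centralizer_iff]
    simp only [Set.mem_insert_iff, Set.mem_singleton_iff, forall_eq_or_imp, forall_eq, N.comm_iff]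
    exact ⟨fun h => ⟨h.1.symm, h.2.symm⟩, fun h => ⟨h.1.symm, h.2.symm⟩⟩
  obtain ⟨d, hd, h, -⟩ := N.card_sub _ hy hyf ((hmem y).mpr ⟨hyT, hyb⟩)
  refine ⟨d, hd, ?_⟩
  rw [h, ← card_cent (fun x => x * b = b * x) (fun p => cmP p b) (fun x => cmA_iff.symm)]
  congr 1
  exact Nat.card_congr (Equiv.subtypeEquivRight hmem)

set_option maxHeartbeats 1000000 in
/-- The four group of `aA` is normal in the centralizer of `aT`. -/
theorem conj_four (k : G) (hk : k * ψ aT = ψ aT * k) :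
    k * ψ aA * k⁻¹ = ψ aA ∨ k * ψ aA * k⁻¹ = ψ aT * ψ aA := by
  classical
  haveI : Fact (Nat.Prime 2) := ⟨Nat.prime_two⟩
  set K := Subgroup.centralizer ({ψ aT} : Set G)
  have inK : ∀ {x : A8}, x * aT = aT * x → ψ x ∈ K := fun h =>
    Subgroup.mem_centralizer_singleton_iff.mpr (N.comm_iff.mpr h)
  obtain ⟨hT2, hA2, hU2, hAT, hUT, hCT, hET, hEA, hHT, fTU, fAU, fTAU, fU, fA⟩ := base_facts
  let tK : K := ⟨ψ aT, inK rfl⟩
  let T0 : Subgroup K := Subgroup.zpowers tK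
  have htc : ∀ x : K, x * tK = tK * x := fun x =>
    Subtype.ext (Subgroup.mem_centralizer_singleton_iff.mp x.2)
  haveI hT0 : T0.Normal := ⟨fun n hn g => by
    obtain ⟨i, rfl⟩ := Subgroup.mem_zpowers_iff.mp hn
    rw [((show Commute g tK from htc g).zpow_right i).eq, mul_inv_cancel_right]
    exact hn⟩
  have htK2 : tK * tK = 1 := Subtype.ext N.tt
  have hmemT0 : ∀ {x : K}, x ∈ T0 → (x : G) = 1 ∨ (x : G) = ψ aT := by
    intro x hx
    obtain ⟨i, rfl⟩ := Subgroup.mem_zpowers_iff.mp hx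
    rcases Int.even_or_odd i with ⟨l, rfl⟩ | ⟨l, rfl⟩
    · left; rw [← two_mul, zpow_mul]; norm_cast; rw [pow_two, htK2, one_zpow]
    · right; rw [zpow_add, zpow_mul]; norm_cast; rw [pow_two, htK2, one_zpow, one_mul, pow_one]
  set π := QuotientGroup.mk' T0
  have hπ : ∀ {x y : K}, π x = π y → (y : G) = x ∨ (y : G) = x * ψ aT := by
    intro x y h
    rcases hmemT0 (QuotientGroup.eq.mp h) with h | h
    · left
      rw [Subgroup.coe_mul, Subgroup.coe_inv, inv_mul_eq_one] at h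
      exact h.symm
    · right
      rw [Subgroup.coe_mul, Subgroup.coe_inv, inv_mul_eq_iff_eq_mul] at h
      exact h
  -- the Sylow subgroup inside the image
  let S : Subgroup K := (Subgroup.centralizer ({ψ aZ} : Set G)).subgroupOf K
  have hScard : Nat.card S = 32 := by
    rw [← card_z, ← card_cent (fun x => x * aZ = aZ * x) (fun p => cmP p (pT * pU))
      (fun x => (cmA_iff (y := aZ)).symm)]
    have hm : ∀ x : A8, x * aT = aT * x ∧ x * aZ = aZ * x → ∃ h : ψ x ∈ K, (⟨ψ x, h⟩ : K) ∈ S := fun x hx =>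
      ⟨inK hx.1, Subgroup.mem_subgroupOf.mpr (Subgroup.mem_centralizer_singleton_iff.mpr (N.comm_iff.mpr hx.2))⟩
    refine (Nat.card_congr (Equiv.ofBijective
      (fun x : {x : A8 // x * aT = aT * x ∧ x * aZ = aZ * x} => (⟨⟨ψ x, (hm x x.2).1⟩, (hm x x.2).2⟩ : S)) ⟨?_, ?_⟩)).symm
    · intro x y h
      exact Subtype.ext (N.inj (congrArg (fun s : S => ((s : K) : G)) h))
    · rintro ⟨⟨g, hg⟩, hs⟩
      have hgz := Subgroup.mem_centralizer_singleton_iff.mp (Subgroup.mem_subgroupOf.mp hs)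
      obtain ⟨x, rfl⟩ := N.cent g hgz
      exact ⟨⟨x, N.comm_iff.mp (Subgroup.mem_centralizer_singleton_iff.mp hg), N.comm_iff.mp hgz⟩, rfl⟩
  obtain ⟨m, hm, hKcard⟩ := N.card_K
  have hfac : (Nat.card K).factorization 2 = 5 := by
    rw [hKcard, show 96 * m = 2 ^ 5 * (3 * m) by ring,
      Nat.factorization_mul (by norm_num) (by have := hm.pos; omega), Finsupp.add_apply,
      Nat.prime_two.factorization_pow, Finsupp.single_eq_same,
      Nat.factorization_eq_zero_of_not_dvd (fun h => by rw [Nat.odd_iff] at hm; omega)]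
  let PS : Sylow 2 K := Sylow.ofCard S (by rw [hScard, hfac]; rfl)
  let PQ : Sylow 2 (K ⧸ T0) := PS.mapSurjective (QuotientGroup.mk'_surjective T0)
  let aK : K := ⟨ψ aA, inK hAT⟩
  have hu : orderOf (π aK) = 2 := by
    refine orderOf_eq_prime (by
      rw [← map_pow, pow_two, show aK * aK = 1 from Subtype.ext (show ψ aA * ψ aA = 1 by rw [← map_mul, hA2, map_one]),
        map_one]) ?_
    intro h
    rcases hπ (h.trans (map_one π).symm).symm with e | e
    · rw [Subgroup.coe_one] at e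
      exact absurd (N.inj (e.trans (map_one ψ).symm)) z_facts.2.2.2.2.2.2.2.1
    · rw [Subgroup.coe_one, one_mul] at e
      exact absurd (N.inj e) z_facts.2.2.2.2.2.2.2.2.1
  obtain ⟨M, hMn, hModd, hMc⟩ := CfsgLib.ZStar.zstar_of_sylow PQ hu fun g hg => by
    obtain ⟨g, rfl⟩ := QuotientGroup.mk'_surjective T0 g
    rw [← map_inv, ← map_mul, ← map_mul] at hg ⊢
    have hS : g * aK * g⁻¹ ∈ S := by
      obtain ⟨s, hs, hse⟩ := hg
      rcases hπ (show π s = π (g * aK * g⁻¹) from hse) with e | e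
      · exact (Subtype.ext e : g * aK * g⁻¹ = s) ▸ hs
      · rw [show g * aK * g⁻¹ = s * tK from Subtype.ext e]
        exact mul_mem hs (Subgroup.mem_subgroupOf.mpr (Subgroup.mem_centralizer_singleton_iff.mpr
          (N.comm_iff.mpr z_facts.2.2.2.2.2.1.symm)))
    have hSz := Subgroup.mem_centralizer_singleton_iff.mp (Subgroup.mem_subgroupOf.mp hS)
    obtain ⟨b, hb⟩ := N.cent _ hSz
    have hb' : (g : G) * ψ aA * (g : G)⁻¹ = ψ b := hb.symm
    have hgT : (g : G) * ψ aT * (g : G)⁻¹ = ψ aT :=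
      mul_inv_eq_iff_eq_mul.mpr (Subgroup.mem_centralizer_singleton_iff.mp g.2)
    have hbb : b * b = 1 := N.sq_of hb' (by
      show (g : G) * ψ aA * (g : G)⁻¹ * ((g : G) * ψ aA * (g : G)⁻¹) = 1
      rw [conj_mul, ← map_mul, hA2, map_one, mul_one, mul_inv_cancel])
    have hbT : b * aT = aT * b := N.comm_iff.mp (by
      rw [← hb']
      conv_lhs => rw [← hgT, conj_mul, N.comm_iff.mpr hAT, ← conj_mul, hgT])
    have hb1 : b ≠ 1 := fun e => by
      rw [e, map_one, conj_eq_one_iff] at hb'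
      exact absurd (N.inj (hb'.trans (map_one ψ).symm)) z_facts.2.2.2.2.2.2.2.1
    have hbne : b ≠ aT := fun e => by
      rw [e, ← hgT] at hb'
      exact absurd (N.inj (mul_left_cancel (mul_right_cancel hb'))) z_facts.2.2.2.2.2.2.2.2.1
    have htb : IsConj (ψ (aT * aA)) (ψ (aT * b)) := isConj_iff.mpr ⟨g, by
      rw [map_mul, map_mul, ← conj_mul, hgT, hb']⟩
    have htb2 : aT * b * (aT * b) = 1 := by
      rw [mul_assoc, ← mul_assoc b, hbT, mul_assoc aT b b, hbb, mul_one, hT2]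
    have f1 : ¬ fpf (b : Equiv.Perm (Fin 8)) = true := fun h =>
      N.ne_conj hbb h hA2 fA (isConj_iff.mpr ⟨g, hb'⟩ : IsConj (ψ aA) (ψ b)).symm
    have f2 : ¬ fpf ((aT * b : A8) : Equiv.Perm (Fin 8)) = true := fun h =>
      N.ne_conj htb2 h z_facts.2.2.2.2.2.2.2.2.2.2.1 z_facts.2.2.2.2.2.2.2.2.2.2.2.1 htb.symm
    have hbz : b * aZ = aZ * b := N.comm_iff.mp (by rw [hb]; exact hSz)
    rcases sylow_class _ (mem_ct hbT) (congrArg Subtype.val hbb) (congrArg Subtype.val hbz)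
      (fun e => hb1 (Subtype.ext e)) (fun e => hbne (Subtype.ext e)) f1 f2 with e | e | ⟨h8, y, hy, hyb, hy2, hyf⟩
    · have e' : b = aA := Subtype.ext e
      exact congrArg π (Subtype.ext (show (g : G) * ψ aA * (g : G)⁻¹ = ψ aA by rw [hb', e']))
    · have e' : b = aT * aA := Subtype.ext e
      have : g * aK * g⁻¹ = tK * aK :=
        Subtype.ext (show (g : G) * ψ aA * (g : G)⁻¹ = ψ aT * ψ aA by rw [hb', e', map_mul])
      rw [this, map_mul, show π tK = 1 from (QuotientGroup.eq_one_iff _).mpr (Subgroup.mem_zpowers _), one_mul]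
    · exfalso
      obtain ⟨d, hd, hcb⟩ := N.card_pair (y := ofCT hy) hbT (Subtype.ext (ct_ok y hy).2) (Subtype.ext hyb)
        (Subtype.ext hy2) hyf
      obtain ⟨d', hd', hca⟩ := N.card_pair (b := aA) (y := aZ) hAT z_facts.2.2.2.2.2.1 z_facts.2.2.2.2.2.2.2.2.2.2.2.2.1
        z_facts.1 z_facts.2.2.1
      have heq : Nat.card (Subgroup.centralizer ({ψ aT, ψ aA} : Set G)) =
          Nat.card (Subgroup.centralizer ({ψ aT, ψ b} : Set G)) := by
        refine Nat.card_congr (Equiv.subtypeEquiv (MulAut.conj (g : G)).toEquiv fun w => ?_)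
        show _ ↔ (g : G) * w * (g : G)⁻¹ ∈ _
        rw [Subgroup.mem_centralizer_iff, Subgroup.mem_centralizer_iff]
        simp only [Set.mem_insert_iff, Set.mem_singleton_iff, forall_eq_or_imp, forall_eq]
        constructor
        · rintro ⟨h1, h2⟩
          constructor
          · conv_lhs => rw [← hgT, conj_mul, h1, ← conj_mul, hgT]
          · rw [← hb', conj_mul, h2, ← conj_mul]
        · rintro ⟨h1, h2⟩
          constructor
          · conv_lhs at h1 => rw [← hgT, conj_mul]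
            conv_rhs at h1 => rw [← hgT, conj_mul]
            exact mul_left_cancel (mul_right_cancel h1)
          · rw [← hb', conj_mul, conj_mul] at h2
            exact mul_left_cancel (mul_right_cancel h2)
      rw [hca, hcb, h8, show (CT.filter fun q => cmP q (aA : Equiv.Perm (Fin 8))).length = 48 from card_a] at heq
      rw [Nat.odd_iff] at hd hd'
      omega
  -- the odd normal subgroup is inverted by two involutions, so centralized by their product
  let uK : K := ⟨ψ aU, inK hUT⟩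
  let auK : K := ⟨ψ (aA * aU), inK z_facts.2.2.2.2.2.2.2.2.2.2.2.2.2.2.2.1⟩
  have hsq : ∀ {x : A8} (h : ψ x ∈ K), x * x = 1 → π ⟨ψ x, h⟩ * π ⟨ψ x, h⟩ = 1 := fun h hx => by
    rw [← map_mul, show (⟨ψ _, h⟩ : K) * ⟨ψ _, h⟩ = 1 from Subtype.ext (by
      show ψ _ * ψ _ = 1
      rw [← map_mul, hx, map_one]), map_one]
  have hfpf : ∀ {x : A8} (h : ψ x ∈ K), (∀ n : K, π ⟨ψ x, h⟩ * π n * (π ⟨ψ x, h⟩)⁻¹ = π n → (n : G) ^ 8 = 1) →
      ∀ nb ∈ M, π ⟨ψ x, h⟩ * nb * (π ⟨ψ x, h⟩)⁻¹ = nb → nb = 1 := by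
    intro x h hk nb hn e
    obtain ⟨n, rfl⟩ := QuotientGroup.mk'_surjective T0 nb
    have h8 : π n ^ 8 = 1 := by rw [← map_pow, show n ^ 8 = 1 from Subtype.ext (hk n e), map_one]
    have h1 := Subgroup.orderOf_dvd_natCard M hn
    obtain ⟨j, -, hj⟩ := (Nat.dvd_prime_pow Nat.prime_two (m := 3)).mp (orderOf_dvd_of_pow_eq_one h8)
    rcases j with _ | j
    · exact orderOf_eq_one_iff.mp (by rw [hj, pow_zero])
    · exact absurd (Odd.of_dvd_nat hModd h1) (by rw [hj, pow_succ]; simp [Nat.odd_iff])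
  have hun : ∀ {x : A8} {n : K} (h : ψ x ∈ K), π ⟨ψ x, h⟩ * π n * (π ⟨ψ x, h⟩)⁻¹ = π n →
      (n : G) * ψ x * (n : G)⁻¹ = ψ x ∨ (n : G) * ψ x * (n : G)⁻¹ = ψ (aT * x) := by
    intro x n h e
    have e1 : π (n * ⟨ψ x, h⟩ * n⁻¹) = π ⟨ψ x, h⟩ := by
      rw [map_mul, map_mul, map_inv, mul_inv_eq_iff_eq_mul]
      exact (mul_inv_eq_iff_eq_mul.mp e).symm
    rcases hπ e1.symm with e2 | e2
    · exact Or.inl e2
    · refine Or.inr ?_
      rw [map_mul, ← Subgroup.mem_centralizer_singleton_iff.mp h]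
      exact e2
  have f1 : ∀ nb ∈ M, π uK * nb * (π uK)⁻¹ = nb → nb = 1 := hfpf _ fun n e => by
    rcases hun _ e with e2 | e2
    · have hc : (n : G) * ψ aU = ψ aU * n := mul_inv_eq_iff_eq_mul.mp e2
      have hT := Subgroup.mem_centralizer_singleton_iff.mp n.2
      obtain ⟨x, hx⟩ := N.cent n (by
        rw [show aZ = aT * aU from rfl, map_mul, ← mul_assoc, hT, mul_assoc, hc, mul_assoc])
      rw [← hx] at hc hT
      rw [← hx, ← map_pow, show x ^ 8 = 1 from Subtype.ext (by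
        rw [Subgroup.coe_pow]
        exact cent_u _ (N.ct_of hT) (congrArg Subtype.val (N.comm_iff.mp hc))), map_one]
    · exact absurd (isConj_iff.mpr ⟨_, e2⟩ : IsConj (ψ aU) (ψ (aT * aU))).symm
        (N.ne_conj z_facts.1 fTU hU2 fU)
  have f2 : ∀ nb ∈ M, π auK * nb * (π auK)⁻¹ = nb → nb = 1 := hfpf _ fun n e => by
    have h := hun _ e
    have hnP : (n : G) ∈ ψ.range := by
      refine fix_base.mp ?_
      have hau : (aA * aU) * (aA * aU) = 1 := z_facts.2.2.2.2.2.2.2.2.2.2.2.2.2.1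
      have htau : aT * (aA * aU) * (aT * (aA * aU)) = 1 := z_facts.2.2.2.2.2.2.2.2.2.2.2.2.2.2.1
      rcases h with e2 | e2
      · refine N.fix_unique hau fAU ?_
        rw [← e2, mul_smul, mul_smul, inv_smul_smul, fix_base.mpr ⟨_, rfl⟩]
      · refine N.fix_unique htau fTAU ?_
        rw [← e2, mul_smul, mul_smul, inv_smul_smul, fix_base.mpr ⟨_, rfl⟩]
    obtain ⟨x, hx⟩ := hnP
    rw [← hx] at h ⊢
    rw [← map_pow, show x ^ 8 = 1 from Subtype.ext (by
      rw [Subgroup.coe_pow]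
      refine cent_au _ (N.ct_of (hx ▸ Subgroup.mem_centralizer_singleton_iff.mp n.2)) ?_
      rcases h with e2 | e2
      · exact Or.inl (congrArg Subtype.val (N.comm_iff.mp (mul_inv_eq_iff_eq_mul.mp e2)))
      · refine Or.inr ?_
        rw [← map_inv, ← map_mul, ← map_mul] at e2
        exact congrArg Subtype.val (mul_inv_eq_iff_eq_mul.mp (N.inj e2))), map_one]
  have hnorm : ∀ q, ∀ n ∈ M, q * n * q⁻¹ ∈ M := fun q n hn => hMn.conj_mem n hn q
  obtain ⟨i1, -⟩ := CfsgLib.M12U.inverts_of_fpf (hsq _ hU2) (hnorm _) f1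
  obtain ⟨i2, -⟩ := CfsgLib.M12U.inverts_of_fpf (hsq _ z_facts.2.2.2.2.2.2.2.2.2.2.2.2.2.1) (hnorm _) f2
  let kK : K := ⟨k, Subgroup.mem_centralizer_singleton_iff.mpr hk⟩
  have hnb := hMc (π kK)
  set q := π aK * π kK * (π aK)⁻¹ * (π kK)⁻¹ with hq
  have haq : π aK * q * (π aK)⁻¹ = q := by
    have e : π aK = π auK * (π uK)⁻¹ := by
      rw [← map_inv, ← map_mul]
      refine congrArg π (Subtype.ext ?_)
      show ψ aA = ψ (aA * aU) * (ψ aU)⁻¹
      rw [map_mul, mul_inv_cancel_right]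
    have h1 := i1 q hnb
    have h2 := i2 q hnb
    have e1 : (π uK)⁻¹ = π uK := inv_eq_of_mul_eq_one_right (hsq _ hU2)
    have h3 : π auK * q⁻¹ * (π auK)⁻¹ = q := by rw [← conj_inv, h2, inv_inv]
    rw [e, e1]
    calc π auK * π uK * q * (π auK * π uK)⁻¹ = π auK * (π uK * q * (π uK)⁻¹) * (π auK)⁻¹ := by group
      _ = q := by rw [h1, h3]
  have hq2 : q * q = 1 := by
    have ha2 : π aK * π aK = 1 := hsq _ hA2
    have hai : (π aK)⁻¹ = π aK := inv_eq_of_mul_eq_one_right ha2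
    have e : π aK * q * (π aK)⁻¹ = q⁻¹ := by
      rw [hq, hai]
      calc π aK * (π aK * π kK * π aK * (π kK)⁻¹) * π aK = π aK * π aK * π kK * π aK * (π kK)⁻¹ * π aK := by group
        _ = π kK * π aK * (π kK)⁻¹ * π aK := by rw [ha2, one_mul]
        _ = (π aK * π kK * π aK * (π kK)⁻¹)⁻¹ := by rw [mul_inv_rev, mul_inv_rev, mul_inv_rev, inv_inv, hai]; group
    rw [haq] at e
    exact mul_eq_one_iff_eq_inv.mpr e
  have hq1 : q = 1 := by
    have h1 := Subgroup.orderOf_dvd_natCard M hnb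
    rcases (Nat.dvd_prime Nat.prime_two).mp (orderOf_dvd_of_pow_eq_one (show q ^ 2 = 1 by rw [pow_two, hq2])) with h | h
    · exact orderOf_eq_one_iff.mp h
    · exact absurd (Odd.of_dvd_nat hModd h1) (by rw [h]; simp [Nat.odd_iff])
  have hcomm : π aK * π kK = π kK * π aK := by
    rw [hq, mul_inv_eq_one, mul_inv_eq_iff_eq_mul] at hq1
    exact hq1
  have e1 : π (kK * aK * kK⁻¹) = π aK := by
    rw [map_mul, map_mul, map_inv, ← hcomm, mul_inv_cancel_right]
  rcases hπ e1.symm with e2 | e2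
  · exact Or.inl e2
  · refine Or.inr ?_
    rw [N.comm_iff.mpr hAT.symm]
    exact e2

end NineHyp

end CfsgLib.C192
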