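import Cfsg.Agent.C192.Nine

/-!
The fixed points of a double transposition: one or five.
-/

set_option autoImplicit false
set_option linter.style.haveILetI false
set_option linter.unusedSectionVars false
set_option maxRecDepth 100000

namespace CfsgLib.C192

open Eight CfsgLib.Invol

local notation "A8" => alternatingGroup (Fin 8)

/-- The four group of `aA` and `aT`. -/
def nWA : List A8 := [1, aA, aT, aA * aT]

/-- The four group of `aU` and `aV`. -/
def nVA : List A8 := [1, aU, aV, aU * aV]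

/-- A subgroup of exponent two given by a list. -/
def listSub (l : List A8) (h1 : (1 : A8) ∈ l) (hm : ∀ x ∈ l, ∀ y ∈ l, x * y ∈ l) (hs : ∀ x ∈ l, x * x = 1) :
    Subgroup A8 where
  carrier := {x | x ∈ l}
  mul_mem' := fun hx hy => hm _ hx _ hy
  one_mem' := h1
  inv_mem' := fun {x} hx => by
    show x⁻¹ ∈ l
    rw [inv_eq_of_mul_eq_one_right (hs x hx)]
    exact hx

theorem mem_listA {l : List A8} {p : Equiv.Perm (Fin 8)}
    (h : (l.any fun q => eqP p (q : Equiv.Perm (Fin 8))) = true) : ∃ q ∈ l, p = (q : Equiv.Perm (Fin 8)) := by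
  simpa [eqP_iff] using h

theorem four_lists : (∀ x ∈ nWA, ∀ y ∈ nWA, x * y ∈ nWA) ∧ (∀ x ∈ nWA, x * x = 1) ∧
    (∀ x ∈ nVA, ∀ y ∈ nVA, x * y ∈ nVA) ∧ (∀ x ∈ nVA, x * x = 1) ∧
    (∀ x ∈ nWA, x * aT = aT * x ∧ x * aA = aA * x) ∧ (∀ x ∈ nVA, x * aT = aT * x ∧ x * aA = aA * x) ∧
    (∀ w ∈ nWA, ∀ v ∈ nVA, w = v → v = 1) ∧ (∀ w ∈ nWA, ∀ v ∈ nVA, w * v = aC → False) := by
  have h : ((nWA.all fun x => nWA.all fun y => nWA.any fun q => eqP ((x * y : A8) : Equiv.Perm (Fin 8)) q) &&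
      (nWA.all fun x => eqP ((x * x : A8) : Equiv.Perm (Fin 8)) 1) &&
      (nVA.all fun x => nVA.all fun y => nVA.any fun q => eqP ((x * y : A8) : Equiv.Perm (Fin 8)) q) &&
      (nVA.all fun x => eqP ((x * x : A8) : Equiv.Perm (Fin 8)) 1) &&
      (nWA.all fun x => cmP (x : Equiv.Perm (Fin 8)) pT && cmP (x : Equiv.Perm (Fin 8)) pA) &&
      (nVA.all fun x => cmP (x : Equiv.Perm (Fin 8)) pT && cmP (x : Equiv.Perm (Fin 8)) pA) &&
      (nWA.all fun w => nVA.all fun v => !eqP (w : Equiv.Perm (Fin 8)) v || eqP (v : Equiv.Perm (Fin 8)) 1) &&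
      (nWA.all fun w => nVA.all fun v => !eqP ((w * v : A8) : Equiv.Perm (Fin 8)) pC)) = true := by decide +kernel
  simp only [Bool.and_eq_true] at h
  obtain ⟨⟨⟨⟨⟨⟨⟨h1, h2⟩, h3⟩, h4⟩, h5⟩, h6⟩, h7⟩, h8⟩ := h
  have back : ∀ {l : List A8} {x : A8}, (l.any fun q => eqP (x : Equiv.Perm (Fin 8)) q) = true → x ∈ l := by
    intro l x hx
    obtain ⟨q, hq, e⟩ := mem_listA hx
    exact (Subtype.ext e : x = q) ▸ hq
  refine ⟨fun x hx y hy => back (List.all_eq_true.mp (List.all_eq_true.mp h1 x hx) y hy),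
    fun x hx => eqA_iff.mp (List.all_eq_true.mp h2 x hx),
    fun x hx y hy => back (List.all_eq_true.mp (List.all_eq_true.mp h3 x hx) y hy),
    fun x hx => eqA_iff.mp (List.all_eq_true.mp h4 x hx), fun x hx => ?_, fun x hx => ?_,
    fun w hw v hv e => ?_, fun w hw v hv e => ?_⟩
  · have := List.all_eq_true.mp h5 x hx
    rw [Bool.and_eq_true] at this
    exact ⟨cmA_iff.mp this.1, cmA_iff.mp this.2⟩
  · have := List.all_eq_true.mp h6 x hx
    rw [Bool.and_eq_true] at this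
    exact ⟨cmA_iff.mp this.1, cmA_iff.mp this.2⟩
  · have := List.all_eq_true.mp (List.all_eq_true.mp h7 w hw) v hv
    rw [eqA_iff.mpr e, Bool.not_true, Bool.false_or] at this
    exact eqA_iff.mp this
  · have := List.all_eq_true.mp (List.all_eq_true.mp h8 w hw) v hv
    rw [show eqP ((w * v : A8) : Equiv.Perm (Fin 8)) pC = true from eqA_iff.mpr e] at this
    exact absurd this (by decide)

namespace NineHyp

variable {G : Type*} [Group G] [Finite G] {ψ : A8 →* G} (N : NineHyp ψ)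

include N

theorem exists_K {X : G ⧸ ψ.range} (hX : ψ aT • X = X) :
    ∃ k, k * ψ aT = ψ aT * k ∧ X = k • ((1 : G) : G ⧸ ψ.range) := by
  induction X using QuotientGroup.induction_on with
  | _ g =>
    obtain ⟨q, hq⟩ := fix_coe.mp hX
    have hq2 : q * q = 1 := N.sq_of hq.symm (by
      rw [show g⁻¹ * ψ aT * g * (g⁻¹ * ψ aT * g) = g⁻¹ * (ψ aT * ψ aT) * g by group, N.tt, mul_one, inv_mul_cancel])
    have hq1 : q ≠ 1 := fun e => by
      rw [e, map_one] at hq
      have h1 : ψ aT = 1 := by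
        calc ψ aT = g * (g⁻¹ * ψ aT * g) * g⁻¹ := by group
          _ = 1 := by rw [← hq, mul_one, mul_inv_cancel]
      exact z_facts.2.2.2.1 (N.inj (h1.trans (map_one ψ).symm))
    have hconj : IsConj (ψ aT) (ψ q) := isConj_iff.mpr ⟨g⁻¹, by rw [hq, inv_inv]⟩
    have hqf : ¬ fpf (q : Equiv.Perm (Fin 8)) = true := fun h =>
      N.ne_conj hq2 h base_facts.1 (by rw [z_facts.2.2.2.2.1]; decide) hconj.symm
    rcases N.class_of hq2 hq1 with ⟨h, -⟩ | ⟨-, a, ha⟩
    · exact absurd h hqf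
    refine ⟨g * ψ a, ?_, ?_⟩
    · have e : ψ a * ψ aT * (ψ a)⁻¹ = g⁻¹ * ψ aT * g := by rw [← hq, ← ha, map_mul, map_mul, map_inv]
      calc g * ψ a * ψ aT = g * (ψ a * ψ aT * (ψ a)⁻¹) * ψ a := by group
        _ = ψ aT * (g * ψ a) := by rw [e]; group
    · rw [mul_smul, fix_base.mpr ⟨a, rfl⟩, smul_base]

theorem exists_CW {X : G ⧸ ψ.range} (hX : ψ aT • X = X) :
    ∃ k, k * ψ aT = ψ aT * k ∧ k * ψ aA = ψ aA * k ∧ X = k • ((1 : G) : G ⧸ ψ.range) := by
  obtain ⟨k, hk, rfl⟩ := N.exists_K hX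
  rcases N.conj_four k hk with h | h
  · exact ⟨k, hk, mul_inv_eq_iff_eq_mul.mp h, rfl⟩
  · obtain ⟨-, hA2, -, hAT, -, -, hET, hEA, -⟩ := base_facts
    refine ⟨k * ψ aE, ?_, mul_inv_eq_iff_eq_mul.mp ?_, ?_⟩
    · rw [mul_assoc, N.comm_iff.mpr hET, ← mul_assoc, hk, mul_assoc]
    · have e1 : ψ aE * ψ aA * (ψ aE)⁻¹ = ψ (aT * aA) := by rw [← map_inv, ← map_mul, ← map_mul, hEA]
      have e2 : k * ψ aT * k⁻¹ = ψ aT := by rw [hk, mul_inv_cancel_right]
      calc k * ψ aE * ψ aA * (k * ψ aE)⁻¹ = k * (ψ aE * ψ aA * (ψ aE)⁻¹) * k⁻¹ := by group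
        _ = (k * ψ aT * k⁻¹) * (k * ψ aA * k⁻¹) := by rw [e1, map_mul]; group
        _ = ψ aA := by rw [e2, h, ← mul_assoc, N.tt, one_mul]
    · rw [mul_smul, fix_base.mpr ⟨aE, rfl⟩]

/-- Every fixed point of `aT` is fixed by its four group. -/
theorem fix_four {X : G ⧸ ψ.range} (hX : ψ aT • X = X) : ψ aA • X = X := by
  obtain ⟨k, -, hk, rfl⟩ := N.exists_CW hX
  rw [← mul_smul, ← hk, mul_smul, fix_base.mpr ⟨aA, rfl⟩]

set_option maxHeartbeats 1000000 in
/-- The double transposition fixes one or five points. -/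
theorem card_fixed : Nat.card {X : G ⧸ ψ.range // ψ aT • X = X} = 1 ∨
    Nat.card {X : G ⧸ ψ.range // ψ aT • X = X} = 5 := by
  classical
  obtain ⟨hT2, hA2, hU2, hAT, hUT, hCT, -, -, -, fTU, fAU, fTAU, fU, fA⟩ := base_facts
  obtain ⟨wm, ws, vm, vs, wc, vc, wv, wvc⟩ := four_lists
  set CW := Subgroup.centralizer ({ψ aT, ψ aA} : Set G) with hCW
  have hmemg : ∀ x : G, x ∈ CW ↔ x * ψ aT = ψ aT * x ∧ x * ψ aA = ψ aA * x := fun x => by
    rw [hCW, Subgroup.mem_centralizer_iff]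
    simp only [Set.mem_insert_iff, Set.mem_singleton_iff, forall_eq_or_imp, forall_eq]
    exact ⟨fun h => ⟨h.1.symm, h.2.symm⟩, fun h => ⟨h.1.symm, h.2.symm⟩⟩
  have hmem : ∀ x : A8, ψ x ∈ CW ↔ x * aT = aT * x ∧ x * aA = aA * x := fun x => by
    rw [hmemg, N.comm_iff, N.comm_iff]
  obtain ⟨d, hd, hcard, horb⟩ := N.card_sub CW z_facts.1 z_facts.2.2.1
    ((hmem aZ).mpr ⟨z_facts.2.2.2.2.2.1, z_facts.2.2.2.2.2.2.2.2.2.2.2.2.1⟩)
  have h48 : Nat.card {x : A8 // ψ x ∈ CW} = 48 := by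
    rw [← show (CT.filter fun q => cmP q (aA : Equiv.Perm (Fin 8))).length = 48 from card_a,
      ← card_cent (fun x => x * aA = aA * x) (fun p => cmP p (aA : Equiv.Perm (Fin 8))) (fun x => cmA_iff.symm)]
    exact Nat.card_congr (Equiv.subtypeEquivRight hmem)
  have hF : Nat.card {X : G ⧸ ψ.range // ψ aT • X = X} = d := by
    rw [horb]
    refine Nat.card_congr (Equiv.subtypeEquivRight fun X => ⟨fun hX => ?_, ?_⟩)
    · obtain ⟨k, h1, h2, rfl⟩ := N.exists_CW hX
      exact ⟨⟨k, (hmemg k).mpr ⟨h1, h2⟩⟩, rfl⟩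
    · rintro ⟨⟨k, hk⟩, rfl⟩
      show ψ aT • k • ((1 : G) : G ⧸ ψ.range) = k • ((1 : G) : G ⧸ ψ.range)
      rw [← mul_smul, ← ((hmemg k).mp hk).1, mul_smul, fix_base.mpr ⟨aT, rfl⟩]
  let WA := listSub nWA (by simp [nWA]) wm ws
  let VA := listSub nVA (by simp [nVA]) vm vs
  let W : Subgroup CW := (WA.map ψ).subgroupOf CW
  have hWmem : ∀ {g : CW}, g ∈ W ↔ ∃ w ∈ nWA, (g : G) = ψ w := fun {g} =>
    ⟨fun ⟨w, hw, e⟩ => ⟨w, hw, e.symm⟩, fun ⟨w, hw, e⟩ => ⟨w, hw, e.symm⟩⟩
  haveI hW : W.Normal := ⟨fun n hn g => by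
    obtain ⟨w, hw, e⟩ := hWmem.mp hn
    refine hWmem.mpr ⟨w, hw, ?_⟩
    have hg := (hmemg _).mp g.2
    show (g : G) * n * (g : G)⁻¹ = ψ w
    rw [e, mul_inv_eq_iff_eq_mul]
    simp only [nWA, List.mem_cons, List.not_mem_nil, or_false] at hw
    rcases hw with rfl | rfl | rfl | rfl
    · rw [map_one, mul_one, one_mul]
    · exact hg.2
    · exact hg.1
    · rw [map_mul, ← mul_assoc, hg.2, mul_assoc, hg.1, mul_assoc]⟩
  have hW4 : Nat.card W = 4 := by
    let f : nWA.toFinset → W := fun w => ⟨⟨ψ w, (hmem w).mpr (wc w (List.mem_toFinset.mp w.2))⟩,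
      hWmem.mpr ⟨w, List.mem_toFinset.mp w.2, rfl⟩⟩
    have hf : Function.Bijective f := by
      refine ⟨fun a b h => Subtype.ext (N.inj (congrArg (fun s : W => ((s : CW) : G)) h)), ?_⟩
      rintro ⟨⟨g, hg⟩, hgW⟩
      obtain ⟨w, hw, rfl : g = ψ w⟩ := hWmem.mp hgW
      exact ⟨⟨w, List.mem_toFinset.mpr hw⟩, rfl⟩
    rw [← Nat.card_eq_of_bijective f hf, Nat.card_eq_fintype_card, Fintype.card_coe,
      List.toFinset_card_of_nodup]
    · rfl
    · refine List.Nodup.of_map (fun x : A8 => (List.finRange 8).map (x : Equiv.Perm (Fin 8))) ?_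
      decide +kernel
  have hL : Nat.card (CW ⧸ W) = 12 * d := by
    have h := W.index_mul_card
    rw [hcard, h48, hW4, Subgroup.index_eq_card] at h
    omega
  set π := QuotientGroup.mk' W
  let inCW : ∀ v ∈ nVA, ψ v ∈ CW := fun v hv => (hmem v).mpr (vc v hv)
  let ι : VA →* CW := (ψ.comp VA.subtype).codRestrict CW fun v => inCW v v.2
  let V : Subgroup (CW ⧸ W) := (π.comp ι).range
  let uC : CW := ⟨ψ aU, (hmem aU).mpr (vc aU (by simp [nVA]))⟩
  have hVinj : Function.Injective (π.comp ι) := by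
    rw [← MonoidHom.ker_eq_bot_iff, eq_bot_iff]
    intro v hv
    obtain ⟨w, hw, e⟩ := hWmem.mp ((QuotientGroup.eq_one_iff _).mp hv)
    exact Subgroup.mem_bot.mpr (Subtype.ext (wv w hw v v.2 (N.inj e).symm))
  have hV4 : Nat.card V = 4 := by
    rw [← Nat.card_congr (MonoidHom.ofInjective hVinj).toEquiv, show Nat.card VA = Nat.card nVA.toFinset from
      Nat.card_congr (Equiv.subtypeEquivRight fun x => List.mem_toFinset.symm), Nat.card_eq_fintype_card,
      Fintype.card_coe, List.toFinset_card_of_nodup]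
    · rfl
    · refine List.Nodup.of_map (fun x : A8 => (List.finRange 8).map (x : Equiv.Perm (Fin 8))) ?_
      decide +kernel
  have hVof : ∀ {y : CW}, π y ∈ V ↔ ∃ w ∈ nWA, ∃ v ∈ nVA, (y : G) = ψ v * ψ w := fun {y} => by
    constructor
    · rintro ⟨v, hv⟩
      obtain ⟨w, hw, e⟩ := hWmem.mp (QuotientGroup.eq.mp hv)
      exact ⟨w, hw, v, v.2, by rw [← e]; exact (mul_inv_cancel_left (ψ (v : A8)) (y : G)).symm⟩
    · rintro ⟨w, hw, v, hv, e⟩
      refine ⟨⟨v, hv⟩, QuotientGroup.eq.mpr (hWmem.mpr ⟨w, hw, ?_⟩)⟩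
      show (ψ v)⁻¹ * (y : G) = ψ w
      rw [e, inv_mul_cancel_left]
  have hcV : ∀ a ∈ V, ∀ b ∈ V, a * b = b * a := by
    rintro _ ⟨a, rfl⟩ _ ⟨b, rfl⟩
    rw [← map_mul, ← map_mul]
    refine congrArg (π.comp ι) (Subtype.ext ?_)
    have h := inv_eq_of_mul_eq_one_right (vs _ (mul_mem (s := VA) a.2 b.2))
    rw [mul_inv_rev, inv_eq_of_mul_eq_one_right (vs _ a.2), inv_eq_of_mul_eq_one_right (vs _ b.2)] at h
    exact h.symm
  have F : CfsgLib.S3222.FourHyp V (π uC) :=
    { card_four := hV4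
      sq_one := by
        rintro _ ⟨v, rfl⟩
        rw [← map_mul, show v * v = 1 from Subtype.ext (vs _ v.2), map_one]
      mem := ⟨⟨aU, show aU ∈ nVA by simp [nVA]⟩, rfl⟩
      ne_one := fun h => by
        obtain ⟨w, hw, e⟩ := hWmem.mp ((QuotientGroup.eq_one_iff _).mp h)
        exact absurd (wv w hw aU (by simp [nVA]) (N.inj e).symm) (neA (by decide +kernel))
      centralizer_eq := by
        refine le_antisymm (fun q hq => ?_) fun q hq => ?_
        · obtain ⟨y, rfl⟩ := QuotientGroup.mk'_surjective W q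
          have e1 : π (y * uC * y⁻¹) = π uC := by
            rw [map_mul, map_mul, map_inv, Subgroup.mem_centralizer_singleton_iff.mp hq, mul_inv_cancel_right]
          obtain ⟨w, hw, e⟩ := hWmem.mp (QuotientGroup.eq.mp e1.symm)
          have e' : (y : G) * ψ aU * (y : G)⁻¹ = ψ (aU * w) := by
            rw [map_mul, ← e]; simp [uC]
          have hwu : (aU * w) * (aU * w) = 1 := N.sq_of e' (by
            rw [conj_mul, ← map_mul, hU2, map_one, mul_one, mul_inv_cancel])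
          have hw1 : w = 1 := by
            by_contra hne
            refine N.ne_conj hwu ?_ hU2 fU (isConj_iff.mpr ⟨_, e'⟩ : IsConj (ψ aU) (ψ (aU * w))).symm
            simp only [nWA, List.mem_cons, List.not_mem_nil, or_false] at hw
            rcases hw with rfl | rfl | rfl | rfl
            · exact absurd rfl hne
            all_goals decide +kernel
          rw [hw1, mul_one] at e'
          have hu : (y : G) * ψ aU = ψ aU * y := mul_inv_eq_iff_eq_mul.mp e'
          obtain ⟨ht, ha⟩ := (hmemg _).mp y.2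
          obtain ⟨x, hx⟩ := N.cent y (by
            rw [show aZ = aT * aU from rfl, map_mul, ← mul_assoc, ht, mul_assoc, hu, mul_assoc])
          rw [← hx] at ht ha hu
          obtain ⟨w', hw', v', hv', ex⟩ := cent_wu _ (N.ct_of ht) (congrArg Subtype.val (N.comm_iff.mp ha))
            (congrArg Subtype.val (N.comm_iff.mp hu))
          obtain ⟨W', hW', rfl⟩ : ∃ q ∈ nWA, w' = (q : Equiv.Perm (Fin 8)) := by
            simp only [nW, List.mem_cons, List.not_mem_nil, or_false] at hw'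
            rcases hw' with rfl | rfl | rfl | rfl
            exacts [⟨1, by simp [nWA], rfl⟩, ⟨aA, by simp [nWA], rfl⟩, ⟨aT, by simp [nWA], rfl⟩,
              ⟨aA * aT, by simp [nWA], rfl⟩]
          obtain ⟨V', hV', rfl⟩ : ∃ q ∈ nVA, v' = (q : Equiv.Perm (Fin 8)) := by
            simp only [nV, List.mem_cons, List.not_mem_nil, or_false] at hv'
            rcases hv' with rfl | rfl | rfl | rfl
            exacts [⟨1, by simp [nVA], rfl⟩, ⟨aU, by simp [nVA], rfl⟩, ⟨aV, by simp [nVA], rfl⟩,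
              ⟨aU * aV, by simp [nVA], rfl⟩]
          refine hVof.mpr ⟨W', hW', V', hV', ?_⟩
          rw [← hx, (Subtype.ext ex : x = W' * V'), map_mul]
          simp only [nWA, List.mem_cons, List.not_mem_nil, or_false] at hW'
          have hV'c := vc V' hV'
          rcases hW' with rfl | rfl | rfl | rfl
          · rw [map_one, one_mul, mul_one]
          · exact N.comm_iff.mpr hV'c.2.symm
          · exact N.comm_iff.mpr hV'c.1.symm
          · refine N.comm_iff.mpr ?_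
            rw [mul_assoc, ← hV'c.1, ← mul_assoc, ← hV'c.2, mul_assoc]
        · exact Subgroup.mem_centralizer_singleton_iff.mpr (hcV q hq _ ⟨⟨aU, show aU ∈ nVA by simp [nVA]⟩, rfl⟩)
      fusion := by
        rintro _ ⟨v, rfl⟩ hne
        have hv1 : (v : A8) ≠ 1 := fun e => hne (by rw [show v = 1 from Subtype.ext e, map_one])
        have hvn : ((v : A8) : Equiv.Perm (Fin 8)) ∈ nV := by
          have := v.2
          rcases v with ⟨v, hv⟩
          simp only [VA, listSub] at hv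
          have hv' : v ∈ nVA := hv
          simp only [nVA, List.mem_cons, List.not_mem_nil, or_false] at hv'
          rcases hv' with rfl | rfl | rfl | rfl <;> simp [nV, aU, aV]
        obtain ⟨x, hx, hxe⟩ := v_fusion _ hvn fun e => hv1 (Subtype.ext e)
        obtain ⟨X, hX, rfl⟩ : ∃ q : A8, ψ q ∈ CW ∧ x = (q : Equiv.Perm (Fin 8)) := by
          have hc : ψ aC ∈ CW := (hmem aC).mpr ⟨hCT, Subtype.ext c_facts.2.2.1⟩
          simp only [List.mem_cons, List.not_mem_nil, or_false] at hx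
          rcases hx with rfl | rfl | rfl
          exacts [⟨1, by rw [map_one]; exact one_mem _, rfl⟩, ⟨aC, hc, rfl⟩,
            ⟨aC * aC, by rw [map_mul]; exact mul_mem hc hc, rfl⟩]
        refine isConj_iff.mpr ⟨π ⟨ψ X, hX⟩, ?_⟩
        rw [mul_inv_eq_iff_eq_mul, MonoidHom.comp_apply, ← map_mul, ← map_mul]
        refine congrArg π (Subtype.ext ?_)
        show ψ X * ψ aU = ψ (v : A8) * ψ X
        rw [← map_mul, ← map_mul, (Subtype.ext hxe : X * aU = (v : A8) * X)]
      odd_index := by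
        have h := V.index_mul_card
        rw [hV4, hL] at h
        rw [show V.index = 3 * d by omega]
        rw [Nat.odd_iff] at hd ⊢
        omega }
  let cC : CW := ⟨ψ aC, (hmem aC).mpr ⟨hCT, Subtype.ext c_facts.2.2.1⟩⟩
  have hcN : π cC ∈ Subgroup.normalizer (V : Set (CW ⧸ W)) := by
    have hle : V.map (MulAut.conj (π cC)).toMonoidHom ≤ V := by
      rintro _ ⟨_, ⟨v, rfl⟩, rfl⟩
      show π cC * π (ι v) * (π cC)⁻¹ ∈ V
      rw [← map_inv, ← map_mul, ← map_mul]
      have hmemV : aC * (v : A8) * aC⁻¹ ∈ nVA := by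
        have hh : (nVA.all fun x => nVA.any fun q => eqP ((aC * x * aC⁻¹ : A8) : Equiv.Perm (Fin 8)) q) = true := by
          decide +kernel
        obtain ⟨q, hq, e⟩ := mem_listA (List.all_eq_true.mp hh (v : A8) v.2)
        exact (Subtype.ext e : aC * (v : A8) * aC⁻¹ = q) ▸ hq
      refine hVof.mpr ⟨1, by simp [nWA], _, hmemV, ?_⟩
      rw [map_one, mul_one, map_mul, map_mul, map_inv]
      rfl
    have heq : V.map (MulAut.conj (π cC)).toMonoidHom = V :=
      Subgroup.eq_of_le_of_card_ge hle (Subgroup.card_map_of_injective (MulAut.conj (π cC)).injective).ge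
    rw [Subgroup.mem_normalizer_iff]
    intro x
    refine ⟨fun hx => heq ▸ ⟨x, hx, rfl⟩, fun hx => ?_⟩
    rw [← heq] at hx
    obtain ⟨y, hy, e⟩ := hx
    exact (MulAut.conj (π cC)).injective e ▸ hy
  have hcV' : π cC ∉ V := fun h => by
    obtain ⟨w, hw, v, hv, e⟩ := hVof.mp h
    refine wvc w hw v hv (N.inj ?_)
    rw [map_mul]
    refine (Eq.trans ?_ e.symm)
    have hvw := vc v hv
    simp only [nWA, List.mem_cons, List.not_mem_nil, or_false] at hw
    rcases hw with rfl | rfl | rfl | rfl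
    · rw [map_one, one_mul, mul_one]
    · exact N.comm_iff.mpr hvw.2.symm
    · exact N.comm_iff.mpr hvw.1.symm
    · refine N.comm_iff.mpr ?_
      rw [mul_assoc, ← hvw.1, ← mul_assoc, ← hvw.2, mul_assoc]
  rcases F.card_cases hcN hcV' with h | ⟨h, -⟩
  · left; rw [hF]; omega
  · right; rw [hF]; omega

end NineHyp

end CfsgLib.C192
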