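import Cfsg.Agent.C192.Quat

/-!
The decomposition into two commuting quaternion groups, and the shape of an inverting element.
-/

set_option autoImplicit false
set_option linter.style.haveILetI false
set_option linter.unusedSectionVars false

namespace CfsgLib.C192

variable {G : Type*} [Group G] {s x i k : G} {Q : Subgroup G}

/-- Two quaternion groups commuting elementwise. -/
structure QPair (s : G) (Q : Subgroup G) (x i k : G) : Prop where
  left : Quat s Q x i
  right : Quat s Q x k
  c1 : i * k = k * i
  c2 : (x * i * x⁻¹) * k = k * (x * i * x⁻¹)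

namespace QData

variable (D : QData s Q x)

include D

/-- The centralizer in a part of the two generators has a quarter of the order. -/
theorem card_split [Finite G] (A : Quat s Q x i) (R : Subgroup G) (hRQ : R ≤ Q) (hi : i ∈ R) (hj : x * i * x⁻¹ ∈ R) :
    Nat.card R = 4 * Nat.card {c : R // (c : G) * i = i * c ∧ (c : G) * (x * i * x⁻¹) = (x * i * x⁻¹) * c} := by
  classical
  set j := x * i * x⁻¹ with hjdef
  set T := {c : R // (c : G) * i = i * c ∧ (c : G) * j = j * c}
  let w : Bool × Bool → R := fun p => ⟨(bif p.1 then i else 1) * (bif p.2 then j else 1), by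
    rcases p with ⟨_ | _, _ | _⟩ <;> simp [hi, hj, mul_mem hi hj, one_mem]⟩
  let f : T × (Bool × Bool) → R := fun p => p.1.1 * w p.2
  have hjQ : j ∈ Q := hRQ hj
  have hne : i * j ≠ j * i := A.ne_comm D
  have hne' : j * i ≠ i * j := fun h => hne h.symm
  have pat : ∀ (c : T) (p : Bool × Bool), (((f (c, p) : R) : G) * i = i * (f (c, p) : R) ↔ p.2 = false) ∧
      (((f (c, p) : R) : G) * j = j * (f (c, p) : R) ↔ p.1 = false) := by
    rintro ⟨c, hci, hcj⟩ ⟨a, b⟩
    have hc : (c : G) ∈ Q := hRQ c.2
    have hf : ((f (⟨c, hci, hcj⟩, a, b) : R) : G) = c * ((bif a then i else 1) * (bif b then j else 1)) := rfl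
    have key : ∀ u ∈ Q, (c : G) * u = u * c → ((((c : G) * ((bif a then i else 1) * (bif b then j else 1))) * u =
        u * ((c : G) * ((bif a then i else 1) * (bif b then j else 1)))) ↔
        ((a = true → i * u = u * i) ↔ (b = true → j * u = u * j))) := by
      intro u hu hcu
      have ha : (bif a then i else 1) ∈ Q := by cases a <;> simp [A.mem, one_mem]
      have hb : (bif b then j else 1) ∈ Q := by cases b <;> simp [hjQ, one_mem]
      rw [D.comm_mul_left hc (mul_mem ha hb) hu, D.comm_mul_left ha hb hu]
      cases a <;> cases b <;> simp [hcu]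
    rw [hf, key i A.mem hci, key j hjQ hcj]
    cases a <;> cases b <;> simp [hne, hne']
  have hinj : Function.Injective f := by
    rintro ⟨c, a, b⟩ ⟨c', a', b'⟩ h
    obtain ⟨h1, h2⟩ := pat c (a, b)
    obtain ⟨h1', h2'⟩ := pat c' (a', b')
    rw [h] at h1 h2
    have eb : (b = false ↔ b' = false) := h1.symm.trans h1'
    have ea : (a = false ↔ a' = false) := h2.symm.trans h2'
    have eb' : b = b' := by revert eb; cases b <;> cases b' <;> simp
    have ea' : a = a' := by revert ea; cases a <;> cases a' <;> simp
    subst ea' eb'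
    have : c.1 = c'.1 := mul_right_cancel h
    rw [Subtype.ext this]
  have hsurj : Function.Surjective f := by
    intro q
    obtain ⟨v, hv, h1, h2⟩ := D.split A (hRQ q.2)
    obtain ⟨p, hp⟩ : ∃ p, ((w p : R) : G) = v := by
      simp only [List.mem_cons, List.not_mem_nil, or_false] at hv
      rcases hv with rfl | rfl | rfl | rfl
      exacts [⟨(false, false), by simp [w]⟩, ⟨(true, false), by simp [w]⟩, ⟨(false, true), by simp [w, hjdef]⟩,
        ⟨(true, true), by simp [w, hjdef]⟩]
    have hwinv : ∀ p, (((w p)⁻¹ : R) : G) = (w p : G) ∨ (((w p)⁻¹ : R) : G) = s * (w p : G) := by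
      intro p
      rcases D.sq _ (hRQ (w p).2) with h | h
      · exact Or.inl (inv_eq_of_mul_eq_one_right h)
      · exact Or.inr (inv_eq_of_mul_eq_one_right (by rw [D.cen _ (hRQ (w p).2), ← mul_assoc, h, D.ss]))
    let c : R := q * w p
    have hc1 : (c : G) * i = i * c ∧ (c : G) * j = j * c := by
      show (q : G) * (w p : G) * i = i * ((q : G) * (w p : G)) ∧ (q : G) * (w p : G) * j = j * ((q : G) * (w p : G))
      rw [hp]
      exact ⟨h1, h2⟩
    rcases hwinv p with h | h
    · refine ⟨(⟨c, hc1⟩, p), Subtype.ext ?_⟩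
      show (q : G) * (w p : G) * (w p : G) = q
      rw [mul_assoc]
      nth_rewrite 1 [← h]
      rw [Subgroup.coe_inv, inv_mul_cancel, mul_one]
    · have hsR : s ∈ R := A.ii ▸ mul_mem hi hi
      refine ⟨(⟨c * ⟨s, hsR⟩, ?_⟩, p), Subtype.ext ?_⟩
      · show (c : G) * s * i = i * ((c : G) * s) ∧ (c : G) * s * j = j * ((c : G) * s)
        rw [mul_assoc, D.cen i A.mem, ← mul_assoc, hc1.1, mul_assoc, mul_assoc (c : G) s j, D.cen j hjQ,
          ← mul_assoc (c : G) j, hc1.2, mul_assoc]
        exact ⟨rfl, rfl⟩
      · show (q : G) * (w p : G) * s * (w p : G) = q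
        rw [mul_assoc, ← h, mul_assoc, Subgroup.coe_inv, mul_inv_cancel, mul_one]
  rw [← Nat.card_eq_of_bijective f ⟨hinj, hsurj⟩, Nat.card_prod, mul_comm, show Nat.card (Bool × Bool) = 4 by simp]

/-- The second quaternion group. -/
theorem exists_second [Finite G] (A : Quat s Q x i) : ∃ k, QPair s Q x i k := by
  classical
  set j := x * i * x⁻¹ with hjdef
  let P : G → Prop := fun q => q ∈ Q ∧ q * i = i * q ∧ q * j = j * q
  have hcard : Nat.card {c : Q // (c : G) * i = i * c ∧ (c : G) * j = j * c} = 8 := by
    have := D.card_split A Q le_rfl A.mem (D.norm i A.mem)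
    rw [D.card] at this
    rw [hjdef]; omega
  obtain ⟨k, ⟨-, hk1, hk2⟩, hk⟩ := D.exists_quat P (fun a ha => ha.1)
    (fun a b ha hb => ⟨mul_mem ha.1 hb.1, by rw [mul_assoc, hb.2.1, ← mul_assoc, ha.2.1, mul_assoc],
      by rw [mul_assoc, hb.2.2, ← mul_assoc, ha.2.2, mul_assoc]⟩)
    (fun a ha => by
      refine ⟨D.norm a ha.1, ?_, ?_⟩
      · set K := x * x * i * (x * x)⁻¹ with hK
        have h1 : x * a * x⁻¹ * K = K * (x * a * x⁻¹) := by
          rw [show K = x * j * x⁻¹ by rw [hjdef, hK]; group, conj_mul, conj_mul, ha.2.2]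
        have h2 : x * a * x⁻¹ * j = j * (x * a * x⁻¹) := by rw [hjdef, conj_mul, conj_mul, ha.2.1]
        have hi' : i = K⁻¹ * j := by rw [eq_inv_mul_iff_mul_eq, hK, hjdef, A.ki D]
        rw [hi']
        exact (Commute.inv_right h1).mul_right h2
      · rw [hjdef, conj_mul, conj_mul, ha.2.1])
    (by
      by_contra hcon
      push Not at hcon
      have hsub : ∀ c : {c : Q // (c : G) * i = i * c ∧ (c : G) * j = j * c}, (c.1 : G) = 1 ∨ (c.1 : G) = s := by
        rintro ⟨c, hc1, hc2⟩
        refine D.center c c.2 fun q hq => ?_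
        have hcen : (c : G) * q = q * c := by
          obtain ⟨w, hw, h1, h2⟩ := D.split A hq
          have hwQ : w ∈ Q := by
            simp only [List.mem_cons, List.not_mem_nil, or_false] at hw
            rcases hw with rfl | rfl | rfl | rfl
            exacts [one_mem _, A.mem, D.norm i A.mem, mul_mem A.mem (D.norm i A.mem)]
          have hcw : Commute (c : G) w := by
            simp only [List.mem_cons, List.not_mem_nil, or_false] at hw
            rcases hw with rfl | rfl | rfl | rfl
            exacts [Commute.one_right _, hc1, hc2, (show Commute (c : G) i from hc1).mul_right hc2]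
          have := (show Commute (c : G) (q * w) from hcon c (q * w) ⟨c.2, hc1, hc2⟩ ⟨mul_mem hq hwQ, h1, h2⟩).mul_right
            hcw.inv_right
          rwa [mul_inv_cancel_right] at this
        exact hcen
      haveI := Fintype.ofFinite G
      have hle := Finset.card_le_card (s := (Finset.univ : Finset {c : Q // (c : G) * i = i * c ∧ (c : G) * j = j * c}).image
        fun c => (c.1 : G)) (t := {1, s}) fun g hg => by
        obtain ⟨c, -, rfl⟩ := Finset.mem_image.mp hg
        rcases hsub c with h | h <;> simp [h]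
      rw [Finset.card_image_of_injective _ (fun c c' h => Subtype.ext (Subtype.ext h)), Finset.card_univ,
        ← Nat.card_eq_fintype_card, hcard] at hle
      have := hle.trans Finset.card_le_two
      omega)
    (fun a ha => ⟨inv_mem ha.1, (Commute.inv_left ha.2.1).eq, (Commute.inv_left ha.2.2).eq⟩)
  exact ⟨k, A, hk, hk1.symm, hk2.symm⟩

end QData

end CfsgLib.C192
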