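import Cfsg.Agent.C192.Letters
import Cfsg.Agent.FGSA.Extraspecial
import Mathlib.GroupTheory.Sylow
import Mathlib.Tactic.Group

/-!
Two commuting quaternion groups inside an extraspecial group of order 32 with an automorphism of order three
fixing only the centre.
-/

set_option autoImplicit false
set_option linter.style.haveILetI false
set_option linter.unusedSectionVars false

namespace CfsgLib.C192

variable {G : Type*} [Group G]

theorem conj_comm_iff (y a b : G) :
    (y * a * y⁻¹) * (y * b * y⁻¹) = (y * b * y⁻¹) * (y * a * y⁻¹) ↔ a * b = b * a := by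
  rw [conj_mul, conj_mul, mul_left_inj, mul_right_inj]

/-- The data: an extraspecial group with centre `{1, s}` and an element `x` of order three. -/
structure QData (s : G) (Q : Subgroup G) (x : G) : Prop where
  sQ : s ∈ Q
  s1 : s ≠ 1
  ss : s * s = 1
  cen : ∀ q ∈ Q, s * q = q * s
  comm : ∀ a ∈ Q, ∀ b ∈ Q, a * b = b * a ∨ a * b = s * (b * a)
  sq : ∀ a ∈ Q, a * a = 1 ∨ a * a = s
  norm : ∀ a ∈ Q, x * a * x⁻¹ ∈ Q
  x3 : x ^ 3 = 1
  xs : x * s * x⁻¹ = s
  fix : ∀ a ∈ Q, x * a * x⁻¹ = a → a = 1 ∨ a = s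
  nonab : ∃ a ∈ Q, ∃ b ∈ Q, a * b ≠ b * a
  center : ∀ q ∈ Q, (∀ a ∈ Q, q * a = a * q) → q = 1 ∨ q = s
  card : Nat.card Q = 32

/-- A generator of a quaternion group normalized by `x`. -/
structure Quat (s : G) (Q : Subgroup G) (x i : G) : Prop where
  mem : i ∈ Q
  ii : i * i = s
  rel : i * (x * i * x⁻¹) = x * x * i * (x * x)⁻¹

namespace QData

variable {s x : G} {Q : Subgroup G} (D : QData s Q x)

include D

theorem s_inv : s⁻¹ = s := inv_eq_of_mul_eq_one_right D.ss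

theorem xxx : x * x * x = 1 := by
  have := D.x3
  rwa [pow_succ, pow_two] at this

theorem norm2 {a : G} (ha : a ∈ Q) : x * x * a * (x * x)⁻¹ ∈ Q := by
  have h := D.norm _ (D.norm a ha)
  rwa [show x * (x * a * x⁻¹) * x⁻¹ = x * x * a * (x * x)⁻¹ by group] at h

theorem cube_conj (a : G) : x * (x * (x * a * x⁻¹) * x⁻¹) * x⁻¹ = a := by
  calc _ = (x * x * x) * a * (x * x * x)⁻¹ := by group
    _ = a := by rw [D.xxx, one_mul, inv_one, mul_one]

theorem mul_of_ne {a b : G} (ha : a ∈ Q) (hb : b ∈ Q) (h : a * b ≠ b * a) : a * b = s * (b * a) :=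
  (D.comm a ha b hb).resolve_left h

/-- Commuting is bilinear. -/
theorem comm_mul_left {a b c : G} (ha : a ∈ Q) (hb : b ∈ Q) (hc : c ∈ Q) :
    (a * b) * c = c * (a * b) ↔ (a * c = c * a ↔ b * c = c * b) := by
  by_cases h1 : a * c = c * a <;> by_cases h2 : b * c = c * b
  · simp only [h1, h2, iff_self, iff_true]
    rw [mul_assoc, h2, ← mul_assoc, h1, mul_assoc]
  · simp only [h1, true_iff, iff_false]
    refine iff_of_false (fun h => h2 ?_) h2
    refine mul_left_cancel (a := a) ?_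
    rw [← mul_assoc, h, ← mul_assoc c a b, ← h1, mul_assoc]
  · simp only [h2, iff_true]
    refine iff_of_false (fun h => h1 ?_) h1
    refine mul_right_cancel (b := b) ?_
    rw [mul_assoc c a b, ← h, mul_assoc a c b, ← h2, ← mul_assoc]
  · simp only [h1, h2, iff_true]
    calc a * b * c = a * (b * c) := mul_assoc _ _ _
      _ = a * (s * (c * b)) := by rw [D.mul_of_ne hb hc h2]
      _ = s * (a * c) * b := by rw [← mul_assoc a s, ← D.cen a ha]; simp only [mul_assoc]
      _ = s * (s * (c * a)) * b := by rw [D.mul_of_ne ha hc h1]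
      _ = c * (a * b) := by rw [← mul_assoc s s, D.ss, one_mul, mul_assoc]

theorem comm_mul_right {a b c : G} (ha : a ∈ Q) (hb : b ∈ Q) (hc : c ∈ Q) :
    c * (a * b) = (a * b) * c ↔ (c * a = a * c ↔ c * b = b * c) := by
  rw [eq_comm, D.comm_mul_left ha hb hc]
  constructor <;> intro h <;> exact ⟨fun e => (h.mp e.symm).symm, fun e => (h.mpr e.symm).symm⟩

/-- The norm of `x` is central. -/
theorem norm_eq {a : G} (ha : a ∈ Q) :
    a * (x * a * x⁻¹) * (x * x * a * (x * x)⁻¹) = 1 ∨ a * (x * a * x⁻¹) * (x * x * a * (x * x)⁻¹) = s := by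
  set N := a * (x * a * x⁻¹) * (x * x * a * (x * x)⁻¹) with hN
  have hNQ : N ∈ Q := mul_mem (mul_mem ha (D.norm a ha)) (D.norm2 ha)
  refine D.fix N hNQ ?_
  have hb : (x * a * x⁻¹) * (x * x * a * (x * x)⁻¹) ∈ Q := mul_mem (D.norm a ha) (D.norm2 ha)
  have e1 : x * N * x⁻¹ = (x * a * x⁻¹) * (x * x * a * (x * x)⁻¹) * a := by
    rw [hN]
    calc x * (a * (x * a * x⁻¹) * (x * x * a * (x * x)⁻¹)) * x⁻¹
        = (x * a * x⁻¹) * (x * x * a * (x * x)⁻¹) * (x * (x * (x * a * x⁻¹) * x⁻¹) * x⁻¹) := by group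
      _ = _ := by rw [D.cube_conj]
  rcases D.comm a ha _ hb with h | h
  · rw [e1, ← h, hN]
    exact (mul_assoc _ _ _).symm
  · exfalso
    have e2 : x * N * x⁻¹ = s * N := by
      have h' : N = s * (x * N * x⁻¹) := by rw [e1, ← h, hN, mul_assoc]
      conv_rhs => rw [h', ← mul_assoc, D.ss, one_mul]
    have e4 := D.cube_conj N
    have hss : ∀ y : G, x * (s * y) * x⁻¹ = s * (x * y * x⁻¹) := fun y => by rw [← conj_mul, D.xs]
    rw [e2, hss, e2, hss, hss, e2, ← mul_assoc s s, D.ss, one_mul] at e4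
    exact D.s1 (mul_eq_right.mp e4)

/-- If every element commutes with its image under `x` then all commute. -/
theorem all_comm (P : G → Prop) (hPQ : ∀ a, P a → a ∈ Q) (hPm : ∀ a b, P a → P b → P (a * b))
    (hPx : ∀ a, P a → P (x * a * x⁻¹)) (h : ∀ a, P a → a * (x * a * x⁻¹) = (x * a * x⁻¹) * a)
    {u v : G} (hu : P u) (hv : P v) : u * v = v * u := by
  have huQ := hPQ u hu
  have hvQ := hPQ v hv
  have hxu := D.norm u huQ
  have hxv := D.norm v hvQ
  have h0 := h (u * v) (hPm u v hu hv)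
  rw [← conj_mul, D.comm_mul_left huQ hvQ (mul_mem hxu hxv), D.comm_mul_right hxu hxv huQ,
    D.comm_mul_right hxu hxv hvQ] at h0
  have h1 := h u hu
  have h2 := h v hv
  -- `u` commutes with `x v` exactly when `v` commutes with `x u`, and so with `x² v`
  have h3 : u * (x * v * x⁻¹) = (x * v * x⁻¹) * u ↔ u * (x * x * v * (x * x)⁻¹) = (x * x * v * (x * x)⁻¹) * u := by
    have h4 : u * (x * v * x⁻¹) = (x * v * x⁻¹) * u ↔ v * (x * u * x⁻¹) = (x * u * x⁻¹) * v := by tauto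
    rw [h4, ← conj_comm_iff (x * x) v (x * u * x⁻¹),
      show x * x * (x * u * x⁻¹) * (x * x)⁻¹ = x * (x * (x * u * x⁻¹) * x⁻¹) * x⁻¹ by group, D.cube_conj]
    exact ⟨Eq.symm, Eq.symm⟩
  set p := (x * v * x⁻¹) * (x * x * v * (x * x)⁻¹) with hp
  have h5 : u * p = p * u := (D.comm_mul_right hxv (D.norm2 hvQ) huQ).mpr h3
  have hpQ : p ∈ Q := mul_mem hxv (D.norm2 hvQ)
  have hvp : v * p = 1 ∨ v * p = s := by
    have := D.norm_eq hvQ
    rwa [hp, ← mul_assoc]
  have h6 : u * (v * p) = (v * p) * u := by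
    rcases hvp with e | e <;> rw [e]
    · rw [mul_one, one_mul]
    · exact (D.cen u huQ).symm
  have h7 := (D.comm_mul_right hvQ hpQ huQ).mp h6
  exact h7.mpr h5

/-- A quaternion generator inside an invariant non-abelian part. -/
theorem exists_quat (P : G → Prop) (hPQ : ∀ a, P a → a ∈ Q) (hPm : ∀ a b, P a → P b → P (a * b))
    (hPx : ∀ a, P a → P (x * a * x⁻¹)) (hnon : ∃ a b, P a ∧ P b ∧ a * b ≠ b * a) (hPi : ∀ a, P a → P a⁻¹) :
    ∃ i, P i ∧ Quat s Q x i := by
  obtain ⟨i, hi, hne⟩ : ∃ i, P i ∧ i * (x * i * x⁻¹) ≠ (x * i * x⁻¹) * i := by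
    by_contra hcon
    push Not at hcon
    obtain ⟨a, b, ha, hb, hab⟩ := hnon
    exact hab (D.all_comm P hPQ hPm hPx hcon ha hb)
  have hiQ := hPQ i hi
  have hj := D.norm i hiQ
  have hk := D.norm2 hiQ
  set j := x * i * x⁻¹ with hjdef
  set k := x * x * i * (x * x)⁻¹ with hkdef
  have hii : i * i = s := by
    refine (D.sq i hiQ).resolve_left fun h1 => hne ?_
    have hji : j⁻¹ = j := by
      rw [inv_eq_of_mul_eq_one_right]
      rw [hjdef, conj_mul, h1, mul_one, mul_inv_cancel]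
    have hki : k⁻¹ = k := by
      rw [inv_eq_of_mul_eq_one_right]
      rw [hkdef, conj_mul, h1, mul_one, mul_inv_cancel]
    have hij : (i * j)⁻¹ = i * j := by
      rcases D.norm_eq hiQ with h | h
      · rw [← hjdef, ← hkdef, mul_eq_one_iff_eq_inv, hki] at h
        rw [h, hki]
      · rw [← hjdef, ← hkdef, ← eq_mul_inv_iff_mul_eq, hki] at h
        rw [h, mul_inv_rev, hki, D.s_inv, D.cen k hk]
    calc i * j = (i * j)⁻¹ := hij.symm
      _ = j * i := by rw [mul_inv_rev, hji, inv_eq_of_mul_eq_one_right h1]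
  have hjj : j * j = s := by rw [hjdef, conj_mul, hii, D.xs]
  have hkk : k * k = s := by
    rw [hkdef, conj_mul, hii, show x * x * s * (x * x)⁻¹ = x * (x * s * x⁻¹) * x⁻¹ by group, D.xs, D.xs]
  have hkinv : k⁻¹ = s * k := inv_eq_of_mul_eq_one_right (by rw [D.cen k hk, ← mul_assoc, hkk, D.ss])
  rcases D.norm_eq hiQ with h | h
  · rw [← hjdef, ← hkdef, mul_eq_one_iff_eq_inv] at h
    refine ⟨i⁻¹, hPi i hi, inv_mem hiQ, by rw [← mul_inv_rev, hii, D.s_inv], ?_⟩
    have hiinv : i⁻¹ = s * i := inv_eq_of_mul_eq_one_right (by rw [D.cen i hiQ, ← mul_assoc, hii, D.ss])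
    have e : i⁻¹ * j⁻¹ = i * j := by
      have hjinv : j⁻¹ = s * j := inv_eq_of_mul_eq_one_right (by rw [D.cen j hj, ← mul_assoc, hjj, D.ss])
      rw [hiinv, hjinv, mul_assoc, ← mul_assoc i s j, ← D.cen i hiQ, mul_assoc, ← mul_assoc, D.ss, one_mul]
    rw [show x * i⁻¹ * x⁻¹ = j⁻¹ by rw [hjdef, conj_inv], show x * x * i⁻¹ * (x * x)⁻¹ = k⁻¹ by rw [hkdef, conj_inv], e, h]
  · refine ⟨i, hi, hiQ, hii, ?_⟩
    rw [← hjdef, ← hkdef, ← eq_mul_inv_iff_mul_eq] at h
    show i * j = k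
    rw [h, hkinv, ← mul_assoc, D.ss, one_mul]

end QData

namespace Quat

variable {s x i : G} {Q : Subgroup G} (D : QData s Q x) (A : Quat s Q x i)

include D A

theorem jj : (x * i * x⁻¹) * (x * i * x⁻¹) = s := by rw [conj_mul, A.ii, D.xs]

theorem kk : (x * x * i * (x * x)⁻¹) * (x * x * i * (x * x)⁻¹) = s := by
  rw [conj_mul, A.ii, show x * x * s * (x * x)⁻¹ = x * (x * s * x⁻¹) * x⁻¹ by group, D.xs, D.xs]

theorem ne_comm : i * (x * i * x⁻¹) ≠ (x * i * x⁻¹) * i := by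
  intro h
  have hk := A.kk D
  rw [← A.rel, mul_assoc, ← mul_assoc (x * i * x⁻¹), ← h, mul_assoc i, A.jj D, ← mul_assoc, A.ii, D.ss] at hk
  exact D.s1 hk.symm

theorem not_central : i ≠ 1 ∧ i ≠ s :=
  ⟨fun h => A.ne_comm D (by rw [h]; group), fun h => A.ne_comm D (by rw [h, D.xs])⟩

theorem inv_eq : i⁻¹ = s * i :=
  inv_eq_of_mul_eq_one_right (by rw [D.cen i A.mem, ← mul_assoc, A.ii, D.ss])

theorem conj : Quat s Q x (x * i * x⁻¹) := by
  refine ⟨D.norm i A.mem, A.jj D, ?_⟩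
  have h := congrArg (fun y => x * y * x⁻¹) A.rel
  rw [← conj_mul] at h
  rw [h]; group

/-- The rule `k i = j`. -/
theorem ki : (x * x * i * (x * x)⁻¹) * i = x * i * x⁻¹ := by
  have h := ((A.conj D).conj D).rel
  rw [show x * (x * i * x⁻¹) * x⁻¹ = x * x * i * (x * x)⁻¹ by group] at h
  rw [show x * (x * x * i * (x * x)⁻¹) * x⁻¹ = i by
    conv_rhs => rw [← D.cube_conj i]
    group,
    show x * x * (x * x * i * (x * x)⁻¹) * (x * x)⁻¹ = x * (x * (x * (x * i * x⁻¹) * x⁻¹) * x⁻¹) * x⁻¹ by group,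
    D.cube_conj] at h
  exact h

end Quat

namespace QData

variable {s x i : G} {Q : Subgroup G} (D : QData s Q x) (A : Quat s Q x i)

include D A

/-- The elements of `Q` commuting with the quaternion group of `i`. -/
theorem split {q : G} (hq : q ∈ Q) : ∃ w ∈ [1, i, x * i * x⁻¹, i * (x * i * x⁻¹)],
    (q * w) * i = i * (q * w) ∧ (q * w) * (x * i * x⁻¹) = (x * i * x⁻¹) * (q * w) := by
  set j := x * i * x⁻¹ with hj
  have hjQ := D.norm i A.mem
  have hne := A.ne_comm D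
  have hne' : j * i ≠ i * j := fun h => hne h.symm
  by_cases h1 : q * i = i * q <;> by_cases h2 : q * j = j * q
  · exact ⟨1, by simp, by rw [mul_one, h1], by rw [mul_one, h2]⟩
  · refine ⟨i, by simp, (D.comm_mul_left hq A.mem A.mem).mpr (by simp [h1]),
      (D.comm_mul_left hq A.mem hjQ).mpr (iff_of_false h2 hne)⟩
  · refine ⟨j, by simp, (D.comm_mul_left hq hjQ A.mem).mpr (iff_of_false h1 hne'),
      (D.comm_mul_left hq hjQ hjQ).mpr (iff_of_true h2 rfl)⟩
  · have hij : (i * j) * i ≠ i * (i * j) := by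
      rw [ne_eq, D.comm_mul_left A.mem hjQ A.mem]; exact fun h => hne' (h.mp rfl)
    have hij' : (i * j) * j ≠ j * (i * j) := by
      rw [ne_eq, D.comm_mul_left A.mem hjQ hjQ]; exact fun h => hne (h.mpr rfl)
    exact ⟨i * j, by simp, (D.comm_mul_left hq (mul_mem A.mem hjQ) A.mem).mpr (iff_of_false h1 hij),
      (D.comm_mul_left hq (mul_mem A.mem hjQ) hjQ).mpr (iff_of_false h2 hij')⟩

end QData

end CfsgLib.C192
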