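import Cfsg.Agent.C192.Word
import Cfsg.Agent.C192.T01Data

/-! A checked table for one of the centralizers of order 192. -/

set_option autoImplicit false
set_option maxRecDepth 100000

namespace CfsgLib.C192.T01

open CfsgLib.Coset
open CfsgLib.J2U (pathW checkPath)

theorem hR : checkRules (relsC false true) subs R = true := by decide +kernel
theorem hdefs : checkDefs E 8 8 192 = true := by decide +kernel
theorem hsteps : checkChunks E ivC R 8 4 192 10 C = true := by decide +kernel
theorem htable : checkTable E ivC (192 + chunk * 10) 192 8 8 3 Rep Ref Tb = true := by decide +kernel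
theorem hpath : checkPath Tb Par 12 192 8 8 = true := by decide +kernel
theorem hm : mulOK Tb Par m = true := by decide +kernel

variable {G : Type*} [Group G]

/-- The coordinates on a centralizer given by generators satisfying the relators. -/
theorem cod {z : G} {L : List G} (hlen : L.length = 8) (hrel : ∀ w ∈ relsC false true, ev L w = 1)
    (hgen : Subgroup.closure {x | x ∈ L} = Subgroup.centralizer ({z} : Set G))
    (hcard : Nat.card (Subgroup.centralizer ({z} : Set G)) = 192) (hz : z = ev L [0, 0]) :
    Cod z m 9 (fun i => ev L (pathW Par 12 i)) :=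
  cod_of_table hlen (tableOK_of_check (inv_of_rels hlen hrel) hR (hlen ▸ hdefs) (hlen ▸ hsteps)
    (hlen ▸ htable) hrel (by simp [subs])) (hlen ▸ hpath) hm hgen hcard hz (by decide +kernel)

/-- The element of a word. -/
theorem word {L : List G} (hlen : L.length = 8) (hrel : ∀ w ∈ relsC false true, ev L w = 1) {w : List Nat}
    (hw : ∀ l ∈ w, l < 8) {n : Nat} (hn : follow (tget Tb) 0 w = n) :
    n < 192 ∧ ev L w = ev L (pathW Par 12 n) :=
  word_of_table hlen (tableOK_of_check (inv_of_rels hlen hrel) hR (hlen ▸ hdefs) (hlen ▸ hsteps)
    (hlen ▸ htable) hrel (by simp [subs])) (hlen ▸ hpath) hw hn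

end CfsgLib.C192.T01
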