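import Cfsg.Agent.C192.Cod

/-!
Words and node lists on a centralizer of order 192.
-/

set_option autoImplicit false
set_option linter.unusedSectionVars false
set_option maxRecDepth 100000

namespace CfsgLib.C192

open CfsgLib.Coset CfsgLib.Invol
open CfsgLib.J2U (pathW checkPath ev_eq_of_follow checkPath_iff follow_lt)

variable {G : Type*} [Group G]

theorem word_of_table {L : List G} {E iv : Nat → Nat} {Rep Tb Par : Nat → Nat}
    (hlen : L.length = 8) (hT : TableOK L (⊥ : Subgroup G) E iv 192 Rep Tb)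
    (hp : checkPath Tb Par 12 192 L.length 8 = true) {w : List Nat} (hw : ∀ l ∈ w, l < 8) {n : Nat}
    (hn : follow (tget Tb) 0 w = n) : n < 192 ∧ ev L w = ev L (pathW Par 12 n) := by
  have h0 : (0 : Nat) < 192 := by norm_num
  have hl : ∀ l ∈ w, l < L.length := hlen.symm ▸ hw
  have hlt := hn ▸ follow_lt hT w 0 h0 hl
  obtain ⟨h1, h2⟩ := checkPath_iff hp hlt
  exact ⟨hlt, ev_eq_of_follow hT h0 hl h1 (hn.trans h2.symm)⟩

/-- The node of a word in a list of nodes. -/
noncomputable def evN (m : Nat → Nat → Nat) (ns : List Nat) (w : List Nat) : Nat :=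
  w.foldl (fun a l => m a (ns.getD l 0)) 0

/-- Is the list closed under products? -/
noncomputable def closB (m : Nat → Nat → Nat) (S : List Nat) : Bool :=
  S.all fun i => Nat.blt i 192 && S.all fun j => S.contains (m i j)

/-- Does a node have an inverse in the list? -/
noncomputable def invsB (m : Nat → Nat → Nat) (S : List Nat) : Bool :=
  S.all fun i => S.any fun j => Nat.beq (m i j) 0

namespace Cod

variable {z : G} {m : Nat → Nat → Nat} {c : Nat} {el : Nat → G} (C : Cod z m c el)

include C

theorem evN_eq {ns : List Nat} (hns : ∀ i ∈ ns, i < 192) {L : List G} (hL : L = ns.map el) (w : List Nat) :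
    evN m ns w < 192 ∧ ev L w = el (evN m ns w) := by
  have hget : ∀ l, ns.getD l 0 < 192 ∧ fl L l = el (ns.getD l 0) := fun l => by
    subst hL
    by_cases hl : l < ns.length
    · rw [List.getD_eq_getElem _ _ hl]
      refine ⟨hns _ (List.getElem_mem hl), ?_⟩
      simp [fl, List.getD_eq_getElem, hl]
    · rw [List.getD_eq_default _ _ (not_lt.mp hl), fl_of_le _ (by simpa using hl), C.one]
      exact ⟨by norm_num, rfl⟩
  have key : ∀ (w : List Nat) (a : Nat), a < 192 →
      w.foldl (fun a l => m a (ns.getD l 0)) a < 192 ∧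
        el a * ev L w = el (w.foldl (fun a l => m a (ns.getD l 0)) a) := by
    intro w
    induction w with
    | nil => intro a ha; exact ⟨ha, by rw [ev_nil, mul_one]; rfl⟩
    | cons l w ih =>
      intro a ha
      obtain ⟨h1, h2⟩ := hget l
      obtain ⟨i1, i2⟩ := ih _ (C.lt a ha _ h1)
      refine ⟨i1, ?_⟩
      rw [ev_cons, h2, ← mul_assoc, C.mul a ha _ h1]
      exact i2
  obtain ⟨k1, k2⟩ := key w 0 (by norm_num)
  refine ⟨k1, ?_⟩
  show ev L w = el (w.foldl (fun a l => m a (ns.getD l 0)) 0)
  rw [← k2, C.one, one_mul]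

theorem closure_nodes {S : List Nat} (h0 : S.contains 0 = true) (hS : closB m S = true) (hi : invsB m S = true)
    {s : Set G} (hs : ∀ x ∈ s, ∃ i ∈ S, x = el i) {x : G} (hx : x ∈ Subgroup.closure s) : ∃ i ∈ S, x = el i := by
  simp only [closB, List.all_eq_true, Bool.and_eq_true, Nat.blt_eq, List.contains_iff_mem] at hS
  simp only [invsB, List.all_eq_true, List.any_eq_true] at hi
  induction hx using Subgroup.closure_induction with
  | mem x hx => exact hs x hx
  | one => exact ⟨0, List.contains_iff_mem.mp h0, C.one.symm⟩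
  | mul x y _ _ ihx ihy =>
    obtain ⟨i, hi', rfl⟩ := ihx
    obtain ⟨j, hj', rfl⟩ := ihy
    exact ⟨m i j, (hS i hi').2 j hj', C.mul i (hS i hi').1 j (hS j hj').1⟩
  | inv x _ ih =>
    obtain ⟨i, hi', rfl⟩ := ih
    obtain ⟨j, hj', hij⟩ := hi i hi'
    refine ⟨j, hj', inv_eq_of_mul_eq_one_right ?_⟩
    rw [C.mul i (hS i hi').1 j (hS j hj').1, Nat.eq_of_beq_eq_true hij, C.one]

end Cod

end CfsgLib.C192
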